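import Groth.Agent.ZeroAcyclic.UnitIso
import Groth.Agent.EtaleShriek.BCCriterion
import Groth.Agent.EtCd.PointsSheaf
import Groth.Agent.EtaleBase.DisjointGlue

/-!
Surjective zero acyclic morphisms pull connected étale schemes back to connected schemes.
-/

set_option autoImplicit false
set_option backward.isDefEq.respectTransparency.types false
set_option linter.style.haveILetI false

universe u

open CategoryTheory CategoryTheory.Limits AlgebraicGeometry Opposite TopologicalSpace

namespace Groth.ZeroAcyclic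

open Groth.EtaleShriek.FlatConnBC
open Groth.EtaleBase (openObj openHom mem_topology_iff geomPoint geomPoint_apply fiberPoint)
open Groth.DescentBase (shSection_ext agreeSet isOpen_agreeSet shGerm_eq_iff_mem)

/-- Sections over the two halves of a clopen decomposition glue. -/
theorem exists_glue_compl {X : Scheme.{u}} (F : EtDesc.Sh X) (U : X.Etale) (O : Bool → U.left.Opens)
    (hd : ∀ a b, a ≠ b → Disjoint (O a) (O b)) (hc : ∀ u : U.left, ∃ a, u ∈ O a)
    (x : ∀ a, F.obj.obj (op (openObj U (O a)))) :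
    ∃ s : F.obj.obj (op U), ∀ a, F.obj.map (openHom U (O a)).op s = x a := by
  have hcov : Sieve.generate (Presieve.ofArrows _ fun a => openHom U (O a)) ∈
      X.smallEtaleTopology U := by
    rw [mem_topology_iff]
    intro u
    obtain ⟨a, ha⟩ := hc u
    exact ⟨_, openHom U (O a), ⟨u, ha⟩, Sieve.le_generate _ _ _ (Presieve.ofArrows.mk a), rfl⟩
  have hF := ((isSheaf_iff_isSheaf_of_type _ _).1 F.property) _ hcov
  rw [← Presieve.isSheafFor_iff_generate, Presieve.isSheafFor_arrows_iff] at hF
  refine (hF x fun a b Z ga gb he => ?_).exists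
  by_cases hab : a = b
  · subst hab
    have : ga = gb := by
      refine MorphismProperty.Over.Hom.ext ?_
      exact (cancel_mono (O a).ι).1 (congrArg (fun m : Z ⟶ U => m.left) he)
    rw [this]
  · refine shSection_ext F Z _ _ fun z => ?_
    exfalso
    have h1 : (O a).ι.base (ga.left.base z) = (O b).ι.base (gb.left.base z) :=
      (Scheme.Hom.comp_apply _ _ _).symm.trans
        ((congrArg (fun m : Z ⟶ U => m.left.base z) he).trans (Scheme.Hom.comp_apply _ _ _))
    have h2 : (O a).ι.base (ga.left.base z) ∈ O b := h1 ▸ (gb.left.base z).2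
    exact (disjoint_iff.1 (hd a b hab)).le ⟨(ga.left.base z).2, h2⟩

/-- The predicate with constant value. -/
noncomputable def cst {T : Scheme.{u}} (V : T.Etale) (b : Bool) :
    (Groth.EtCdPointsSheaf.pointsSh (Set.univ : Set T)).obj.obj (op V) :=
  ⟨fun _ => b = true⟩

lemma eq_of_mem_agreeSet {T : Scheme.{u}} {b₁ b₂ : Bool} {V : T.Etale}
    {σ : (Groth.EtCdPointsSheaf.pointsSh (Set.univ : Set T)).obj.obj (op V)} {x : V.left}
    (h₁ : x ∈ agreeSet _ V σ (cst V b₁)) (h₂ : x ∈ agreeSet _ V σ (cst V b₂)) : b₁ = b₂ := by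
  obtain ⟨V₁, g₁, ⟨v₁, rfl⟩, h₁⟩ := h₁
  obtain ⟨V₂, g₂, ⟨v₂, hv₂⟩, h₂⟩ := h₂
  have e₁ := congrFun (congrArg ULift.down h₁) ⟨v₁, Set.mem_univ _⟩
  have e₂ := congrFun (congrArg ULift.down h₂) ⟨v₂, Set.mem_univ _⟩
  have e : (b₁ = true) = (b₂ = true) := by
    refine e₁.symm.trans (Eq.trans ?_ e₂)
    exact congrArg σ.down (Subtype.ext hv₂.symm)
  cases b₁ <;> cases b₂ <;> simp_all

set_option maxHeartbeats 1000000 in
/-- A morphism with bijective units pulls a connected base back to a connected scheme. -/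
theorem preconnectedSpace_of_isIso_unit {Q T : Scheme.{u}} (μ : Q ⟶ T) [Surjective μ] [PreconnectedSpace T]
    (h : ∀ F : EtDesc.Sh T, IsIso ((EtDesc.adjSh μ).unit.app F)) : PreconnectedSpace Q := by
  rw [preconnectedSpace_iff_clopen]
  intro A hA
  let V := EtCoh.top T
  let F := Groth.EtCdPointsSheaf.pointsSh (Set.univ : Set T)
  let B := (EtCoh.bc μ).obj V
  let q : B.left ⟶ Q := pullback.snd (𝟙 T) μ
  haveI : IsIso q := inferInstanceAs (IsIso (pullback.snd (𝟙 T) μ))
  let O : Bool → B.left.Opens := fun a =>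
    if a then ⟨q ⁻¹' A, hA.isOpen.preimage q.continuous⟩
    else ⟨q ⁻¹' Aᶜ, hA.isClosed.isOpen_compl.preimage q.continuous⟩
  have hd : ∀ a b, a ≠ b → Disjoint (O a) (O b) := by
    intro a b hab
    rw [disjoint_iff]
    refine Opens.ext (Set.eq_empty_of_forall_notMem fun z hz => ?_)
    cases a <;> cases b
    · exact hab rfl
    · exact hz.1 hz.2
    · exact hz.2 hz.1
    · exact hab rfl
  have hc : ∀ z : B.left, ∃ a, z ∈ O a := fun z => by
    by_cases hz : q z ∈ A
    · exact ⟨true, hz⟩
    · exact ⟨false, hz⟩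
  obtain ⟨s, hs⟩ := exists_glue_compl ((EtDesc.pullSh μ).obj F) B O hd hc fun a =>
    ((EtDesc.pullSh μ).obj F).obj.map (openHom B (O a)).op (un μ F V (cst V a))
  haveI := h F
  obtain ⟨σ, hσ⟩ : ∃ σ, un μ F V σ = s :=
    ((isIso_iff_bijective (((EtDesc.adjSh μ).unit.app F).hom.app (op V))).1
      (inferInstanceAs (IsIso (((sheafToPresheaf _ _).map ((EtDesc.adjSh μ).unit.app F)).app (op V))))).2 s
  have hrel : ∀ (τ : F.obj.obj (op V)) (K : Type u) [Field K] [IsSepClosed K]
      (m : Spec (CommRingCat.of K) ⟶ B.left),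
      Rel μ F (un μ F V τ) m V (m ≫ pullback.fst V.hom μ) τ := by
    intro τ K _ _ m
    have h := rel_map (e := μ) (F := F) (B := B) (𝟙 _) τ m
    rw [show ((EtDesc.pullSh μ).obj F).obj.map (𝟙 B).op = 𝟙 _ from CategoryTheory.Functor.map_id _ _,
      ConcreteCategory.id_apply] at h
    rwa [show m ≫ (𝟙 B : _ ⟶ _).left ≫ pullback.fst V.hom μ = m ≫ pullback.fst V.hom μ from
      congrArg (m ≫ ·) (Category.id_comp _)] at h
  have key : ∀ (a : Bool) (z : B.left), z ∈ O a → pullback.fst V.hom μ z ∈ agreeSet F V σ (cst V a) := by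
    intro a z hz
    let m' := geomPoint (X := (openObj B (O a)).left) ⟨z, hz⟩
    let r := openHom B (O a)
    have h1 := (rel_src r (un μ F V σ) m' (m' ≫ r.left ≫ pullback.fst V.hom μ) σ).2
      (by rw [← Category.assoc]; exact hrel σ _ (m' ≫ r.left))
    have h2 := (rel_src r (un μ F V (cst V a)) m' (m' ≫ r.left ≫ pullback.fst V.hom μ) (cst V a)).2
      (by rw [← Category.assoc]; exact hrel (cst V a) _ (m' ≫ r.left))
    rw [hσ, hs a] at h1
    have h3 := (shGerm_eq_iff_mem _ F V σ (cst V a) _).1 (h1.sg_eq h2 _ rfl rfl)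
    have hp : (m' ≫ r.left ≫ pullback.fst V.hom μ) default = pullback.fst V.hom μ z := by
      rw [Scheme.Hom.comp_apply, Scheme.Hom.comp_apply, geomPoint_apply]
      rfl
    exact hp ▸ h3
  let P : Bool → Set ↥V.left := fun a => agreeSet F V σ (cst V a)
  have hcovT : P true ∪ P false = Set.univ := by
    refine Set.eq_univ_of_forall fun t => ?_
    have : Surjective (pullback.fst V.hom μ) := inferInstance
    obtain ⟨z, rfl⟩ := (pullback.fst V.hom μ).surjective t
    obtain ⟨a, ha⟩ := hc z
    cases a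
    · exact Or.inr (key false z ha)
    · exact Or.inl (key true z ha)
  have hdis : ∀ t, t ∈ P true → t ∉ P false := fun t h1 h2 => absurd (eq_of_mem_agreeSet h1 h2) (by simp)
  have hcl : IsClopen (P true) := by
    refine ⟨?_, isOpen_agreeSet _ _ _ _⟩
    rw [← isOpen_compl_iff]
    have : (P true)ᶜ = P false := Set.ext fun t => ⟨fun ht => (hcovT.ge (Set.mem_univ t)).resolve_left ht,
      fun ht h1 => hdis t h1 ht⟩
    exact this ▸ isOpen_agreeSet _ _ _ _
  haveI : PreconnectedSpace ↥V.left := inferInstanceAs (PreconnectedSpace ↥T)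
  rcases isClopen_iff.1 hcl with hP | hP
  · refine Or.inl (Set.eq_empty_of_forall_notMem fun x hx => ?_)
    obtain ⟨z, rfl⟩ := (q.homeomorph).surjective x
    exact hP.le (key true z hx)
  · refine Or.inr (Set.eq_univ_of_forall fun x => ?_)
    obtain ⟨z, rfl⟩ := (q.homeomorph).surjective x
    by_contra hx
    exact hdis _ (hP.ge (Set.mem_univ _)) (key false z hx)

/-- Zero acyclic morphisms pull connected étale schemes back to preconnected schemes. -/
theorem preconnectedSpace_pullback {Q P : Scheme.{u}} (p : Q ⟶ P) (h : EtAcyc.IsZeroAcyclic p) [Surjective p]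
    (V : P.Etale) [PreconnectedSpace V.left] : PreconnectedSpace ↥(pullback V.hom p) :=
  haveI : Surjective (EtAcyc.prj p V) := inferInstanceAs (Surjective (pullback.fst V.hom p))
  preconnectedSpace_of_isIso_unit (EtAcyc.prj p V) (h V)

end Groth.ZeroAcyclic
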