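import Groth.Agent.ZeroAcyclic.StrictLocal
import Groth.Agent.ZeroAcyclic.ClopenSections
import Groth.Agent.EtaleBase.BCZero.Connected
import Groth.Agent.Hensel1.Unibranch
import Groth.Agent.Calg5.ConnIdem
import Groth.Agent.S13198

/-!
Maps of strictly henselian local schemes coming from universally locally zero acyclic morphisms have
geometrically connected fibres.
-/

set_option autoImplicit false
set_option linter.style.haveILetI false

universe u

open CategoryTheory CategoryTheory.Limits AlgebraicGeometry Opposite IsLocalRing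
open scoped TensorProduct

namespace Groth.ZeroAcyclic

attribute [local instance] Algebra.TensorProduct.rightAlgebra

/-- An idempotent over a localization is defined at a finite stage. -/
theorem exists_idem_stage {C T L : Type u} [CommRing C] [CommRing T] [Algebra C T] [CommRing L] [Algebra C L]
    (M : Submonoid C) [IsLocalization M L] (e : L ⊗[C] T) (he : e * e = e) :
    ∃ d ∈ M, ∃ (φ : Localization.Away d →ₐ[C] L) (e₀ : Localization.Away d ⊗[C] T),
      IsIdempotentElem e₀ ∧ Algebra.TensorProduct.map φ (AlgHom.id C T) e₀ = e := by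
  obtain ⟨x, ⟨_, c, hc, rfl⟩, hx⟩ :=
    IsLocalization.exists_mk'_eq (Algebra.algebraMapSubmonoid T M) e
  rw [IsLocalization.mk'_eq_iff_eq_mul] at hx
  have hker : algebraMap T (L ⊗[C] T) (x * x) = algebraMap T (L ⊗[C] T) (algebraMap C T c * x) := by
    rw [map_mul, map_mul, hx]
    calc e * algebraMap T _ (algebraMap C T c) * (e * algebraMap T _ (algebraMap C T c))
        = (e * e) * (algebraMap T _ (algebraMap C T c) * algebraMap T _ (algebraMap C T c)) := by ring
      _ = _ := by rw [he]; ring
  obtain ⟨⟨_, c', hc', rfl⟩, hcc'⟩ :=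
    (IsLocalization.eq_iff_exists (Algebra.algebraMapSubmonoid T M) (L ⊗[C] T)).1 hker
  let d : C := c * c'
  have hd : d ∈ M := mul_mem hc hc'
  let φ : Localization.Away d →ₐ[C] L := IsLocalization.liftAlgHom (M := Submonoid.powers d) (f := Algebra.ofId C L)
    fun y => IsLocalization.map_units L (⟨y.1, (Submonoid.powers_le.2 hd) y.2⟩ : M)
  let i : Localization.Away d := IsLocalization.Away.invSelf d
  have hi : algebraMap C (Localization.Away d) d * i = 1 := IsLocalization.Away.mul_invSelf d
  refine ⟨d, hd, φ, i ⊗ₜ (algebraMap C T c' * x), ?_, ?_⟩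
  · show _ * _ = _
    rw [Algebra.TensorProduct.tmul_mul_tmul]
    have h1 : algebraMap C T c' * x * (algebraMap C T c' * x) = d • (algebraMap C T c' * x) := by
      rw [Algebra.smul_def, map_mul, mul_mul_mul_comm, mul_assoc, hcc']
      ring
    rw [h1, ← TensorProduct.smul_tmul, Algebra.smul_def, ← mul_assoc, hi, one_mul]
  · have hd' : algebraMap C L d ⊗ₜ[C] (1 : T) = algebraMap T (L ⊗[C] T) (algebraMap C T d) :=
      Algebra.TensorProduct.tmul_one_eq_one_tmul d
    have hu : IsUnit (algebraMap C L d ⊗ₜ[C] (1 : T)) :=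
      (IsLocalization.map_units L (⟨d, hd⟩ : M)).map
        (Algebra.TensorProduct.includeLeft : L →ₐ[C] L ⊗[C] T)
    refine hu.mul_left_cancel ?_
    show (algebraMap C L d ⊗ₜ[C] (1 : T)) * (φ i ⊗ₜ[C] (algebraMap C T c' * x)) = _
    rw [Algebra.TensorProduct.tmul_mul_tmul, one_mul, ← φ.commutes, ← map_mul, hi, map_one, φ.commutes, hd']
    show algebraMap T (L ⊗[C] T) (algebraMap C T c' * x) = _
    rw [map_mul, hx, map_mul, map_mul]
    ring

variable {X S : Scheme.{u}} (f : X ⟶ S) (hf : EtAcyc.IsULocZeroAcyclic f)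
  (RS RX : Type u) [CommRing RS] [CommRing RX] [HenselianLocalRing RS] [HenselianLocalRing RX]
  [IsSepClosed (ResidueField RS)] [IsSepClosed (ResidueField RX)]
  [Algebra RS RX] [IsLocalHom (algebraMap RS RX)]
  (σ : Spec (CommRingCat.of RS) ⟶ S)
  (k : Spec (CommRingCat.of RX) ⟶ pullback f σ) [WeaklyEtale k]
  (hk : k ≫ pullback.snd f σ = Spec.map (CommRingCat.ofHom (algebraMap RS RX)))

include hf hk in
set_option maxHeartbeats 1000000 in
/-- After an integral local base change the map stays zero acyclic and local. -/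
theorem isZeroAcyclic_integral (C : Type u) [CommRing C] [IsLocalRing C] [Algebra RS C]
    [Algebra.IsIntegral RS C] :
    EtAcyc.IsZeroAcyclic (Spec.map (CommRingCat.ofHom (algebraMap C (C ⊗[RS] RX)))) := by
  haveI : IsLocalHom (algebraMap RS C) := Groth.Hensel1.isLocalHom_of_isIntegral' RS C
  haveI := Groth.Hensel1.isAlgebraic_residueField RS C
  haveI : IsPurelyInseparable (ResidueField RS) (ResidueField C) :=
    Algebra.IsAlgebraic.isPurelyInseparable_of_isSepClosed
  haveI := Groth.Hensel1.isSepClosed_of_isAlgebraic (ResidueField RS) (ResidueField C)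
  haveI := Groth.EtaleAlgebra.henselianLocalRing_of_isIntegral RS C
  obtain ⟨hloc, hlocR, -⟩ := Groth.Agent.S13198.result RS C RX
  haveI := hloc
  haveI : Algebra.IsIntegral RX (C ⊗[RS] RX) :=
    Algebra.IsIntegral.of_surjective (Algebra.TensorProduct.commRight RS RX C).toAlgHom
      (Algebra.TensorProduct.commRight RS RX C).surjective
  haveI : IsLocalHom (algebraMap RX (C ⊗[RS] RX)) := hlocR
  haveI := Groth.Hensel1.isAlgebraic_residueField RX (C ⊗[RS] RX)
  haveI := Groth.Hensel1.isSepClosed_of_isAlgebraic (ResidueField RX) (ResidueField (C ⊗[RS] RX))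
  haveI := Groth.EtaleAlgebra.henselianLocalRing_of_isIntegral RX (C ⊗[RS] RX)
  let ψC : C →+* C ⊗[RS] RX := algebraMap C (C ⊗[RS] RX)
  have hcomm : ψC.comp (algebraMap RS C) = (algebraMap RX (C ⊗[RS] RX)).comp (algebraMap RS RX) :=
    RingHom.ext fun r => ((Algebra.TensorProduct.includeLeft : C →ₐ[RS] C ⊗[RS] RX).commutes r).trans
      ((Algebra.TensorProduct.includeRight : RX →ₐ[RS] C ⊗[RS] RX).commutes r).symm
  haveI : IsLocalHom ψC := by
    refine ((IsLocalRing.local_hom_TFAE ψC).out 0 4).mpr (IsLocalRing.eq_maximalIdeal ?_)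
    refine Ideal.isMaximal_of_isIntegral_of_isMaximal_comap (R := RS) _ ?_
    have hl : IsLocalHom ((algebraMap RX (C ⊗[RS] RX)).comp (algebraMap RS RX)) := inferInstance
    have hm : (maximalIdeal (C ⊗[RS] RX)).comap ((algebraMap RX (C ⊗[RS] RX)).comp (algebraMap RS RX)) =
        maximalIdeal RS :=
      ((IsLocalRing.local_hom_TFAE ((algebraMap RX (C ⊗[RS] RX)).comp (algebraMap RS RX))).out 0 4).mp hl
    rw [Ideal.comap_comap, hcomm, hm]
    exact maximalIdeal.isMaximal RS
  let c := Spec.map (CommRingCat.ofHom (algebraMap RS C))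
  let p₁ := Spec.map (CommRingCat.ofHom (algebraMap RX (C ⊗[RS] RX)))
  let σC := c ≫ σ
  have hsq : IsPullback p₁ (Spec.map (CommRingCat.ofHom ψC)) (Spec.map (CommRingCat.ofHom (algebraMap RS RX))) c :=
    (isPullback_SpecMap_of_isPushout (CommRingCat.ofHom (algebraMap RS C)) (CommRingCat.ofHom (algebraMap RS RX))
      (CommRingCat.ofHom ψC) (CommRingCat.ofHom (algebraMap RX (C ⊗[RS] RX)))
      (CommRingCat.isPushout_tensorProduct RS C RX)).flip
  let bb : pullback f σC ⟶ pullback f σ :=
    pullback.lift (pullback.fst _ _) (pullback.snd _ _ ≫ c) (pullback.condition.trans (Category.assoc _ _ _).symm)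
  have hbb : IsPullback bb (pullback.snd f σC) (pullback.snd f σ) c := by
    refine IsPullback.of_right ?_ (pullback.lift_snd _ _ _) (IsPullback.of_hasPullback f σ)
    rw [pullback.lift_fst]
    exact IsPullback.of_hasPullback f σC
  let kC : Spec (CommRingCat.of (C ⊗[RS] RX)) ⟶ pullback f σC :=
    hbb.lift (p₁ ≫ k) (Spec.map (CommRingCat.ofHom ψC)) (by rw [Category.assoc, hk, hsq.w])
  have hkC : IsPullback p₁ kC k bb := by
    refine IsPullback.of_bot ?_ (hbb.lift_fst _ _ _).symm hbb
    rw [hbb.lift_snd, hk]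
    exact hsq
  haveI : WeaklyEtale kC := MorphismProperty.of_isPullback hkC ‹_›
  exact isZeroAcyclic_of_weaklyEtale f hf C (C ⊗[RS] RX) σC ψC kC (hbb.lift_snd _ _ _)

include hf hk in
set_option maxHeartbeats 1000000 in
set_option synthInstance.maxHeartbeats 200000 in
/-- Idempotents over a field algebraic over the image. -/
theorem idem_field' (L : Type u) [Field L] [Algebra RS L]
    (hL : ∀ l : L, ∃ c : L, c ≠ 0 ∧ IsIntegral RS c ∧ IsIntegral RS (c * l))
    (e : L ⊗[RS] RX) (he : IsIdempotentElem e) : e = 0 ∨ e = 1 := by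
  let C := integralClosure RS L
  haveI : Algebra.IsIntegral RS C := IsIntegralClosure.isIntegral_algebra RS L
  haveI : IsLocalRing C := Groth.EtaleAlgebra.isLocalRing_of_isIntegral_domain RS C
  haveI hloc : IsLocalization (nonZeroDivisors C) L := (isLocalization_iff _ _).2
    ⟨fun y => isUnit_iff_ne_zero.2 fun h => nonZeroDivisors.coe_ne_zero y (Subtype.ext h),
      fun l => by
        obtain ⟨c, hc, hci, hcl⟩ := hL l
        refine ⟨⟨⟨c * l, hcl⟩, ⟨⟨c, hci⟩, mem_nonZeroDivisors_of_ne_zero fun h => hc (congrArg Subtype.val h)⟩⟩, ?_⟩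
        exact mul_comm l c,
      fun h => ⟨1, by rw [Subtype.ext (show _ = _ from h)]⟩⟩
  let T := C ⊗[RS] RX
  let γ := Algebra.TensorProduct.cancelBaseChange RS C L L RX
  obtain ⟨e, rfl⟩ := γ.surjective e
  replace he : e * e = e := γ.injective (by rw [map_mul]; exact he.eq)
  suffices e = 0 ∨ e = 1 by
    rcases this with rfl | rfl
    · exact Or.inl (map_zero γ)
    · exact Or.inr (map_one γ)
  obtain ⟨d, hd, φ, e₀, he₀, hΦ⟩ := exists_idem_stage (nonZeroDivisors C) e he
  let A := Localization.Away d
  let Φ := Algebra.TensorProduct.map φ (AlgHom.id C T)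
  -- connectedness
  have h0 := isZeroAcyclic_integral f hf RS RX σ k hk C
  let p := Spec.map (CommRingCat.ofHom (algebraMap C T))
  haveI : Surjective p := ⟨surjective_of_isZeroAcyclic p h0⟩
  haveI : IsOpenImmersion (Spec.map (CommRingCat.ofHom (algebraMap C A))) :=
    IsOpenImmersion.of_isLocalization d
  let V : (Spec (CommRingCat.of C)).Etale := Scheme.Etale.mk (Spec.map (CommRingCat.ofHom (algebraMap C A)))
  haveI : IsDomain A := IsLocalization.isDomain_localization (Submonoid.powers_le.2 hd)
  haveI : PreconnectedSpace ↥V.left :=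
    inferInstanceAs (PreconnectedSpace (PrimeSpectrum A))
  haveI := preconnectedSpace_pullback p h0 V
  haveI : Surjective (pullback.fst V.hom p) := inferInstance
  haveI : Nonempty ↥(pullback V.hom p) :=
    ⟨((pullback.fst V.hom p).surjective (⟨⊥, Ideal.isPrime_bot⟩ : PrimeSpectrum A)).choose⟩
  haveI h1 : ConnectedSpace ↥(pullback V.hom p) := ⟨‹_›⟩
  haveI : ConnectedSpace ↥(pullback (Spec.map (CommRingCat.ofHom (algebraMap C A)))
      (Spec.map (CommRingCat.ofHom (algebraMap C T)))) := h1
  haveI : ConnectedSpace (PrimeSpectrum (A ⊗[C] T)) :=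
    let h := (pullbackSpecIso C A T).hom.homeomorph
    h.surjective.connectedSpace h.continuous
  rcases Calg5.idemTrivial_of_connectedSpace e₀ he₀ with h | h
  · exact Or.inl (by rw [← hΦ, h, map_zero])
  · exact Or.inr (by rw [← hΦ, h, map_one])

include hf hk in
set_option synthInstance.maxHeartbeats 200000 in
/-- All base changes to fields are connected. -/
theorem connectedSpace_tensor' (K : Type u) [Field K] [Algebra RS K] :
    ConnectedSpace (PrimeSpectrum (K ⊗[RS] RX)) := by
  let ψ := Spec.map (CommRingCat.ofHom (algebraMap RS RX))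
  haveI : Surjective ψ := ⟨surjective_of_isZeroAcyclic ψ (isZeroAcyclic_of_weaklyEtale f hf RS RX σ
    (algebraMap RS RX) k hk)⟩
  haveI : Nontrivial (K ⊗[RS] RX) := by
    let η := Spec.map (CommRingCat.ofHom (algebraMap RS K))
    have : Surjective (pullback.fst η ψ) := inferInstance
    obtain ⟨z, -⟩ := (pullback.fst η ψ).surjective default
    exact PrimeSpectrum.nontrivial ((pullbackSpecIso RS K RX).hom z)
  refine Ega4b.HenselConn.connectedSpace_of_idem _ fun e he => ?_
  let p := RingHom.ker (algebraMap RS K)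
  haveI : p.IsPrime := RingHom.ker_isPrime _
  let L := AlgebraicClosure p.ResidueField
  let Ω := AlgebraicClosure K
  let j : p.ResidueField →ₐ[RS] K := Ideal.ResidueField.liftₐ p (Algebra.ofId RS K) le_rfl (by
    intro x hx
    exact isUnit_iff_ne_zero.mpr fun h0 => hx h0)
  letI : Algebra p.ResidueField Ω := ((algebraMap K Ω).comp j.toRingHom).toAlgebra
  haveI : IsScalarTower RS p.ResidueField Ω := IsScalarTower.of_algebraMap_eq fun a => by
    show _ = algebraMap K Ω (j (algebraMap RS p.ResidueField a))
    rw [j.commutes, ← IsScalarTower.algebraMap_apply]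
  let i : L →ₐ[p.ResidueField] Ω := IsAlgClosed.lift
  letI : Algebra L Ω := i.toRingHom.toAlgebra
  haveI : IsScalarTower RS L Ω := IsScalarTower.of_algebraMap_eq fun a => by
    rw [IsScalarTower.algebraMap_apply RS p.ResidueField L, IsScalarTower.algebraMap_apply RS p.ResidueField Ω]
    exact (i.commutes _).symm
  let γ := Algebra.TensorProduct.cancelBaseChange RS K Ω Ω RX
  let f' : K ⊗[RS] RX →ₐ[K] Ω ⊗[K] (K ⊗[RS] RX) := Algebra.TensorProduct.includeRight
  have hf' : Function.Injective f' :=
    Algebra.TensorProduct.includeRight_injective (RingHom.injective (algebraMap K Ω))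
  let g := (Algebra.TensorProduct.cancelBaseChange RS L L Ω RX).symm
  have hR : ∀ x : L ⊗[RS] RX, IsIdempotentElem x → x = 0 ∨ x = 1 := fun x hx =>
    idem_field' f hf RS RX σ k hk L (Groth.EtaleBase.BCZero.exists_denominator p) x hx
  rcases Ega4b.HenselConn.idem_tensor hR (g (γ (f' e))) (((he.map f').map γ).map g) with h | h
  · exact Or.inl (hf' ((γ.injective ((g.injective (h.trans (map_zero g).symm)).trans (map_zero γ).symm)).trans
      (map_zero f').symm))
  · exact Or.inr (hf' ((γ.injective ((g.injective (h.trans (map_one g).symm)).trans (map_one γ).symm)).trans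
      (map_one f').symm))

include hf hk in
/-- The map has geometrically connected fibres. -/
theorem geometricallyConnected_spec :
    GeometricallyConnected (Spec.map (CommRingCat.ofHom (algebraMap RS RX))) :=
  ⟨geometrically_iff_of_isClosedUnderIsomorphisms.mpr fun K _ η => by
    obtain ⟨χ, rfl⟩ := Spec.map_surjective η
    letI : Algebra RS K := χ.hom.toAlgebra
    haveI := connectedSpace_tensor' f hf RS RX σ k hk K
    have h1 : ConnectedSpace (PrimeSpectrum (RX ⊗[RS] K)) := by
      let h := PrimeSpectrum.homeomorphOfRingEquiv (Algebra.TensorProduct.comm RS K RX).toRingEquiv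
      exact h.surjective.connectedSpace h.continuous
    haveI : ConnectedSpace ↥(Spec (CommRingCat.of (RX ⊗[RS] K))) := h1
    let h2 := (pullbackSpecIso RS RX K).inv.homeomorph
    exact h2.surjective.connectedSpace h2.continuous⟩

end Groth.ZeroAcyclic
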