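import Groth.Agent.ZeroAcyclic.StageSection
import Groth.Agent.ZeroAcyclic.FibreConn

/-!
Base change in degree zero along universally locally zero acyclic morphisms.
-/

set_option autoImplicit false
set_option backward.isDefEq.respectTransparency.types false
set_option linter.style.haveILetI false
set_option linter.unusedSectionVars false

universe u

open CategoryTheory CategoryTheory.Limits AlgebraicGeometry Opposite IsLocalRing
open Groth.EtaleBase Groth.EtaleBase.EtLimit

namespace Groth.ZeroAcyclic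

open Groth.EtaleShriek.FlatConnBC
open Groth.EtaleShriek.BCSets (sg sg_res P2 pr₁ pr₂)
open Groth.DescentBase (agreeSet isOpen_agreeSet shGerm_eq_iff_mem map_eq_iff_range_subset)

variable {X S Y T : Scheme.{u}} {f : X ⟶ S} {g : T ⟶ S} [QuasiCompact g] [QuasiSeparated g]
  {h : Y ⟶ X} {e : Y ⟶ T} (c : IsPullback e h g f) (F : EtDesc.Sh T)
  {RS RX : Type u} [CommRing RS] [CommRing RX] [HenselianLocalRing RS] [HenselianLocalRing RX]
  [IsSepClosed (ResidueField RS)] [IsSepClosed (ResidueField RX)]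
  {Ω : Type u} [Field Ω] [IsAlgClosed Ω] {η : Spec (CommRingCat.of Ω) ⟶ X}
  (σS : Spec (CommRingCat.of RS) ⟶ S) [WeaklyEtale σS] (σX : Spec (CommRingCat.of RX) ⟶ X) [WeaklyEtale σX]
  (ψ : RS →+* RX) [IsLocalHom ψ] (ρ' : RX →+* Ω) [IsLocalHom ρ']
  (hν : Spec.map (CommRingCat.ofHom ψ) ≫ σS = σX ≫ f)
  (hX : locPt RX ρ' ≫ σX = η) (hS : locPt RS (ρ'.comp ψ) ≫ σS = η ≫ f)

/-- The map between the base changes to the strictly henselian schemes. -/
noncomputable def mLoc : pullback h σX ⟶ pullback g σS :=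
  pullback.lift (pullback.fst h σX ≫ e) (pullback.snd h σX ≫ Spec.map (CommRingCat.ofHom ψ)) (by
    rw [Category.assoc, Category.assoc, c.w, pullback.condition_assoc, hν])

lemma mLoc_fst : mLoc c σS σX ψ hν ≫ pullback.fst g σS = pullback.fst h σX ≫ e := pullback.lift_fst _ _ _

lemma mLoc_snd : mLoc c σS σX ψ hν ≫ pullback.snd g σS = pullback.snd h σX ≫ Spec.map (CommRingCat.ofHom ψ) :=
  pullback.lift_snd _ _ _

lemma isPullback_mLoc :
    IsPullback (mLoc c σS σX ψ hν) (pullback.snd h σX) (pullback.snd g σS)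
      (Spec.map (CommRingCat.ofHom ψ)) := by
  have s := (IsPullback.of_hasPullback h σX).paste_horiz c
  rw [← hν, ← mLoc_fst c σS σX ψ hν] at s
  exact IsPullback.of_right s (mLoc_snd c σS σX ψ hν) (IsPullback.of_hasPullback g σS)

lemma toNbhd_mu {W : X.Etale} {V : S.Etale} (a : W.left ⟶ V.left) (ha : a ≫ V.hom = W.hom ≫ f)
    (w : (Scheme.pointSmallEtale η).fiber.obj W) :
    toNbhd RX ρ' σX η hX h W w ≫ mu c a ha =
      mLoc c σS σX ψ hν ≫ toNbhd RS (ρ'.comp ψ) σS (η ≫ f) hS g V (spt η a ha w) := by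
  haveI : Etale V.hom := V.prop
  have hl : locLift RX ρ' σX η hX W w ≫ a =
      Spec.map (CommRingCat.ofHom ψ) ≫ locLift RS (ρ'.comp ψ) σS (η ≫ f) hS V (spt η a ha w) := by
    refine lift_ext RX ρ' (σX ≫ f) V.hom ?_ ?_ ?_
    · exact (Category.assoc _ _ _).trans ((congrArg (_ ≫ ·) ha).trans ((Category.assoc _ _ _).symm.trans
        (congrArg (· ≫ f) (locLift_hom RX ρ' σX η hX W w))))
    · exact (Category.assoc _ _ _).trans ((congrArg (_ ≫ ·)
        (locLift_hom RS (ρ'.comp ψ) σS (η ≫ f) hS V (spt η a ha w))).trans hν)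
    · refine ((Category.assoc _ _ _).symm.trans (congrArg (· ≫ a) (locPt_locLift RX ρ' σX η hX W w))).trans ?_
      refine ((Category.assoc _ _ _).symm.trans ((congrArg
        (· ≫ locLift RS (ρ'.comp ψ) σS (η ≫ f) hS V (spt η a ha w))
        (Spec.map_comp (CommRingCat.ofHom ψ) (CommRingCat.ofHom ρ')).symm).trans
          (locPt_locLift RS (ρ'.comp ψ) σS (η ≫ f) hS V (spt η a ha w)))).symm
  apply pullback.hom_ext
  · refine (Category.assoc _ _ _).trans ((congrArg (_ ≫ ·) (pullback.lift_fst _ _ _)).trans ?_)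
    refine (Category.assoc _ _ _).symm.trans ((congrArg (· ≫ a) (evPt_fst h RX ρ' σX η hX _ _ _ W w)).trans ?_)
    refine (Category.assoc _ _ _).trans ((congrArg (_ ≫ ·) hl).trans ?_)
    refine Eq.trans ?_ ((Category.assoc _ _ _).trans (congrArg (mLoc c σS σX ψ hν ≫ ·)
      (evPt_fst g RS (ρ'.comp ψ) σS (η ≫ f) hS _ _ _ V (spt η a ha w)))).symm
    exact (Category.assoc _ _ _).symm.trans ((congrArg (· ≫ locLift RS (ρ'.comp ψ) σS (η ≫ f) hS V (spt η a ha w))
      (mLoc_snd c σS σX ψ hν).symm).trans (Category.assoc _ _ _))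
  · refine (Category.assoc _ _ _).trans ((congrArg (_ ≫ ·) (pullback.lift_snd _ _ _)).trans ?_)
    refine (Category.assoc _ _ _).symm.trans ((congrArg (· ≫ e) (evPt_hom h RX ρ' σX η hX _ _ _ W w)).trans ?_)
    refine Eq.trans ?_ ((Category.assoc _ _ _).trans (congrArg (mLoc c σS σX ψ hν ≫ ·)
      (evPt_hom g RS (ρ'.comp ψ) σS (η ≫ f) hS _ _ _ V (spt η a ha w)))).symm
    exact (mLoc_fst c σS σX ψ hν).symm

variable [Surjective (Spec.map (CommRingCat.ofHom ψ))]

include σS σX hν hX hS in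
/-- Sections agreeing on a neighbourhood agree near the point below. -/
theorem inj_of_local : Inj c F η := by
  intro W V a ha w σ₁ σ₂ hval
  let t := spt η a ha w
  let m := mLoc c σS σX ψ hν
  haveI : Surjective m :=
    MorphismProperty.of_isPullback (P := @Surjective) (isPullback_mLoc c σS σX ψ hν).flip inferInstance
  let A : (pullback V.hom g).Opens :=
    ⟨agreeSet F ((EtCoh.bc g).obj V) σ₁ σ₂, isOpen_agreeSet _ _ _ _⟩
  obtain ⟨V', d, t', ht, -, hd⟩ := exists_nbhd_le RS (ρ'.comp ψ) σS (η ≫ f) hS g V t A fun z => by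
    obtain ⟨z', rfl⟩ := m.surjective z
    let m' := geomPoint z' ≫ toNbhd RX ρ' σX η hX h W w
    have h1 := (shGerm_eq_iff_mem _ F _ σ₁ σ₂ (Over.homMk (m' ≫ mu c a ha) rfl)).1 (hval _ m')
    refine Set.mem_of_eq_of_mem ?_ h1
    show _ = (m' ≫ mu c a ha) default
    refine Eq.trans ?_ (congrArg (fun k : Spec (CommRingCat.of _) ⟶ pullback V.hom g => k default)
      (Category.assoc _ _ _)).symm
    refine Eq.trans ?_ (congrArg (fun k : pullback h σX ⟶ pullback V.hom g =>
      (geomPoint z' ≫ k) default) (toNbhd_mu c σS σX ψ ρ' hν hX hS a ha w)).symm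
    simp only [Scheme.Hom.comp_apply]
    rw [geomPoint_apply]
    rfl
  refine ⟨V', d, t', ht, (map_eq_iff_range_subset F _ σ₁ σ₂).2 ?_⟩
  rintro _ ⟨y, rfl⟩
  exact hd y

variable [GeometricallyConnected (Spec.map (CommRingCat.ofHom ψ))]
  (hgen : UGen (Spec.map (CommRingCat.ofHom ψ)))

include σS σX hν hX hS hgen in
set_option maxHeartbeats 1600000 in
/-- Sections of the inverse image come, near a point, from sections below. -/
theorem surj_of_local : Surj c F η := by
  intro W w x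
  haveI : QuasiCompact h := MorphismProperty.of_isPullback (P := @QuasiCompact) c inferInstance
  haveI : QuasiSeparated h := MorphismProperty.of_isPullback (P := @QuasiSeparated) c inferInstance
  let m := mLoc c σS σX ψ hν
  have sq := (isPullback_mLoc c σS σX ψ hν).flip
  haveI : Surjective m := MorphismProperty.of_isPullback (P := @Surjective) sq inferInstance
  haveI : QuasiCompact m := MorphismProperty.of_isPullback (P := @QuasiCompact) sq inferInstance
  haveI : GeometricallyConnected m :=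
    MorphismProperty.of_isPullback (P := @GeometricallyConnected) sq inferInstance
  have hm : UGen m := MorphismProperty.of_isPullback (P := UGen) sq hgen
  let aS := pullback.fst g σS
  let aY := pullback.fst h σX
  have haS : m ≫ aS = aY ≫ e := mLoc_fst c σS σX ψ hν
  let q : pullback h σX ⟶ ((EtCoh.bc h).obj W).left := toNbhd RX ρ' σX η hX h W w
  have hq : q ≫ ((EtCoh.bc h).obj W).hom = (EtCoh.top (pullback h σX)).hom ≫ aY :=
    (evPt_hom h RX ρ' σX η hX _ _ _ W w).trans (Category.id_comp _).symm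
  obtain ⟨x', hx'⟩ := exists_transfer (e := e) (F := F) aY (aY ≫ e) rfl _ x (EtCoh.top (pullback h σX)) q hq
  obtain ⟨x₂, hx₂⟩ := exists_rel₂ (e := aS) m (aY ≫ e) haS (EtCoh.top (pullback h σX)) x'
  let μ : (EtCoh.top (pullback h σX)).left ⟶ (EtCoh.top (pullback g σS)).left := m
  haveI : Surjective μ := ‹Surjective m›
  haveI : QuasiCompact μ := ‹QuasiCompact m›
  haveI : GeometricallyConnected μ := ‹GeometricallyConnected m›
  obtain ⟨y, hy⟩ := exists_good_id_of_isQuotientMap (e := m) (F := (EtDesc.pullSh aS).obj F)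
    (V := EtCoh.top (pullback g σS)) (μ := μ) x₂ ((Category.comp_id _).trans (Category.id_comp _).symm)
    fun W' gW => isQuotientMap_snd_of_ugen μ hm gW.left
  rw [good_iff] at hy
  obtain ⟨V, t, s, hs⟩ := exists_stage_section RS (ρ'.comp ψ) σS (η ≫ f) hS g F y
  -- values of `x`
  have hxy : ∀ (K : Type u) [Field K] [IsSepClosed K] (pX : Spec (CommRingCat.of K) ⟶ pullback h σX),
      Rel e F x (pX ≫ q) ((EtCoh.bc g).obj V)
        ((pX ≫ m) ≫ toNbhd RS (ρ'.comp ψ) σS (η ≫ f) hS g V t) s := by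
    intro K _ _ pX
    obtain ⟨W₁, g₁, l₁, τ₁, -, hR₁⟩ := exists_rel (e := e) x (V := EtCoh.top T)
      (((EtCoh.bc h).obj W).hom ≫ e) (Category.comp_id _) (pX ≫ q)
    have r₁ := hx₂ K pX W₁ l₁ τ₁ (hx' K pX W₁ l₁ τ₁ hR₁)
    have r₂ : Rel₂ aS F m x₂ pX ((EtCoh.bc g).obj V)
        ((pX ≫ m) ≫ toNbhd RS (ρ'.comp ψ) σS (η ≫ f) hS g V t) s :=
      (hy K pX (pX ≫ m) (Category.comp_id _)).trans (hs K (pX ≫ m))
    have e₂ : ((pX ≫ m) ≫ toNbhd RS (ρ'.comp ψ) σS (η ≫ f) hS g V t) ≫ ((EtCoh.bc g).obj V).hom =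
        l₁ ≫ W₁.hom := r₂.1.trans r₁.1.symm
    exact hR₁.of_sg_eq (l₁ ≫ W₁.hom) rfl e₂ (r₁.sg_eq r₂ (l₁ ≫ W₁.hom) rfl e₂)
  -- a common neighbourhood
  let B := (EtCoh.bc f).obj V
  let U₀ := P2 W B
  let b : (Scheme.pointSmallEtale η).fiber.obj B := pushLift f η rfl V t
  let u₀ : (Scheme.pointSmallEtale η).fiber.obj U₀ :=
    Over.homMk (pullback.lift w.left b.left ((Over.w w).trans (Over.w b).symm))
      ((Category.assoc _ _ _).symm.trans ((congrArg (· ≫ W.hom) (pullback.lift_fst _ _ _)).trans (Over.w w)))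
  let r₀ : U₀ ⟶ W := pr₁ W B
  have hr₀ : (Scheme.pointSmallEtale η).fiber.map r₀ u₀ = w :=
    Over.OverMorphism.ext (pullback.lift_fst _ _ _)
  let a₀ : U₀.left ⟶ V.left := (pr₂ W B).left ≫ pullback.fst V.hom f
  have ha₀ : a₀ ≫ V.hom = U₀.hom ≫ f :=
    (Category.assoc _ _ _).trans ((congrArg ((pr₂ W B).left ≫ ·) pullback.condition).trans
      ((Category.assoc _ _ _).symm.trans (congrArg (· ≫ f) (MorphismProperty.Over.w (pr₂ W B)))))
  have ht₀ : spt η a₀ ha₀ u₀ = t := by
    apply Over.OverMorphism.ext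
    show u₀.left ≫ a₀ = t.left
    refine (Category.assoc _ _ _).symm.trans ?_
    exact (congrArg (· ≫ pullback.fst V.hom f) (pullback.lift_snd _ _ _)).trans (pullback.lift_fst _ _ _)
  let G := (EtDesc.pullSh e).obj F
  let x₀ := G.obj.map ((EtCoh.bc h).map r₀).op x
  let y₀ := img c F a₀ ha₀ s
  let A : (pullback U₀.hom h).Opens :=
    ⟨agreeSet G ((EtCoh.bc h).obj U₀) x₀ y₀, isOpen_agreeSet _ _ _ _⟩
  let qU : pullback h σX ⟶ ((EtCoh.bc h).obj U₀).left := toNbhd RX ρ' σX η hX h U₀ u₀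
  have hqr : qU ≫ ((EtCoh.bc h).map r₀).left = q := evPt_map h RX ρ' σX η hX _ _ _ r₀ u₀ hr₀
  have hqm : qU ≫ mu c a₀ ha₀ = m ≫ toNbhd RS (ρ'.comp ψ) σS (η ≫ f) hS g V t := by
    rw [← ht₀]
    exact toNbhd_mu c σS σX ψ ρ' hν hX hS a₀ ha₀ u₀
  obtain ⟨U, d, u, hu, -, hd⟩ := exists_nbhd_le RX ρ' σX η hX h U₀ u₀ A fun z => by
    let pX := geomPoint z
    let mU := pX ≫ qU
    have hx₀ : Rel e F x₀ mU ((EtCoh.bc g).obj V) (mU ≫ mu c a₀ ha₀) s := by
      rw [rel_src]
      have h1 : mU ≫ ((EtCoh.bc h).map r₀).left = pX ≫ q :=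
        (Category.assoc _ _ _).trans (congrArg (pX ≫ ·) hqr)
      have h2 : mU ≫ mu c a₀ ha₀ = (pX ≫ m) ≫ toNbhd RS (ρ'.comp ψ) σS (η ≫ f) hS g V t :=
        ((Category.assoc _ _ _).trans (congrArg (pX ≫ ·) hqm)).trans (Category.assoc _ _ _).symm
      rw [h1, h2]
      exact hxy _ pX
    obtain ⟨_, h₁⟩ := hx₀
    obtain ⟨_, h₂⟩ := rel_img c F a₀ ha₀ s mU
    have h3 := (shGerm_eq_iff_mem _ G _ x₀ y₀ (Over.homMk mU rfl)).1 (h₁.trans h₂.symm)
    refine Set.mem_of_eq_of_mem ?_ h3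
    show _ = mU default
    refine ((Scheme.Hom.comp_apply _ _ _).trans ?_).symm
    exact congrArg _ (geomPoint_apply z _)
  let a : U.left ⟶ V.left := d.left ≫ a₀
  have ha : a ≫ V.hom = U.hom ≫ f :=
    (Category.assoc _ _ _).trans ((congrArg (d.left ≫ ·) ha₀).trans
      ((Category.assoc _ _ _).symm.trans (congrArg (· ≫ f) (MorphismProperty.Over.w d))))
  refine ⟨U, d ≫ r₀, u, V, a, ha, s, ?_, fun K _ _ mU' => ?_⟩
  · rw [Functor.map_comp, ConcreteCategory.comp_apply, hu, hr₀]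
  let mU := mU' ≫ ((EtCoh.bc h).map d).left
  have hμ : mu c a ha = ((EtCoh.bc h).map d).left ≫ mu c a₀ ha₀ := by
    apply pullback.hom_ext
    · refine (pullback.lift_fst _ _ _).trans (Eq.trans ?_ ((Category.assoc _ _ _).trans
        (congrArg (_ ≫ ·) (pullback.lift_fst _ _ _))).symm)
      exact ((Category.assoc _ _ _).symm.trans (congrArg (· ≫ a₀) (pullback.lift_fst _ _ _).symm)).trans
        (Category.assoc _ _ _)
    · refine (pullback.lift_snd _ _ _).trans (Eq.trans ?_ ((Category.assoc _ _ _).trans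
        (congrArg (_ ≫ ·) (pullback.lift_snd _ _ _))).symm)
      exact (congrArg (· ≫ e) (MorphismProperty.Over.w ((EtCoh.bc h).map d)).symm).trans
        (Category.assoc _ _ _)
  have hmem : (mU default : ((EtCoh.bc h).obj U₀).left) ∈ agreeSet G ((EtCoh.bc h).obj U₀) x₀ y₀ :=
    hd (mU' default)
  have hg := (shGerm_eq_iff_mem (mU ≫ ((EtCoh.bc h).obj U₀).hom) G _ x₀ y₀ (Over.homMk mU rfl)).2 hmem
  obtain ⟨hl, h₂⟩ := rel_img c F a₀ ha₀ s mU
  have r : Rel e F x₀ mU ((EtCoh.bc g).obj V) (mU ≫ mu c a₀ ha₀) s := ⟨hl, hg.trans h₂⟩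
  rw [rel_src] at r
  have e3 : mU' ≫ ((EtCoh.bc h).map (d ≫ r₀)).left = mU ≫ ((EtCoh.bc h).map r₀).left := by
    rw [Functor.map_comp]
    exact (Category.assoc _ _ _).symm
  rw [e3, hμ, ← Category.assoc]
  exact r

end Groth.ZeroAcyclic

namespace Groth.ZeroAcyclic

open Groth.EtaleShriek.FlatConnBC
open Groth.DescentBase (shStalk isIso_of_acPoints acPoint)
open Groth.EtaleBase.EtLocalRing Groth.AlgSpEt.StrictLocal

variable {X S Y T : Scheme.{u}} {f : X ⟶ S} {g : T ⟶ S} [QuasiCompact g] [QuasiSeparated g]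
  {h : Y ⟶ X} {e : Y ⟶ T} (c : IsPullback e h g f) (F : EtDesc.Sh T)

set_option maxHeartbeats 1000000 in
/-- The criterion holds at every geometric point. -/
theorem inj_and_surj (hf : EtAcyc.IsULocZeroAcyclic f) {Ω : Type u} [Field Ω] [IsAlgClosed Ω]
    (η : Spec (CommRingCat.of Ω) ⟶ X) : Inj c F η ∧ Surj c F η := by
  let x : X := η default
  let RX : Type u := EtBase.etaleLocalRing η
  letI : Algebra (X.presheaf.stalk x) RX := (toEtale η).hom.toAlgebra
  obtain ⟨hlocX, hX⟩ := Groth.AlgSpEt.StrictHens.isStrictHenselization η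
  haveI : IsLocalHom (algebraMap (X.presheaf.stalk x) RX) := hlocX
  haveI : Hensel.IsStrictHenselization (X.presheaf.stalk x) RX := hX
  let RS : Type u := EtBase.etaleLocalRing (η ≫ f)
  letI : Algebra (S.presheaf.stalk (f.base x)) RS := (toEtale (η ≫ f)).hom.toAlgebra
  obtain ⟨hlocS, hS⟩ := Groth.AlgSpEt.StrictHens.isStrictHenselization (η ≫ f)
  haveI : IsLocalHom (algebraMap (S.presheaf.stalk (f.base x)) RS) := hlocS
  haveI : Hensel.IsStrictHenselization (S.presheaf.stalk (f.base x)) RS := hS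
  haveI := hX.henselian
  haveI := hS.henselian
  haveI : IsSepClosed (ResidueField RS) := hS.isSepClosure.sep_closed
  haveI : IsSepClosed (ResidueField RX) :=
    haveI := hX.isSepClosure
    IsSepClosure.sep_closed (ResidueField (X.presheaf.stalk x))
  obtain ⟨ψ, hψloc, hψ⟩ := exists_strictHenselization_map (S.presheaf.stalk (f.base x))
    (X.presheaf.stalk x) (f.stalkMap x).hom RS RX
  haveI := hψloc
  haveI : IsLocalHom (ev η).hom := isLocalHom_ev η
  let σS := Hens2.specOf S (f.base x) RS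
  let σX := Hens2.specOf X x RX
  haveI : WeaklyEtale σS := Groth.Agent.S0754.result S (f.base x) RS
  haveI : WeaklyEtale σX := Groth.Agent.S0754.result X x RX
  have hν := specOf_compat f x RS RX ψ hψ
  have hξ : locPt RX (ev η).hom ≫ σX = η := specMap_ev_toEtale η
  have hη : locPt RS ((ev η).hom.comp ψ) ≫ σS = η ≫ f :=
    (congrArg (· ≫ σS) (Spec.map_comp (CommRingCat.ofHom ψ) (ev η))).trans ((Category.assoc _ _ _).trans
      ((congrArg (locPt RX (ev η).hom ≫ ·) hν).trans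
        ((Category.assoc _ _ _).symm.trans (congrArg (· ≫ f) hξ))))
  obtain ⟨k, _, -, hk⟩ := exists_weaklyEtale_lift f x RS RX ψ hψ
  let p := Spec.map (CommRingCat.ofHom ψ)
  haveI : Surjective p := ⟨surjective_of_isZeroAcyclic p (isZeroAcyclic_of_weaklyEtale f hf RS RX σS ψ k hk)⟩
  haveI : GeometricallyConnected p := by
    letI : Algebra RS RX := ψ.toAlgebra
    haveI : IsLocalHom (algebraMap RS RX) := hψloc
    exact geometricallyConnected_spec f hf RS RX σS k hk
  exact ⟨inj_of_local c F σS σX ψ (ev η).hom hν hξ hη,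
    surj_of_local c F σS σX ψ (ev η).hom hν hξ hη (ugen_of_weaklyEtale f hf σS k p hk)⟩

/-- **Base change** in degree zero along universally locally zero acyclic morphisms. -/
theorem isIso_baseChange0Sh (hf : EtAcyc.IsULocZeroAcyclic f) :
    IsIso (EtBC.baseChange0Sh g f h e c.w F) :=
  isIso_of_acPoints _ fun y => ⟨(injective_iff_inj c F (acPoint y)).2 (inj_and_surj c F hf (acPoint y)).1,
    (surjective_iff_surj c F (acPoint y)).2 (inj_and_surj c F hf (acPoint y)).2⟩

end Groth.ZeroAcyclic
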