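import Groth.Agent.ZeroAcyclic.Connected
import Groth.Agent.VarietyBC.TensorAlgClosed
import Mathlib.FieldTheory.IsAlgClosed.AlgebraicClosure

/-!
Algebras over a field keep integrally closed extensions of base changes integrally closed, up to
nilpotents.
-/

set_option autoImplicit false
set_option linter.style.haveILetI false

universe u

open TensorProduct

namespace Groth.ZeroAcyclic

set_option maxHeartbeats 1000000
set_option synthInstance.maxHeartbeats 200000

open Groth.EtaleBase.BCZero (UIC isIntegralElem_of_comp)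

section nilker

/-- A surjective map with nil kernel stays so after tensoring. -/
theorem nilKer_map {R A P Q : Type u} [CommRing R] [CommRing A] [CommRing P] [CommRing Q] [Algebra R A]
    [Algebra R P] [Algebra R Q] (f : P →ₐ[R] Q) (hs : Function.Surjective f)
    (hn : ∀ x, f x = 0 → IsNilpotent x) :
    Function.Surjective (Algebra.TensorProduct.map (AlgHom.id A A) f) ∧
      ∀ x, Algebra.TensorProduct.map (AlgHom.id A A) f x = 0 → IsNilpotent x := by
  refine ⟨TensorProduct.map_surjective (g := (LinearMap.id : A →ₗ[R] A)) (g' := f.toLinearMap)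
    Function.surjective_id hs, fun x hx => ?_⟩
  have h1 : x ∈ (RingHom.ker f.toRingHom).map
      (Algebra.TensorProduct.includeRight : P →ₐ[R] A ⊗[R] P).toRingHom :=
    (Algebra.TensorProduct.lTensor_ker (A := A) f hs).le hx
  refine mem_nilradical.1 (Ideal.map_le_iff_le_comap.2 (fun p hp => ?_) h1)
  exact mem_nilradical.2 ((hn p hp).map _)

/-- A surjective map with nil kernel, read off a composite. -/
theorem nilKer_of_comp {P Q R : Type u} [CommRing P] [CommRing Q] [CommRing R] (σ : P →+* Q)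
    (f : Q →+* R) (q : P →+* R) (h : ∀ x, f (σ x) = q x) (hσ : Function.Surjective σ)
    (hq : Function.Surjective q) (hn : ∀ x, q x = 0 → IsNilpotent x) :
    Function.Surjective f ∧ ∀ x, f x = 0 → IsNilpotent x := by
  refine ⟨fun r => ?_, fun x hx => ?_⟩
  · obtain ⟨p, rfl⟩ := hq r
    exact ⟨σ p, h p⟩
  · obtain ⟨p, rfl⟩ := hσ x
    exact (hn p ((h p).symm.trans hx)).map σ

end nilker

variable {k A B₀ B : Type u} [Field k] [CommRing A] [CommRing B₀] [CommRing B] [Algebra k A]
  [Algebra k B₀] [Algebra A B] (e : A ⊗[k] B₀ ≃ₐ[A] B)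

section comparison

variable (K : Type u) [Field K] [Algebra k K] (T : Type u) [CommRing T] [Algebra A T] [Algebra K T]
  [Algebra k T] [IsScalarTower k A T] [IsScalarTower k K T]

/-- The reduced fibre over `K`. -/
def RedFib (k B₀ K : Type u) [Field k] [CommRing B₀] [Algebra k B₀] [Field K] [Algebra k K] : Type u :=
  (K ⊗[k] B₀) ⧸ nilradical (K ⊗[k] B₀)

noncomputable instance : CommRing (RedFib k B₀ K) :=
  inferInstanceAs (CommRing ((K ⊗[k] B₀) ⧸ nilradical (K ⊗[k] B₀)))

noncomputable instance : Algebra K (RedFib k B₀ K) :=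
  inferInstanceAs (Algebra K ((K ⊗[k] B₀) ⧸ nilradical (K ⊗[k] B₀)))

noncomputable instance : Algebra k (RedFib k B₀ K) :=
  inferInstanceAs (Algebra k ((K ⊗[k] B₀) ⧸ nilradical (K ⊗[k] B₀)))

instance : IsScalarTower k K (RedFib k B₀ K) :=
  inferInstanceAs (IsScalarTower k K ((K ⊗[k] B₀) ⧸ nilradical (K ⊗[k] B₀)))

instance : _root_.IsReduced (RedFib k B₀ K) :=
  (Ideal.isRadical_iff_quotient_reduced _).1 (Ideal.radical_isRadical _)

/-- The quotient map to the reduced fibre. -/
noncomputable def toRed : K ⊗[k] B₀ →ₐ[K] RedFib k B₀ K := Ideal.Quotient.mkₐ K _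

lemma toRed_surjective : Function.Surjective (toRed (k := k) (B₀ := B₀) K) := Ideal.Quotient.mk_surjective

lemma isNilpotent_of_toRed {x : K ⊗[k] B₀} (h : toRed K x = 0) : IsNilpotent x :=
  mem_nilradical.1 (Ideal.Quotient.eq_zero_iff_mem.1 h)

/-- The map to the reduced fibre. -/
noncomputable def beta : B →+* RedFib k B₀ K ⊗[K] T :=
  RingHom.comp (Algebra.TensorProduct.productMap (R := k) (S := RedFib k B₀ K ⊗[K] T)
    ((Algebra.TensorProduct.includeRight.restrictScalars k : T →ₐ[k] RedFib k B₀ K ⊗[K] T).comp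
      (IsScalarTower.toAlgHom k A T))
    (((Algebra.TensorProduct.includeLeft : RedFib k B₀ K →ₐ[K] RedFib k B₀ K ⊗[K] T).restrictScalars k).comp
      (((toRed (k := k) (B₀ := B₀) K).restrictScalars k).comp
        (Algebra.TensorProduct.includeRight : B₀ →ₐ[k] K ⊗[k] B₀)))).toRingHom
    e.symm.toRingEquiv.toRingHom

omit [Algebra k T] [IsScalarTower k A T] [IsScalarTower k K T] in
lemma beta_tmul [Algebra k T] [IsScalarTower k A T] [IsScalarTower k K T] (a : A) (b : B₀) :
    beta e K T (e (a ⊗ₜ b)) =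
      toRed K ((1 : K) ⊗ₜ[k] b) ⊗ₜ[K] algebraMap A T a := by
  show Algebra.TensorProduct.productMap _ _ (e.symm (e (a ⊗ₜ b))) = _
  rw [e.symm_apply_apply, Algebra.TensorProduct.productMap_apply_tmul]
  show ((1 : RedFib k B₀ K) ⊗ₜ[K] algebraMap A T a) * (toRed K ((1 : K) ⊗ₜ[k] b) ⊗ₜ[K] (1 : T)) = _
  rw [Algebra.TensorProduct.tmul_mul_tmul, one_mul, mul_one]

include e in
/-- `B ⊗ T` is covered by the fibre over `K`. -/
theorem exists_sigma : ∃ σ : (K ⊗[k] B₀) ⊗[K] T →+* B ⊗[A] T, Function.Surjective σ ∧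
    ∀ (c : K) (b : B₀) (t : T), σ ((c ⊗ₜ b) ⊗ₜ t) = e (1 ⊗ₜ b) ⊗ₜ[A] (algebraMap K T c * t) := by
  letI : Algebra K (B ⊗[A] T) := ((Algebra.TensorProduct.includeRight : T →ₐ[A] B ⊗[A] T).toRingHom.comp
    (algebraMap K T)).toAlgebra
  letI : Algebra k (B ⊗[A] T) := ((algebraMap K (B ⊗[A] T)).comp (algebraMap k K)).toAlgebra
  haveI : IsScalarTower k K (B ⊗[A] T) := IsScalarTower.of_algebraMap_eq fun _ => rfl
  let b₀ : B₀ →ₐ[k] B ⊗[A] T :=
    { ((Algebra.TensorProduct.includeLeftRingHom : B →+* B ⊗[A] T).comp e.toRingEquiv.toRingHom).comp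
        (Algebra.TensorProduct.includeRight : B₀ →ₐ[k] A ⊗[k] B₀).toRingHom with
      commutes' := fun a => by
        show e (1 ⊗ₜ algebraMap k B₀ a) ⊗ₜ[A] (1 : T) = (1 : B) ⊗ₜ[A] algebraMap K T (algebraMap k K a)
        have h : (1 : A) ⊗ₜ[k] algebraMap k B₀ a = algebraMap A (A ⊗[k] B₀) (algebraMap k A a) := by
          rw [← IsScalarTower.algebraMap_apply]
          exact (Algebra.TensorProduct.includeRight : B₀ →ₐ[k] A ⊗[k] B₀).commutes a
        rw [h, e.commutes, ← IsScalarTower.algebraMap_apply k K T, IsScalarTower.algebraMap_apply k A T,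
          Algebra.algebraMap_eq_smul_one (algebraMap k A a), TensorProduct.smul_tmul,
          ← Algebra.algebraMap_eq_smul_one] }
  let σP : K ⊗[k] B₀ →ₐ[K] B ⊗[A] T :=
    Algebra.TensorProduct.lift (Algebra.ofId K _) b₀ fun _ _ => Commute.all _ _
  let tK : T →ₐ[K] B ⊗[A] T :=
    { (Algebra.TensorProduct.includeRight : T →ₐ[A] B ⊗[A] T).toRingHom with commutes' := fun _ => rfl }
  let σ : (K ⊗[k] B₀) ⊗[K] T →ₐ[K] B ⊗[A] T :=
    Algebra.TensorProduct.lift σP tK fun _ _ => Commute.all _ _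
  have hσ : ∀ (c : K) (b : B₀) (t : T),
      σ.toRingHom ((c ⊗ₜ b) ⊗ₜ t) = e (1 ⊗ₜ b) ⊗ₜ[A] (algebraMap K T c * t) := fun c b t => by
    show ((1 : B) ⊗ₜ[A] algebraMap K T c * e (1 ⊗ₜ b) ⊗ₜ[A] (1 : T)) * (1 : B) ⊗ₜ[A] t = _
    simp
  refine ⟨σ.toRingHom, ?_, hσ⟩
  rw [← RingHom.range_eq_top, eq_top_iff]
  intro x _
  induction x with
  | zero => exact zero_mem _
  | add x y hx hy => exact add_mem (hx trivial) (hy trivial)
  | tmul b t =>
    obtain ⟨y, rfl⟩ := e.surjective b
    induction y with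
    | zero => rw [map_zero, TensorProduct.zero_tmul]; exact zero_mem _
    | add x y hx hy => rw [map_add, TensorProduct.add_tmul]; exact add_mem (hx trivial) (hy trivial)
    | tmul a b =>
      refine ⟨((1 : K) ⊗ₜ b) ⊗ₜ (a • t), ?_⟩
      rw [hσ, map_one, one_mul, ← TensorProduct.smul_tmul, ← map_smul, TensorProduct.smul_tmul',
        smul_eq_mul, mul_one]

/-- The comparison has nil kernel. -/
theorem nilKer_prod (f : B ⊗[A] T →+* RedFib k B₀ K ⊗[K] T)
    (hf : ∀ b t, f (b ⊗ₜ t) = beta e K T b * (1 ⊗ₜ t)) :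
    Function.Surjective f ∧ ∀ x, f x = 0 → IsNilpotent x := by
  obtain ⟨σ, hσs, hσ⟩ := exists_sigma e K T
  let π := toRed (k := k) (B₀ := B₀) K
  let q := Algebra.TensorProduct.map π (AlgHom.id K T)
  have hq : ∀ x, f (σ x) = q.toRingHom x := by
    intro x
    induction x using TensorProduct.induction_on with
    | zero => simp
    | add x y hx hy => simp only [map_add, hx, hy]
    | tmul p t =>
      induction p using TensorProduct.induction_on with
      | zero => simp
      | add x y hx hy => simp only [TensorProduct.add_tmul, map_add, hx, hy]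
      | tmul c b =>
        rw [hσ, hf, beta_tmul, map_one, Algebra.TensorProduct.tmul_mul_tmul, mul_one, one_mul]
        show toRed K ((1 : K) ⊗ₜ[k] b) ⊗ₜ[K] (algebraMap K T c * t) = π (c ⊗ₜ b) ⊗ₜ[K] t
        rw [← Algebra.smul_def, ← TensorProduct.smul_tmul]
        congr 1
        show c • π ((1 : K) ⊗ₜ b) = π (c ⊗ₜ b)
        rw [← map_smul, TensorProduct.smul_tmul', smul_eq_mul, mul_one]
  refine nilKer_of_comp (P := (K ⊗[k] B₀) ⊗[K] T) (Q := B ⊗[A] T) (R := RedFib k B₀ K ⊗[K] T) σ f q.toRingHom hq hσs ?_ fun x hx => ?_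
  · exact TensorProduct.map_surjective (g := π.toLinearMap) (g' := (LinearMap.id : T →ₗ[K] T))
      (toRed_surjective K) Function.surjective_id
  · have h1 := (Algebra.TensorProduct.rTensor_ker (C := T) π (toRed_surjective K)).le hx
    refine mem_nilradical.1 (Ideal.map_le_iff_le_comap.2 (fun p hp => ?_) h1)
    exact mem_nilradical.2 ((isNilpotent_of_toRed K hp).map _)

/-- The comparison after tensoring with `E`. -/
theorem exists_phi {E : Type u} [CommRing E] [Algebra B E] [Algebra A E] [IsScalarTower A B E]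
    [Algebra B (RedFib k B₀ K ⊗[K] T)] (hβ : algebraMap B (RedFib k B₀ K ⊗[K] T) = beta e K T) :
    ∃ Φ : E ⊗[A] T →+* E ⊗[B] (RedFib k B₀ K ⊗[K] T),
      (∀ x t, Φ (x ⊗ₜ t) = x ⊗ₜ (1 ⊗ₜ t)) ∧ Function.Surjective Φ ∧ ∀ x, Φ x = 0 → IsNilpotent x := by
  letI : Algebra A (RedFib k B₀ K ⊗[K] T) := RingHom.toAlgebra (R := A) (S := RedFib k B₀ K ⊗[K] T)
    ((algebraMap B (RedFib k B₀ K ⊗[K] T)).comp (algebraMap A B))
  haveI : IsScalarTower A B (RedFib k B₀ K ⊗[K] T) := IsScalarTower.of_algebraMap_eq fun _ => rfl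
  let τ : T →ₐ[A] RedFib k B₀ K ⊗[K] T :=
    { (Algebra.TensorProduct.includeRight : T →ₐ[K] RedFib k B₀ K ⊗[K] T).toRingHom with
      commutes' := fun a => by
        show (1 : RedFib k B₀ K) ⊗ₜ[K] algebraMap A T a =
          algebraMap B (RedFib k B₀ K ⊗[K] T) (algebraMap A B a)
        rw [hβ, ← e.commutes, Algebra.TensorProduct.algebraMap_apply, beta_tmul,
          ← Algebra.TensorProduct.one_def, map_one]
        rfl }
  let pr : B ⊗[A] T →ₐ[B] RedFib k B₀ K ⊗[K] T :=
    Algebra.TensorProduct.lift (Algebra.ofId B _) τ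
      fun x y => Commute.all (Algebra.ofId B (RedFib k B₀ K ⊗[K] T) x) (τ y)
  obtain ⟨hprs, hprn⟩ := nilKer_prod e K T pr.toRingHom fun b t => by
    show algebraMap B (RedFib k B₀ K ⊗[K] T) b * τ t = _
    rw [hβ]
    rfl
  let cb := (Algebra.TensorProduct.cancelBaseChange A B E E T).toRingEquiv
  let Φ := (Algebra.TensorProduct.map (AlgHom.id E E) pr).toRingHom.comp cb.symm.toRingHom
  obtain ⟨hms, hmn⟩ := nilKer_map (A := E) (P := B ⊗[A] T) (Q := RedFib k B₀ K ⊗[K] T) pr hprs hprn
  refine ⟨Φ, fun x t => ?_, hms.comp cb.symm.surjective, fun x hx => ?_⟩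
  · show Algebra.TensorProduct.map (AlgHom.id E E) pr
      ((Algebra.TensorProduct.cancelBaseChange A B E E T).symm (x ⊗ₜ t)) = _
    simp [pr, τ]
  · simpa using (hmn _ hx).map cb

end comparison

include e in
/-- Base changes from a field, etale localised. -/
theorem exists_lift_of_field {E : Type u} [CommRing E] [Algebra B E] [Algebra A E] [IsScalarTower A B E]
    (hE : UIC B E) (C L : Type u) [CommRing C] [Field L] [IsAlgClosed L] [Algebra A C] [Algebra A L]
    (i : C →ₐ[A] L) (hinj : Function.Injective i)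
    (hi : ∀ l : L, i.toRingHom.IsIntegralElem l → ∃ c, i c = l)
    (z : E ⊗[A] L) (hz : (Algebra.TensorProduct.map (AlgHom.id E E) i).toRingHom.IsIntegralElem z) :
    ∃ w, IsNilpotent (Algebra.TensorProduct.map (AlgHom.id E E) i w - z) := by
  classical
  let K := AlgebraicClosure k
  letI : Algebra k L := ((algebraMap A L).comp (algebraMap k A)).toAlgebra
  letI : Algebra k C := ((algebraMap A C).comp (algebraMap k A)).toAlgebra
  haveI : IsScalarTower k A L := IsScalarTower.of_algebraMap_eq fun _ => rfl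
  haveI : IsScalarTower k A C := IsScalarTower.of_algebraMap_eq fun _ => rfl
  let j : K →ₐ[k] L := IsAlgClosed.lift
  letI : Algebra K L := j.toRingHom.toAlgebra
  haveI : IsScalarTower k K L := IsScalarTower.of_algebraMap_eq fun a => (j.commutes a).symm
  -- `K` lands in `C`
  have hjC : ∀ a : K, ∃ c, i c = j a := fun a => hi _ <| by
    refine isIntegralElem_of_comp (algebraMap k C) i.toRingHom ?_
    have : i.toRingHom.comp (algebraMap k C) = algebraMap k L :=
      RingHom.ext fun x => i.commutes (algebraMap k A x)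
    rw [this]
    exact (IsIntegral.map j (Algebra.IsIntegral.isIntegral (R := k) a))
  choose γ hγ using hjC
  let γ' : K →+* C :=
    { toFun := γ
      map_one' := hinj (by simp [hγ])
      map_mul' := fun a b => hinj (by simp [hγ])
      map_zero' := hinj (by simp [hγ])
      map_add' := fun a b => hinj (by simp [hγ]) }
  letI : Algebra K C := γ'.toAlgebra
  haveI : IsScalarTower k K C := IsScalarTower.of_algebraMap_eq fun a => hinj (by
    show _ = i (γ (algebraMap k K a))
    rw [hγ, j.commutes]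
    exact i.commutes (algebraMap k A a))
  let iK : C →ₐ[K] L := { i.toRingHom with commutes' := fun a => hγ a }
  -- the reduced geometric fibre
  let P' := RedFib k B₀ K
  haveI : _root_.IsReduced P' := inferInstanceAs (_root_.IsReduced (RedFib k B₀ K))
  have hP' : UIC K P' := UIC.of_reduced fun M _ _ => Groth.VarietyBC.isReduced_tensor
  letI : Algebra B (RedFib k B₀ K ⊗[K] C) :=
    RingHom.toAlgebra (R := B) (S := RedFib k B₀ K ⊗[K] C) (beta e K C)
  letI : Algebra B (RedFib k B₀ K ⊗[K] L) :=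
    RingHom.toAlgebra (R := B) (S := RedFib k B₀ K ⊗[K] L) (beta e K L)
  obtain ⟨ΦC, hΦC, hΦCs, -⟩ := exists_phi (E := E) e K C rfl
  obtain ⟨ΦL, hΦL, -, hΦLn⟩ := exists_phi (E := E) e K L rfl
  let i₂ : RedFib k B₀ K ⊗[K] C →ₐ[B] RedFib k B₀ K ⊗[K] L :=
    { (Algebra.TensorProduct.map (AlgHom.id (RedFib k B₀ K) (RedFib k B₀ K)) iK).toRingHom with
      commutes' := fun b => by
        obtain ⟨y, rfl⟩ := e.surjective b
        show Algebra.TensorProduct.map (AlgHom.id (RedFib k B₀ K) (RedFib k B₀ K)) iK (beta e K C (e y)) =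
          beta e K L (e y)
        induction y with
        | zero => simp
        | add x y hx hy => simp only [map_add, hx, hy]
        | tmul a b => simp [beta_tmul, iK] }
  have hi₂ : ∀ l : RedFib k B₀ K ⊗[K] L, RingHom.IsIntegralElem (R := RedFib k B₀ K ⊗[K] C) (A := RedFib k B₀ K ⊗[K] L) i₂.toRingHom l →
      ∃ c : RedFib k B₀ K ⊗[K] C, i₂ c = l := by
    intro l hl
    obtain ⟨p, hp, hp0⟩ := hl
    exact hP' C L iK hi l ⟨p, hp, hp0⟩
  have comm : ∀ x, ΦL (Algebra.TensorProduct.map (AlgHom.id E E) i x) =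
      Algebra.TensorProduct.map (AlgHom.id E E) i₂ (ΦC x) := fun x => by
    induction x with
    | zero => simp
    | add x y hx hy => simp only [map_add, hx, hy]
    | tmul x t => simp [hΦC, hΦL, i₂, iK]
  have hz' : RingHom.IsIntegralElem (R := E ⊗[B] (RedFib k B₀ K ⊗[K] C)) (A := E ⊗[B] (RedFib k B₀ K ⊗[K] L))
      (Algebra.TensorProduct.map (AlgHom.id E E) i₂).toRingHom (ΦL z) := by
    refine isIntegralElem_of_comp (R := E ⊗[A] C) (R' := E ⊗[B] (RedFib k B₀ K ⊗[K] C))
      (S := E ⊗[B] (RedFib k B₀ K ⊗[K] L)) ΦC _ ?_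
    rw [show (Algebra.TensorProduct.map (AlgHom.id E E) i₂).toRingHom.comp ΦC =
      ΦL.comp (Algebra.TensorProduct.map (AlgHom.id E E) i).toRingHom from RingHom.ext fun x => (comm x).symm]
    exact hz.map ΦL
  obtain ⟨w', hw'⟩ := hE (RedFib k B₀ K ⊗[K] C) (RedFib k B₀ K ⊗[K] L) i₂ hi₂ _ hz'
  obtain ⟨w, rfl⟩ := hΦCs w'
  exact ⟨w, hΦLn _ (by rw [map_sub, comm, hw', sub_self])⟩

include e in
/-- Localisations of base changes from a field. -/
theorem NilUIC.of_field {Bq : Type u} [CommRing Bq] [Algebra B Bq] [Algebra A Bq] [IsScalarTower A B Bq]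
    (M : Submonoid B) [IsLocalization M Bq] : NilUIC A Bq := by
  intro C L _ _ _ _ _ i hinj hi E _ _ _ _ _ z hz
  letI : Algebra B E := ((algebraMap Bq E).comp (algebraMap B Bq)).toAlgebra
  haveI : IsScalarTower B Bq E := IsScalarTower.of_algebraMap_eq fun _ => rfl
  haveI : IsScalarTower A B E := IsScalarTower.of_algebraMap_eq fun a => by
    show algebraMap A E a = algebraMap Bq E (algebraMap B Bq (algebraMap A B a))
    rw [← IsScalarTower.algebraMap_apply A B Bq, ← IsScalarTower.algebraMap_apply A Bq E]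
  exact exists_lift_of_field e ((UIC.of_isLocalization (B := Bq) M).trans UIC.of_smooth) C L i hinj hi z hz

end Groth.ZeroAcyclic
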