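import Groth.Agent.AlgSpEt.GorRing
import Groth.Agent.S3513
import Groth.Prelude.Def_EtAcyc

/-!
Zero acyclicity is insensitive to thickenings.
-/

set_option autoImplicit false
set_option backward.isDefEq.respectTransparency.types false

universe u

open CategoryTheory CategoryTheory.Limits AlgebraicGeometry Opposite IsLocalRing

namespace Groth.ZeroAcyclic

/-- The strict henselisation of a quotient. -/
theorem isStrictHenselization_of_surjective {A A' R : Type u} [CommRing A] [IsLocalRing A] [CommRing A']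
    [IsLocalRing A'] [CommRing R] [IsLocalRing R] [Algebra A R] [IsLocalHom (algebraMap A R)]
    [hR : Hensel.IsStrictHenselization A R] (π : A →+* A') (hπ : Function.Surjective π)
    [IsLocalRing (R ⧸ (RingHom.ker π).map (algebraMap A R))]
    [Algebra A' (R ⧸ (RingHom.ker π).map (algebraMap A R))]
    [IsLocalHom (algebraMap A' (R ⧸ (RingHom.ker π).map (algebraMap A R)))]
    (hc : ∀ a, algebraMap A' (R ⧸ (RingHom.ker π).map (algebraMap A R)) (π a) =
      Ideal.Quotient.mk _ (algebraMap A R a)) :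
    Hensel.IsStrictHenselization A' (R ⧸ (RingHom.ker π).map (algebraMap A R)) := by
  have hA : IsLocalHom π := .of_surjective _ hπ
  have hm : IsLocalHom (Ideal.Quotient.mk ((RingHom.ker π).map (algebraMap A R))) :=
    .of_surjective _ Ideal.Quotient.mk_surjective
  let q := Ideal.Quotient.mk ((RingHom.ker π).map (algebraMap A R))
  let ρA : ResidueField A ≃+* ResidueField A' := RingEquiv.ofBijective (ResidueField.map (π))
    ⟨RingHom.injective _, fun z => by
      obtain ⟨y, rfl⟩ := residue_surjective z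
      obtain ⟨a, rfl⟩ := hπ y
      exact ⟨residue A a, rfl⟩⟩
  let ρR : ResidueField R ≃+* ResidueField (R ⧸ (RingHom.ker π).map (algebraMap A R)) :=
    RingEquiv.ofBijective (ResidueField.map q) ⟨RingHom.injective _, fun z => by
      obtain ⟨y, rfl⟩ := residue_surjective z
      obtain ⟨a, rfl⟩ := Ideal.Quotient.mk_surjective y
      exact ⟨residue R a, rfl⟩⟩
  have hcomm : ∀ z : ResidueField A,
      algebraMap (ResidueField A') (ResidueField (R ⧸ (RingHom.ker π).map (algebraMap A R))) (ρA z) =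
        ρR (algebraMap (ResidueField A) (ResidueField R) z) := fun z => by
    obtain ⟨a, rfl⟩ := residue_surjective z
    exact congrArg (residue _) (hc a)
  have := hR.henselian
  refine ⟨Groth.HensPair.henselianLocalRing_quotient _ fun htop => not_subsingleton (R ⧸ (RingHom.ker π).map (algebraMap A R))
    (Ideal.Quotient.subsingleton_iff.mpr htop), ⟨?_, ⟨fun z => ?_⟩⟩, fun T _ _ f _ τ hτ => ?_⟩
  · have := hR.isSepClosure.sep_closed
    exact IsSepClosed.of_exists_root _ fun p hp hirr hsep => by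
      obtain ⟨x, hx⟩ := IsSepClosed.exists_root (p.map ρR.symm.toRingHom)
        (by rw [Polynomial.degree_map_eq_of_injective (f := ρR.symm.toRingHom) ρR.symm.injective]
            exact (Polynomial.degree_pos_of_irreducible hirr).ne')
        hsep.map
      refine ⟨ρR x, ρR.symm.injective ?_⟩
      rw [Polynomial.IsRoot, Polynomial.eval_map] at hx
      rw [map_zero, ← hx]
      conv_rhs => rw [← ρR.symm_apply_apply x]
      exact (Polynomial.eval₂_at_apply ρR.symm.toRingHom (ρR x)).symm
  · obtain ⟨w, rfl⟩ := ρR.surjective z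
    exact IsSeparable.of_equiv_equiv ρA ρR (RingHom.ext hcomm) (hR.isSepClosure.separable.isSeparable _ w)
  · obtain ⟨g, ⟨hg, hgτ⟩, hgu⟩ := hR.universal T (f.comp (π)) (τ.comp ρR.toRingHom)
      ((RingHom.cancel_right residue_surjective).mp (RingHom.ext fun a =>
        ((congrArg (fun z => τ (residue _ z)) (hc a)).symm.trans (RingHom.congr_fun hτ (residue A' (π a))))))
    have hJ : ∀ x ∈ (RingHom.ker π).map (algebraMap A R), g x = 0 := by
      show (RingHom.ker π).map (algebraMap A R) ≤ RingHom.ker g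
      refine Ideal.map_le_iff_le_comap.mpr fun a ha => ?_
      show g (algebraMap A R a) = 0
      rw [← RingHom.comp_apply, hg, RingHom.comp_apply, show π a = 0 from ha, map_zero]
    refine ⟨Ideal.Quotient.lift _ g hJ, ⟨RingHom.ext fun a' => ?_, fun x => ?_⟩,
      fun g' ⟨hg', hg'τ⟩ => Ideal.Quotient.ringHom_ext ?_⟩
    · obtain ⟨a, rfl⟩ := hπ a'
      rw [RingHom.comp_apply, hc, Ideal.Quotient.lift_mk]
      exact RingHom.congr_fun hg a
    · obtain ⟨x, rfl⟩ := Ideal.Quotient.mk_surjective x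
      exact hgτ x
    · have hsp : g'.comp q = g := hgu _ ⟨RingHom.ext fun a => ((congrArg g' (hc a)).symm.trans (RingHom.congr_fun hg' (π a))),
        fun x => hg'τ (q x)⟩
      rw [hsp, Ideal.Quotient.lift_comp_mk]

variable {X Y : Scheme.{u}}

/-- Surjective immersions are zero acyclic. -/
theorem isZeroAcyclic_of_immersion (f : X ⟶ Y) [IsImmersion f] [Surjective f] :
    EtAcyc.IsZeroAcyclic f := by
  intro V F
  haveI : IsImmersion (EtAcyc.prj f V) := inferInstanceAs (IsImmersion (pullback.fst V.hom f))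
  haveI : Surjective (EtAcyc.prj f V) := inferInstanceAs (Surjective (pullback.fst V.hom f))
  let p := EtAcyc.prj f V
  haveI := (Groth.DescentBase.pullSh_faithful_reflects p).2
  haveI := Groth.DescentBase.OpenImmSh.isIso_counit_of_isImmersion p ((EtDesc.pullSh p).obj F)
  haveI : IsIso ((EtDesc.pullSh p).map ((EtDesc.adjSh p).unit.app F)) := by
    haveI : IsIso ((EtDesc.pullSh p).map ((EtDesc.adjSh p).unit.app F) ≫
        (EtDesc.adjSh p).counit.app ((EtDesc.pullSh p).obj F)) := by
      erw [(EtDesc.adjSh p).left_triangle_components]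
      infer_instance
    exact IsIso.of_isIso_comp_right _ ((EtDesc.adjSh p).counit.app ((EtDesc.pullSh p).obj F))
  exact isIso_of_reflects_iso _ (EtDesc.pullSh p)

/-- Stalk maps of surjective closed immersions have nil kernel. -/
theorem isNilpotent_of_stalkMap (i : X ⟶ Y) [IsClosedImmersion i] [Surjective i] (x : X)
    {a : Y.presheaf.stalk (i x)} (ha : i.stalkMap x a = 0) : IsNilpotent a := by
  rw [← mem_nilradical, nilradical_eq_sInf, Submodule.mem_sInf]
  intro p hp
  haveI : Ideal.IsPrime p := hp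
  let P : Spec (Y.presheaf.stalk (i x)) := ⟨p, inferInstance⟩
  obtain ⟨z, hz⟩ := i.surjective (Y.fromSpecStalk (i x) P)
  have hzs : i z ⤳ i x := by
    rw [hz]
    exact Scheme.range_fromSpecStalk.le ⟨P, rfl⟩
  obtain ⟨q, hq⟩ := Scheme.range_fromSpecStalk.ge
    (show z ∈ {y | y ⤳ x} from i.isClosedEmbedding.isInducing.specializes_iff.1 hzs)
  have h : Spec.map (i.stalkMap x) q = P := by
    refine (Y.fromSpecStalk (i x)).isEmbedding.injective ?_
    rw [← Scheme.Hom.comp_apply, Scheme.SpecMap_stalkMap_fromSpecStalk, Scheme.Hom.comp_apply, hq, hz]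
  have h2 : a ∈ (Spec.map (i.stalkMap x) q).asIdeal := by
    show (i.stalkMap x).hom a ∈ q.asIdeal
    rw [show (i.stalkMap x).hom a = 0 from ha]
    exact q.asIdeal.zero_mem
  rwa [h] at h2

/-- The map of spectra of a quotient by a nil ideal. -/
theorem isZeroAcyclic_quotient {R : Type u} [CommRing R] (I : Ideal R) (hI : I ≤ nilradical R) :
    EtAcyc.IsZeroAcyclic (Spec.map (CommRingCat.ofHom (Ideal.Quotient.mk I))) := by
  haveI : IsClosedImmersion (Spec.map (CommRingCat.ofHom (Ideal.Quotient.mk I))) :=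
    IsClosedImmersion.spec_of_surjective _ Ideal.Quotient.mk_surjective
  haveI : Surjective (Spec.map (CommRingCat.ofHom (Ideal.Quotient.mk I))) := ⟨fun p => by
    obtain ⟨q, hq⟩ := (range_comap_of_surjective _ _ Ideal.Quotient.mk_surjective).ge
      (show p ∈ PrimeSpectrum.zeroLocus (RingHom.ker (Ideal.Quotient.mk I) : Set R) from
        (Ideal.mk_ker (I := I)).le.trans (hI.trans (nilradical_le_prime p.asIdeal)))
    exact ⟨q, hq⟩⟩
  exact isZeroAcyclic_of_immersion _

set_option maxHeartbeats 1000000 in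
/-- Local zero acyclicity is insensitive to thickenings. -/
theorem isLocZeroAcyclic_of_thickening {X' Y' : Scheme.{u}} (g : X ⟶ Y) (g' : X' ⟶ Y') (iX : X' ⟶ X)
    (iY : Y' ⟶ Y) [IsClosedImmersion iX] [Surjective iX] [IsClosedImmersion iY] [Surjective iY]
    (w : iX ≫ g = g' ≫ iY) (h : EtAcyc.IsLocZeroAcyclic g') : EtAcyc.IsLocZeroAcyclic g := by
  intro x RY RX _ _ _ _ _ _ _ _ _ _ _ _ hψ
  obtain ⟨x', rfl⟩ := iX.surjective x
  have hy : g (iX x') = iY (g' x') := by
    rw [← Scheme.Hom.comp_apply, w, Scheme.Hom.comp_apply]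
  let a := (iX.stalkMap x').hom
  let c := (Y.presheaf.stalkCongr (.of_eq hy)).hom
  let b := (c ≫ iY.stalkMap (g' x')).hom
  have hcb : Function.Bijective c.hom := ConcreteCategory.bijective_of_isIso c
  have comm : (g'.stalkMap x').hom.comp b = a.comp (g.stalkMap (iX x')).hom := by
    have h1 : (iX ≫ g).stalkMap x' = c ≫ (g' ≫ iY).stalkMap x' := Scheme.Hom.stalkMap_congr_hom _ _ w x'
    rw [Scheme.Hom.stalkMap_comp, Scheme.Hom.stalkMap_comp] at h1
    exact (congrArg CommRingCat.Hom.hom h1).symm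
  have hsa : Function.Surjective a := iX.stalkMap_surjective x'
  have hsb : Function.Surjective b := (iY.stalkMap_surjective _).comp hcb.2
  have hna : ∀ t, a t = 0 → IsNilpotent t := fun t ht => isNilpotent_of_stalkMap iX x' ht
  have hnb : ∀ t, b t = 0 → IsNilpotent t := fun t ht =>
    (IsNilpotent.map_iff hcb.1).1 (isNilpotent_of_stalkMap iY (g' x') ht)
  let NY := (RingHom.ker b).map (algebraMap (Y.presheaf.stalk (g (iX x'))) RY)
  let NX := (RingHom.ker a).map (algebraMap (X.presheaf.stalk (iX x')) RX)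
  have hNY : NY ≤ nilradical RY :=
    Ideal.map_le_iff_le_comap.2 fun t ht => mem_nilradical.2 ((hnb t ht).map _)
  have hNX : NX ≤ nilradical RX :=
    Ideal.map_le_iff_le_comap.2 fun t ht => mem_nilradical.2 ((hna t ht).map _)
  haveI : Nontrivial (RY ⧸ NY) := Ideal.Quotient.nontrivial_iff.2
    (ne_top_of_le_ne_top (maximalIdeal.isMaximal RY).ne_top (hNY.trans (nilradical_le_prime _)))
  haveI : Nontrivial (RX ⧸ NX) := Ideal.Quotient.nontrivial_iff.2
    (ne_top_of_le_ne_top (maximalIdeal.isMaximal RX).ne_top (hNX.trans (nilradical_le_prime _)))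
  haveI : IsLocalRing (RY ⧸ NY) := .of_surjective' _ Ideal.Quotient.mk_surjective
  haveI : IsLocalRing (RX ⧸ NX) := .of_surjective' _ Ideal.Quotient.mk_surjective
  haveI : IsLocalHom (Ideal.Quotient.mk NY) := .of_surjective _ Ideal.Quotient.mk_surjective
  haveI : IsLocalHom (Ideal.Quotient.mk NX) := .of_surjective _ Ideal.Quotient.mk_surjective
  let lY : Y'.presheaf.stalk (g' x') →+* RY ⧸ NY :=
    (Ideal.Quotient.lift (RingHom.ker b) ((Ideal.Quotient.mk NY).comp (algebraMap _ RY)) fun t ht =>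
      Ideal.Quotient.eq_zero_iff_mem.2 (Ideal.mem_map_of_mem _ ht)).comp
      (RingHom.quotientKerEquivOfSurjective hsb).symm.toRingHom
  let lX : X'.presheaf.stalk x' →+* RX ⧸ NX :=
    (Ideal.Quotient.lift (RingHom.ker a) ((Ideal.Quotient.mk NX).comp (algebraMap _ RX)) fun t ht =>
      Ideal.Quotient.eq_zero_iff_mem.2 (Ideal.mem_map_of_mem _ ht)).comp
      (RingHom.quotientKerEquivOfSurjective hsa).symm.toRingHom
  have hlY : ∀ t, lY (b t) = Ideal.Quotient.mk NY (algebraMap _ RY t) := fun t => by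
    have h1 : (RingHom.quotientKerEquivOfSurjective hsb).symm (b t) = Ideal.Quotient.mk (RingHom.ker b) t :=
      (RingHom.quotientKerEquivOfSurjective hsb).symm_apply_eq.2 rfl
    simp only [lY, RingHom.comp_apply, RingEquiv.toRingHom_eq_coe, RingEquiv.coe_toRingHom, h1,
      Ideal.Quotient.lift_mk]
  have hlX : ∀ t, lX (a t) = Ideal.Quotient.mk NX (algebraMap _ RX t) := fun t => by
    have h1 : (RingHom.quotientKerEquivOfSurjective hsa).symm (a t) = Ideal.Quotient.mk (RingHom.ker a) t :=
      (RingHom.quotientKerEquivOfSurjective hsa).symm_apply_eq.2 rfl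
    simp only [lX, RingHom.comp_apply, RingEquiv.toRingHom_eq_coe, RingEquiv.coe_toRingHom, h1,
      Ideal.Quotient.lift_mk]
  letI : Algebra (Y'.presheaf.stalk (g' x')) (RY ⧸ NY) := lY.toAlgebra
  letI : Algebra (X'.presheaf.stalk x') (RX ⧸ NX) := lX.toAlgebra
  haveI : IsLocalHom (algebraMap (Y'.presheaf.stalk (g' x')) (RY ⧸ NY)) := ⟨fun t ht => by
    obtain ⟨t, rfl⟩ := hsb t
    rw [RingHom.algebraMap_toAlgebra, hlY] at ht
    exact ((IsLocalHom.map_nonunit (f := algebraMap (Y.presheaf.stalk (g (iX x'))) RY) t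
      (IsLocalHom.map_nonunit (f := Ideal.Quotient.mk NY) _ ht))).map b⟩
  haveI : IsLocalHom (algebraMap (X'.presheaf.stalk x') (RX ⧸ NX)) := ⟨fun t ht => by
    obtain ⟨t, rfl⟩ := hsa t
    rw [RingHom.algebraMap_toAlgebra, hlX] at ht
    exact ((IsLocalHom.map_nonunit (f := algebraMap (X.presheaf.stalk (iX x')) RX) t
      (IsLocalHom.map_nonunit (f := Ideal.Quotient.mk NX) _ ht))).map a⟩
  haveI := isStrictHenselization_of_surjective (R := RY) b hsb hlY
  haveI := isStrictHenselization_of_surjective (R := RX) a hsa hlX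
  have hle : NY ≤ NX.comap (algebraMap RY RX) := Ideal.map_le_iff_le_comap.2 fun t ht => by
    show algebraMap RY RX (algebraMap _ RY t) ∈ NX
    rw [← RingHom.comp_apply (algebraMap RY RX), hψ]
    refine Ideal.mem_map_of_mem _ ?_
    show a (g.stalkMap (iX x') t) = 0
    rw [← RingHom.comp_apply a, ← comm, RingHom.comp_apply, show b t = 0 from ht, map_zero]
  letI : Algebra (RY ⧸ NY) (RX ⧸ NX) := (Ideal.quotientMap NX (algebraMap RY RX) hle).toAlgebra
  haveI : IsLocalHom (algebraMap (RY ⧸ NY) (RX ⧸ NX)) := ⟨fun t ht => by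
    obtain ⟨t, rfl⟩ := Ideal.Quotient.mk_surjective t
    rw [RingHom.algebraMap_toAlgebra, Ideal.quotientMap_mk] at ht
    exact (IsLocalHom.map_nonunit (f := algebraMap RY RX) t
      (IsLocalHom.map_nonunit (f := Ideal.Quotient.mk NX) _ ht)).map _⟩
  have h' := h x' (RY ⧸ NY) (RX ⧸ NX) (RingHom.ext fun t => by
    obtain ⟨t, rfl⟩ := hsb t
    rw [RingHom.comp_apply, RingHom.comp_apply,
      show algebraMap (Y'.presheaf.stalk (g' x')) (RY ⧸ NY) (b t) = _ from hlY t,
      RingHom.algebraMap_toAlgebra, Ideal.quotientMap_mk, ← RingHom.comp_apply (algebraMap RY RX), hψ,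
      ← RingHom.comp_apply (g'.stalkMap x').hom, comm]
    exact (hlX _).symm)
  have hsq : Spec.map (CommRingCat.ofHom (Ideal.Quotient.mk NX)) ≫
      Spec.map (CommRingCat.ofHom (algebraMap RY RX)) =
      Spec.map (CommRingCat.ofHom (algebraMap (RY ⧸ NY) (RX ⧸ NX))) ≫
        Spec.map (CommRingCat.ofHom (Ideal.Quotient.mk NY)) := by
    rw [← Spec.map_comp, ← Spec.map_comp]
    rfl
  refine ((Groth.Agent.S3513.result _ (Spec.map (CommRingCat.ofHom (algebraMap RY RX))) ∅ 0).2
    (isZeroAcyclic_quotient NX hNX)).2 ?_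
  rw [hsq]
  exact ((Groth.Agent.S3513.result _ (Spec.map (CommRingCat.ofHom (Ideal.Quotient.mk NY))) ∅ 0).2 h').1
    (isZeroAcyclic_quotient NY hNY)

end Groth.ZeroAcyclic
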