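import Groth.Agent.ZeroAcyclic.GeomReduced
import Groth.Agent.ZeroAcyclic.FieldBase
import Groth.Agent.ZeroAcyclic.Thickening

/-!
Morphisms to discrete schemes are universally locally zero acyclic.
-/

set_option autoImplicit false
set_option linter.style.haveILetI false

universe u

open CategoryTheory CategoryTheory.Limits AlgebraicGeometry Opposite TopologicalSpace
open scoped TensorProduct

namespace Groth.ZeroAcyclic

/-- A point of a discrete scheme is an affine open. -/
theorem exists_point_opens {S : Scheme.{u}} [DiscreteTopology S] (s : S) :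
    ∃ U : S.Opens, IsAffineOpen U ∧ (U : Set S) = {s} := by
  obtain ⟨_, ⟨U, hU, rfl⟩, hs, hsub⟩ :=
    S.isBasis_affineOpens.exists_subset_of_mem_open (Set.mem_singleton s) (isOpen_discrete {s})
  exact ⟨U, hU, Set.Subset.antisymm hsub (Set.singleton_subset_iff.2 hs)⟩

/-- A point of a reduced discrete scheme is the spectrum of a field. -/
theorem isIntegral_point {S : Scheme.{u}} [IsReduced S] {U : S.Opens} {s : S} (hU : (U : Set S) = {s}) :
    Subsingleton U ∧ IsIntegral (U : Scheme.{u}) := by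
  haveI : Subsingleton U := ⟨fun a b => Subtype.ext ((Set.mem_singleton_iff.1 (hU.le a.2)).trans (Set.mem_singleton_iff.1 (hU.le b.2)).symm)⟩
  haveI : Nonempty U := ⟨⟨s, hU.ge rfl⟩⟩
  haveI : IrreducibleSpace (U : Scheme.{u}) :=
    { isPreirreducible_univ := Set.subsingleton_univ.isPreirreducible
      toNonempty := inferInstanceAs (Nonempty U) }
  exact ⟨inferInstance, isIntegral_of_irreducibleSpace_of_isReduced _⟩

/-- Morphisms to reduced discrete schemes are flat. -/
theorem flat_of_discrete {X S : Scheme.{u}} (f : X ⟶ S) [IsReduced S] [DiscreteTopology S] : Flat f := by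
  choose U hU hUs using exists_point_opens (S := S)
  refine IsZariskiLocalAtTarget.of_iSup_eq_top U (top_le_iff.1 fun s _ => ?_) fun s => ?_
  · exact Opens.mem_iSup.2 ⟨s, (hUs s).ge rfl⟩
  · obtain ⟨_, _⟩ := isIntegral_point (hUs s)
    haveI : Subsingleton (U s : Scheme.{u}) := ‹Subsingleton (U s)›
    infer_instance

variable {X S X₁ S₁ : Scheme.{u}} (f : X ⟶ S) (g₁ : X₁ ⟶ S₁) (b' : X₁ ⟶ X) (b : S₁ ⟶ S)
  (H : IsPullback b' g₁ f b)

include H in
/-- The condition over a reduced discrete base. -/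
theorem nilUICAt_of_discrete [IsReduced S] [DiscreteTopology S] (x : X₁) : NilUICAt g₁ x := by
  obtain ⟨U₀, hU₀, hU₀s⟩ := exists_point_opens (f.base (b'.base x))
  obtain ⟨hss, hint⟩ := isIntegral_point hU₀s
  haveI : Subsingleton (U₀ : Scheme.{u}) := hss
  have hfield : IsField Γ(S, U₀) :=
    MulEquiv.isField (isField_of_isIntegral_of_subsingleton (U₀ : Scheme.{u}))
      U₀.topIso.commRingCatIsoToRingEquiv.symm.toMulEquiv
  letI := hfield.toField
  obtain ⟨_, ⟨V₀, hV₀, rfl⟩, hx₀, e₀⟩ :=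
    X.isBasis_affineOpens.exists_subset_of_mem_open (show b'.base x ∈ f ⁻¹ᵁ U₀ from hU₀s.ge rfl) (f ⁻¹ᵁ U₀).2
  have hw : b.base (g₁.base x) = f.base (b'.base x) := by
    rw [← Scheme.Hom.comp_apply, ← Scheme.Hom.comp_apply, H.w]
  obtain ⟨_, ⟨U, hU, rfl⟩, hxU, hUU₀⟩ :=
    S₁.isBasis_affineOpens.exists_subset_of_mem_open
      (show g₁.base x ∈ b ⁻¹ᵁ U₀ by show b.base (g₁.base x) ∈ U₀; rw [hw]; exact e₀ hx₀) (b ⁻¹ᵁ U₀).2
  let W := b' ⁻¹ᵁ V₀ ⊓ g₁ ⁻¹ᵁ U
  haveI := AlgebraicGeometry.isIso_pushoutSection_of_isAffineOpen H hUU₀ e₀ (rfl : W = _) hU₀ hU hV₀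
  have hP := (AlgebraicGeometry.isIso_pushoutSection_iff H hUU₀ e₀ (rfl : W = _)).1 this
  have hW : IsAffineOpen W := by
    haveI : IsAffine _ := hU₀
    haveI : IsAffine _ := hU
    haveI : IsAffine _ := hV₀
    exact .of_isIso (Scheme.Hom.isPullback_resLE H hUU₀ e₀ (rfl : W = _)).isoPullback.hom
  refine ⟨U, hU, hxU, ?_⟩
  have hxW : x ∈ W := ⟨hx₀, hxU⟩
  letI : Algebra Γ(S, U₀) Γ(X, V₀) := (f.appLE U₀ V₀ e₀).hom.toAlgebra
  letI : Algebra Γ(S, U₀) Γ(S₁, U) := (b.appLE U₀ U hUU₀).hom.toAlgebra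
  letI : Algebra Γ(S₁, U) Γ(X₁, W) := (g₁.appLE U W inf_le_right).hom.toAlgebra
  letI : Algebra Γ(X, V₀) Γ(X₁, W) := (b'.appLE V₀ W inf_le_left).hom.toAlgebra
  letI : Algebra Γ(S, U₀) Γ(X₁, W) :=
    ((g₁.appLE U W inf_le_right).hom.comp (b.appLE U₀ U hUU₀).hom).toAlgebra
  haveI : IsScalarTower Γ(S, U₀) Γ(S₁, U) Γ(X₁, W) := IsScalarTower.of_algebraMap_eq fun _ => rfl
  haveI : IsScalarTower Γ(S, U₀) Γ(X, V₀) Γ(X₁, W) := IsScalarTower.of_algebraMap_eq' <|
    (congrArg CommRingCat.Hom.hom hP.w).symm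
  haveI : Algebra.IsPushout Γ(S, U₀) Γ(X, V₀) Γ(S₁, U) Γ(X₁, W) :=
    CommRingCat.isPushout_iff_isPushout.1 hP
  haveI : Algebra.IsPushout Γ(S, U₀) Γ(S₁, U) Γ(X, V₀) Γ(X₁, W) := Algebra.IsPushout.symm inferInstance
  letI : Algebra Γ(X₁, W) (X₁.presheaf.stalk x) := (X₁.presheaf.germ W x hxW).hom.toAlgebra
  letI : Algebra Γ(S₁, U) (X₁.presheaf.stalk x) :=
    ((g₁.stalkMap x).hom.comp (S₁.presheaf.germ U (g₁.base x) hxU).hom).toAlgebra
  haveI : IsScalarTower Γ(S₁, U) Γ(X₁, W) (X₁.presheaf.stalk x) := IsScalarTower.of_algebraMap_eq fun a => by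
    show g₁.stalkMap x (S₁.presheaf.germ U (g₁.base x) hxU a) =
      X₁.presheaf.germ W x hxW (g₁.appLE U W inf_le_right a)
    refine (Scheme.Hom.germ_stalkMap_apply g₁ U x hxU a).trans ?_
    exact (X₁.presheaf.germ_res_apply (homOfLE inf_le_right) x hxW _).symm
  haveI : IsLocalization.AtPrime (X₁.presheaf.stalk x) (hW.primeIdealOf ⟨x, hxW⟩).asIdeal :=
    hW.isLocalization_stalk ⟨x, hxW⟩
  exact NilUIC.of_field (Algebra.IsPushout.equiv Γ(S, U₀) Γ(S₁, U) Γ(X, V₀) Γ(X₁, W))
    (hW.primeIdealOf ⟨x, hxW⟩).asIdeal.primeCompl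

omit g₁ b' b H in
/-- The reduced case. -/
theorem isULocZeroAcyclic_of_reduced_discrete [IsReduced S] [DiscreteTopology S] :
    EtAcyc.IsULocZeroAcyclic f := by
  intro X₁ S₁ g₁ b' b H
  haveI := flat_of_discrete f
  haveI : Flat g₁ := MorphismProperty.of_isPullback (P := @Flat) H inferInstance
  exact isLocZeroAcyclic_of_nilUIC g₁ fun x => nilUICAt_of_discrete f g₁ b' b H x

omit g₁ b' b H in
/-- Morphisms to discrete schemes are universally locally zero acyclic. -/
theorem isULocZeroAcyclic_of_discrete [DiscreteTopology S] : EtAcyc.IsULocZeroAcyclic f := by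
  let I := S.nilradical
  let ι := I.subschemeι
  haveI : Surjective ι := ⟨fun s => by
    have : s ∈ Set.range I.subschemeι := by
      rw [Scheme.IdealSheafData.range_subschemeι, show I.support = ⊤ from rfl]
      trivial
    exact this⟩
  haveI : IsReduced I.subscheme := by
    have : ∀ U, IsReduced (I.subschemeCover.openCover.X U) := fun U => by
      have : _root_.IsReduced (Γ(S, U.1) ⧸ I.ideal U) :=
        (Ideal.isRadical_iff_quotient_reduced _).1 (Ideal.radical_isRadical _)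
      exact inferInstanceAs (IsReduced (Spec (CommRingCat.of (Γ(S, U.1) ⧸ I.ideal U))))
    exact IsReduced.of_openCover (X := I.subscheme) I.subschemeCover.openCover
  haveI : DiscreteTopology I.subscheme := ι.isClosedEmbedding.isEmbedding.discreteTopology
  intro X₁ S₁ g₁ b' b H
  let iY := pullback.fst b ι
  let iX := pullback.fst g₁ iY
  haveI : IsClosedImmersion iY := inferInstanceAs (IsClosedImmersion (pullback.fst b ι))
  haveI : Surjective iY := inferInstanceAs (Surjective (pullback.fst b ι))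
  haveI : IsClosedImmersion iX := inferInstanceAs (IsClosedImmersion (pullback.fst g₁ iY))
  haveI : Surjective iX := inferInstanceAs (Surjective (pullback.fst g₁ iY))
  let q := pullback.snd g₁ iY ≫ pullback.snd b ι
  have hq : (iX ≫ b') ≫ f = q ≫ ι := by
    simp only [q, iX, iY, Category.assoc, H.w, pullback.condition_assoc, pullback.condition]
  let b'' : pullback g₁ iY ⟶ pullback f ι := pullback.lift (iX ≫ b') q hq
  have h1 : IsPullback (iX ≫ b') (pullback.snd g₁ iY) f (pullback.snd b ι ≫ ι) := by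
    rw [← pullback.condition (f := b) (g := ι)]
    exact (IsPullback.of_hasPullback g₁ iY).paste_horiz H
  have h2 : IsPullback b'' (pullback.snd g₁ iY) (pullback.snd f ι) (pullback.snd b ι) := by
    refine IsPullback.of_right ?_ (pullback.lift_snd _ _ _) (IsPullback.of_hasPullback f ι)
    rw [show b'' ≫ pullback.fst f ι = iX ≫ b' from pullback.lift_fst _ _ _]
    exact h1
  exact isLocZeroAcyclic_of_thickening g₁ (pullback.snd g₁ iY) iX iY pullback.condition
    (isULocZeroAcyclic_of_reduced_discrete (pullback.snd f ι) (pullback.snd g₁ iY) b'' (pullback.snd b ι) h2)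

end Groth.ZeroAcyclic
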