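import Groth.Agent.ZeroAcyclic.LocalCriterion

/-!
Flat morphisms with geometrically reduced fibres are universally locally zero acyclic.
-/

set_option autoImplicit false
set_option linter.style.haveILetI false

universe u

open CategoryTheory CategoryTheory.Limits AlgebraicGeometry Opposite
open scoped TensorProduct

namespace Groth.ZeroAcyclic

open Groth.EtaleBase.BCZero (UIC isReduced_tensor_appLE)

variable {X S : Scheme.{u}} (f : X ⟶ S)

/-- The condition follows from the condition on sections over affine neighbourhoods. -/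
theorem nilUICAt_of_affine {U : S.Opens} (hU : IsAffineOpen U) {V : X.Opens} (hV : IsAffineOpen V)
    (e : V ≤ f ⁻¹ᵁ U) {x : X} (hxV : x ∈ V)
    (h : letI := (f.appLE U V e).hom.toAlgebra; UIC Γ(S, U) Γ(X, V)) : NilUICAt f x := by
  refine ⟨U, hU, e hxV, ?_⟩
  letI : Algebra Γ(S, U) Γ(X, V) := (f.appLE U V e).hom.toAlgebra
  letI : Algebra Γ(X, V) (X.presheaf.stalk x) := (X.presheaf.germ V x hxV).hom.toAlgebra
  letI : Algebra Γ(S, U) (X.presheaf.stalk x) :=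
    ((f.stalkMap x).hom.comp (S.presheaf.germ U (f.base x) (e hxV)).hom).toAlgebra
  haveI : IsScalarTower Γ(S, U) Γ(X, V) (X.presheaf.stalk x) := IsScalarTower.of_algebraMap_eq fun a => by
    show f.stalkMap x (S.presheaf.germ U (f.base x) (e hxV) a) = X.presheaf.germ V x hxV (f.appLE U V e a)
    refine (Scheme.Hom.germ_stalkMap_apply f U x (e hxV) a).trans ?_
    exact (X.presheaf.germ_res_apply (homOfLE e) x hxV _).symm
  haveI : IsLocalization.AtPrime (X.presheaf.stalk x) (hV.primeIdealOf ⟨x, hxV⟩).asIdeal :=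
    hV.isLocalization_stalk ⟨x, hxV⟩
  exact NilUIC.of_uic (h.trans (UIC.of_isLocalization (B := X.presheaf.stalk x)
    (hV.primeIdealOf ⟨x, hxV⟩).asIdeal.primeCompl))

variable {X₁ S₁ : Scheme.{u}} (g₁ : X₁ ⟶ S₁) (b' : X₁ ⟶ X) (b : S₁ ⟶ S) (H : IsPullback b' g₁ f b)
  [Flat f] (hred : ∀ (K : Type u) [Field K] (k : Spec (CommRingCat.of K) ⟶ S), IsReduced (pullback f k))

include H hred in
/-- The finitely presented case. -/
theorem nilUICAt_of_lfp [LocallyOfFinitePresentation f] (x : X₁) : NilUICAt g₁ x := by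
  haveI : Flat g₁ := MorphismProperty.of_isPullback (P := @Flat) H inferInstance
  haveI : LocallyOfFinitePresentation g₁ :=
    MorphismProperty.of_isPullback (P := @LocallyOfFinitePresentation) H inferInstance
  have hred₁ : ∀ (K : Type u) [Field K] (k : Spec (CommRingCat.of K) ⟶ S₁), IsReduced (pullback g₁ k) := by
    intro K _ k
    haveI := hred K (k ≫ b)
    exact isReduced_of_isOpenImmersion
      ((((IsPullback.of_hasPullback g₁ k).flip.paste_vert H.flip).flip).isoPullback.hom)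
  obtain ⟨_, ⟨U, hU, rfl⟩, hxU, -⟩ :=
    S₁.isBasis_affineOpens.exists_subset_of_mem_open (Set.mem_univ (g₁.base x)) isOpen_univ
  obtain ⟨_, ⟨V, hV, rfl⟩, hxV, hVU⟩ :=
    X₁.isBasis_affineOpens.exists_subset_of_mem_open (show x ∈ g₁ ⁻¹ᵁ U from hxU) (g₁ ⁻¹ᵁ U).2
  refine nilUICAt_of_affine g₁ hU hV hVU hxV ?_
  letI : Algebra Γ(S₁, U) Γ(X₁, V) := (g₁.appLE U V hVU).hom.toAlgebra
  haveI : Module.Flat Γ(S₁, U) Γ(X₁, V) := g₁.flat_appLE hU hV hVU
  haveI : Algebra.FinitePresentation Γ(S₁, U) Γ(X₁, V) :=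
    RingHom.finitePresentation_algebraMap.1 (g₁.finitePresentation_appLE hU hV hVU)
  exact UIC.of_flat_fp fun K _ _ => isReduced_tensor_appLE g₁ hred₁ hU hV hVU K

omit [Flat f] in
include H in
/-- Descent to the base of the condition on an affine chart. -/
theorem nilUICAt_of_uic {x : X₁} {U₀ : S.Opens} (hU₀ : IsAffineOpen U₀) {V₀ : X.Opens}
    (hV₀ : IsAffineOpen V₀) (e₀ : V₀ ≤ f ⁻¹ᵁ U₀) (hx₀ : b'.base x ∈ V₀)
    (h : letI := (f.appLE U₀ V₀ e₀).hom.toAlgebra; UIC Γ(S, U₀) Γ(X, V₀)) : NilUICAt g₁ x := by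
  have hw : b.base (g₁.base x) = f.base (b'.base x) := by
    rw [← Scheme.Hom.comp_apply, ← Scheme.Hom.comp_apply, H.w]
  obtain ⟨_, ⟨U, hU, rfl⟩, hxU, hUU₀⟩ :=
    S₁.isBasis_affineOpens.exists_subset_of_mem_open
      (show g₁.base x ∈ b ⁻¹ᵁ U₀ by show b.base (g₁.base x) ∈ U₀; rw [hw]; exact e₀ hx₀) (b ⁻¹ᵁ U₀).2
  let W := b' ⁻¹ᵁ V₀ ⊓ g₁ ⁻¹ᵁ U
  haveI := AlgebraicGeometry.isIso_pushoutSection_of_isAffineOpen H hUU₀ e₀ (rfl : W = _) hU₀ hU hV₀
  have hP := (AlgebraicGeometry.isIso_pushoutSection_iff H hUU₀ e₀ (rfl : W = _)).1 this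
  have hW : IsAffineOpen W := by
    haveI : IsAffine _ := hU₀
    haveI : IsAffine _ := hU
    haveI : IsAffine _ := hV₀
    exact .of_isIso (Scheme.Hom.isPullback_resLE H hUU₀ e₀ (rfl : W = _)).isoPullback.hom
  refine nilUICAt_of_affine g₁ hU hW inf_le_right (V := W) ⟨hx₀, hxU⟩ ?_
  letI : Algebra Γ(S, U₀) Γ(X, V₀) := (f.appLE U₀ V₀ e₀).hom.toAlgebra
  letI : Algebra Γ(S, U₀) Γ(S₁, U) := (b.appLE U₀ U hUU₀).hom.toAlgebra
  letI : Algebra Γ(S₁, U) Γ(X₁, W) := (g₁.appLE U W inf_le_right).hom.toAlgebra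
  letI : Algebra Γ(X, V₀) Γ(X₁, W) := (b'.appLE V₀ W inf_le_left).hom.toAlgebra
  letI : Algebra Γ(S, U₀) Γ(X₁, W) :=
    ((g₁.appLE U W inf_le_right).hom.comp (b.appLE U₀ U hUU₀).hom).toAlgebra
  haveI : IsScalarTower Γ(S, U₀) Γ(S₁, U) Γ(X₁, W) := IsScalarTower.of_algebraMap_eq fun _ => rfl
  haveI : IsScalarTower Γ(S, U₀) Γ(X, V₀) Γ(X₁, W) := IsScalarTower.of_algebraMap_eq' <|
    (congrArg CommRingCat.Hom.hom hP.w).symm
  haveI : Algebra.IsPushout Γ(S, U₀) Γ(X, V₀) Γ(S₁, U) Γ(X₁, W) :=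
    CommRingCat.isPushout_iff_isPushout.1 hP
  haveI : Algebra.IsPushout Γ(S, U₀) Γ(S₁, U) Γ(X, V₀) Γ(X₁, W) := Algebra.IsPushout.symm inferInstance
  exact UIC.baseChange h (Algebra.IsPushout.equiv Γ(S, U₀) Γ(S₁, U) Γ(X, V₀) Γ(X₁, W))

include H hred in
/-- The locally Noetherian case. -/
theorem nilUICAt_of_noetherian [IsLocallyNoetherian X] [IsLocallyNoetherian S] (x : X₁) :
    NilUICAt g₁ x := by
  obtain ⟨_, ⟨U, hU, rfl⟩, hxU, -⟩ :=
    S.isBasis_affineOpens.exists_subset_of_mem_open (Set.mem_univ (f.base (b'.base x))) isOpen_univ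
  obtain ⟨_, ⟨V, hV, rfl⟩, hxV, hVU⟩ :=
    X.isBasis_affineOpens.exists_subset_of_mem_open (show b'.base x ∈ f ⁻¹ᵁ U from hxU) (f ⁻¹ᵁ U).2
  refine nilUICAt_of_uic f g₁ b' b H hU hV hVU hxV ?_
  letI : Algebra Γ(S, U) Γ(X, V) := (f.appLE U V hVU).hom.toAlgebra
  haveI : Module.Flat Γ(S, U) Γ(X, V) := f.flat_appLE hU hV hVU
  haveI : IsNoetherianRing Γ(S, U) := IsLocallyNoetherian.component_noetherian ⟨U, hU⟩
  exact UIC.of_reduced fun K _ _ => isReduced_tensor_appLE f hred hU hV hVU K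

omit g₁ b' b H in
include hred in
/-- Flat morphisms with geometrically reduced fibres are universally locally zero acyclic. -/
theorem isULocZeroAcyclic_of_geomReduced
    (h : (IsLocallyNoetherian X ∧ IsLocallyNoetherian S) ∨ LocallyOfFinitePresentation f) :
    EtAcyc.IsULocZeroAcyclic f := by
  intro X₁ S₁ g₁ b' b H
  haveI : Flat g₁ := MorphismProperty.of_isPullback (P := @Flat) H inferInstance
  refine isLocZeroAcyclic_of_nilUIC g₁ fun x => ?_
  obtain ⟨_, _⟩ | _ := h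
  · exact nilUICAt_of_noetherian f g₁ b' b H hred x
  · exact nilUICAt_of_lfp f g₁ b' b H hred x

end Groth.ZeroAcyclic
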