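import Groth.Agent.ZeroAcyclic.HomeoLocal
import Groth.Agent.ZeroAcyclic.BaseChange
import Groth.Agent.ZeroAcyclic.GeomReduced
import Groth.Agent.HTopHyper.UnivHomeo
import Groth.Agent.GenGeomRed.Main
import Groth.Agent.Calg2.Uniform.FibresScheme

/-!
Generic base change in degree zero.
-/

set_option autoImplicit false
set_option backward.isDefEq.respectTransparency.types false
set_option linter.style.haveILetI false
set_option linter.unusedSectionVars false

universe u

open CategoryTheory CategoryTheory.Limits AlgebraicGeometry Opposite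

namespace Groth.ZeroAcyclic

open Groth.EtaleShriek.FlatConnBC
open Groth.DescentBase (shStalk isIso_of_acPoints acPoint)

/-- A universally locally zero acyclic model of `a` over a universal homeomorphism onto `V`. -/
def HasModel {X S V : Scheme.{u}} (a : X ⟶ S) (j : V ⟶ S) : Prop :=
  ∃ (Y' X' : Scheme.{u}) (π : Y' ⟶ V) (r : X' ⟶ pullback a (π ≫ j)),
    IsIntegralHom π ∧ UniversallyInjective π ∧ Surjective π ∧ IsClosedImmersion r ∧ Surjective r ∧
      EtAcyc.IsULocZeroAcyclic (r ≫ pullback.snd a (π ≫ j))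

/-- Closed surjective subschemes of a fibre product under base change. -/
theorem exists_baseChange {X S Y' X' Y'' : Scheme.{u}} (a : X ⟶ S) (k : Y' ⟶ S) (r : X' ⟶ pullback a k)
    [IsClosedImmersion r] [Surjective r] (w : Y'' ⟶ Y') :
    ∃ r' : pullback (r ≫ pullback.snd a k) w ⟶ pullback a (w ≫ k), IsClosedImmersion r' ∧ Surjective r' ∧
      r' ≫ pullback.fst a (w ≫ k) = pullback.fst _ w ≫ r ≫ pullback.fst a k ∧
      r' ≫ pullback.snd a (w ≫ k) = pullback.snd _ w := by
  let ρ : pullback a (w ≫ k) ⟶ pullback a k :=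
    pullback.lift (pullback.fst _ _) (pullback.snd _ _ ≫ w) (by rw [pullback.condition, Category.assoc])
  have hP : IsPullback ρ (pullback.snd a (w ≫ k)) (pullback.snd a k) w := by
    have s := IsPullback.of_hasPullback a (w ≫ k)
    rw [show pullback.fst a (w ≫ k) = ρ ≫ pullback.fst a k from (pullback.lift_fst _ _ _).symm] at s
    exact IsPullback.of_right s (pullback.lift_snd _ _ _) (IsPullback.of_hasPullback a k)
  let r' : pullback (r ≫ pullback.snd a k) w ⟶ pullback a (w ≫ k) :=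
    pullback.lift (pullback.fst _ w ≫ r ≫ pullback.fst a k) (pullback.snd _ w) (by
      rw [Category.assoc, Category.assoc, pullback.condition, ← Category.assoc r,
        pullback.condition_assoc])
  have h₁ : pullback.fst _ w ≫ r = r' ≫ ρ := by
    apply pullback.hom_ext
    · simp [r', ρ, pullback.lift_fst]
    · simp [r', ρ, pullback.lift_snd, pullback.lift_snd_assoc, pullback.condition]
  have hr : IsPullback (pullback.fst (r ≫ pullback.snd a k) w) r' r ρ := by
    have s := IsPullback.of_hasPullback (r ≫ pullback.snd a k) w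
    rw [show pullback.snd (r ≫ pullback.snd a k) w = r' ≫ pullback.snd a (w ≫ k) from
      (pullback.lift_snd _ _ _).symm] at s
    exact IsPullback.of_bot s h₁ hP
  exact ⟨r', MorphismProperty.of_isPullback hr ‹IsClosedImmersion r›,
    MorphismProperty.of_isPullback hr ‹Surjective r›, pullback.lift_fst _ _ _, pullback.lift_snd _ _ _⟩

theorem isULocZeroAcyclic_of_isPullback {X S X₁ S₁ : Scheme.{u}} {f : X ⟶ S} {b' : X₁ ⟶ X} {g₁ : X₁ ⟶ S₁}
    {b : S₁ ⟶ S} (H : IsPullback b' g₁ f b) (hf : EtAcyc.IsULocZeroAcyclic f) :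
    EtAcyc.IsULocZeroAcyclic g₁ :=
  fun _ _ g₂ c' c H₂ => hf g₂ (c' ≫ b') (c ≫ b) (H₂.paste_horiz H)

set_option maxHeartbeats 1000000 in
/-- Base change holds over a scheme mapping to a subscheme with a model. -/
theorem isIso_of_hasModel {X S V Y Z Y' Z' : Scheme.{u}} {a : X ⟶ S} (j : V ⟶ S) (hV : HasModel a j)
    {c : Z ⟶ S} (cV : Z ⟶ V) (hc : cV ≫ j = c) {g : Y ⟶ Z} [QuasiCompact g] [QuasiSeparated g]
    {p : Z' ⟶ Z} {q : Z' ⟶ X} (hpq : IsPullback p q c a) {p' : Y' ⟶ Y} {g' : Y' ⟶ Z'}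
    (hsq : IsPullback p' g' g p) (F : EtDesc.Sh Y) : IsIso (EtBC.baseChange0Sh g p g' p' hsq.w F) := by
  subst hc
  obtain ⟨Y₀, X₀, π, r, _, _, _, _, _, hf⟩ := hV
  let bZ : pullback cV π ⟶ Z := pullback.fst cV π
  let cY : pullback cV π ⟶ Y₀ := pullback.snd cV π
  haveI : IsIntegralHom bZ := MorphismProperty.pullback_fst (P := @IsIntegralHom) _ _ ‹_›
  haveI : UniversallyInjective bZ := MorphismProperty.pullback_fst (P := @UniversallyInjective) _ _ ‹_›
  haveI : Surjective bZ := MorphismProperty.pullback_fst (P := @Surjective) _ _ ‹_›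
  obtain ⟨r', _, _, hr₁, hr₂⟩ := exists_baseChange a (π ≫ j) r cY
  have hk : cY ≫ π ≫ j = bZ ≫ cV ≫ j := by
    rw [← Category.assoc, ← pullback.condition, Category.assoc]
  let p₂ := pullback.snd (r ≫ pullback.snd a (π ≫ j)) cY
  have hp₂ : EtAcyc.IsULocZeroAcyclic p₂ :=
    isULocZeroAcyclic_of_isPullback (IsPullback.of_hasPullback _ _) hf
  -- the comparison with the fibre product over `Z`
  let Q := pullback a (cY ≫ π ≫ j)
  let θ : Q ⟶ Z' := hpq.lift (pullback.snd a _ ≫ bZ) (pullback.fst a _) (by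
    rw [Category.assoc, ← hk, pullback.condition])
  have hθ : IsPullback θ (pullback.snd a (cY ≫ π ≫ j)) p bZ := by
    have hθq : θ ≫ q = pullback.fst a (cY ≫ π ≫ j) := hpq.lift_snd _ _ _
    have s : IsPullback (θ ≫ q) (pullback.snd a (cY ≫ π ≫ j)) a (bZ ≫ cV ≫ j) := by
      rw [hθq, ← hk]
      exact IsPullback.of_hasPullback _ _
    exact IsPullback.of_right s (hpq.lift_fst _ _ _) hpq.flip
  haveI : IsIntegralHom θ := MorphismProperty.of_isPullback (P := @IsIntegralHom) hθ.flip ‹_›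
  haveI : UniversallyInjective θ := MorphismProperty.of_isPullback (P := @UniversallyInjective) hθ.flip ‹_›
  haveI : Surjective θ := MorphismProperty.of_isPullback (P := @Surjective) hθ.flip ‹_›
  let ρ := r' ≫ θ
  haveI : UniversallyInjective r' := inferInstance
  haveI : IsIntegralHom ρ := inferInstanceAs (IsIntegralHom (r' ≫ θ))
  haveI : UniversallyInjective ρ :=
    MorphismProperty.comp_mem (W := @UniversallyInjective) r' θ ‹_› ‹_›
  haveI : Surjective ρ := inferInstanceAs (Surjective (r' ≫ θ))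
  have hρ : p₂ ≫ bZ = ρ ≫ p := by
    rw [Category.assoc, hθ.w, ← Category.assoc, hr₂]
  let πT := pullback.fst g bZ
  let g₂ := pullback.snd g bZ
  let e₂ := pullback.fst g₂ p₂
  let h₂ := pullback.snd g₂ p₂
  have c₂ : IsPullback e₂ h₂ g₂ p₂ := IsPullback.of_hasPullback _ _
  have cT : IsPullback πT g₂ g bZ := IsPullback.of_hasPullback _ _
  have hw : (e₂ ≫ πT) ≫ g = (h₂ ≫ ρ) ≫ p := by
    rw [Category.assoc, cT.w, ← Category.assoc, c₂.w, Category.assoc, Category.assoc, hρ]
  let y := hsq.lift (e₂ ≫ πT) (h₂ ≫ ρ) hw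
  have hy₁ : y ≫ p' = e₂ ≫ πT := hsq.lift_fst _ _ _
  have cy : IsPullback y h₂ g' ρ := by
    have s := c₂.paste_horiz cT
    rw [← hy₁, hρ] at s
    exact IsPullback.of_right s (hsq.lift_snd _ _ _) hsq
  haveI : QuasiCompact g₂ := MorphismProperty.pullback_snd (P := @QuasiCompact) _ _ ‹_›
  haveI : QuasiSeparated g₂ := MorphismProperty.pullback_snd (P := @QuasiSeparated) _ _ ‹_›
  haveI := isIso_baseChange0Sh (f := p₂) (g := g₂) (h := h₂) (e := e₂) c₂ ((EtDesc.pullSh πT).obj F) hp₂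
  refine isIso_of_acPoints _ fun z => ?_
  let η := acPoint z
  obtain ⟨z₂, hz₂⟩ := ρ.surjective (η default)
  obtain ⟨η₂, hη, -⟩ := Groth.EtaleBase.exists_lift_point ρ η z₂ hz₂
  have hb : Function.Bijective ((shStalk η₂).map
      (EtBC.baseChange0Sh g₂ p₂ h₂ e₂ c₂.w ((EtDesc.pullSh πT).obj F))) :=
    (isIso_iff_bijective _).1 inferInstance
  exact ⟨(injective_iff_inj hsq F η).2
      (inj_of_homeo hsq F c₂ cT cy hy₁ hρ η₂ hη ((injective_iff_inj c₂ _ η₂).1 hb.1)),
    (surjective_iff_surj hsq F η).2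
      (surj_of_homeo hsq F c₂ cT cy hy₁ hρ η₂ hη ((surjective_iff_surj c₂ _ η₂).1 hb.2))⟩

set_option maxHeartbeats 1000000 in
/-- Base change is local on the base. -/
theorem isIso_of_locally_hasModel {X S Y Z Y' Z' : Scheme.{u}} {a : X ⟶ S} {c : Z ⟶ S}
    (hloc : ∀ z : Z, ∃ (V : Scheme.{u}) (j : V ⟶ S), IsOpenImmersion j ∧ HasModel a j ∧ c z ∈ Set.range j)
    {g : Y ⟶ Z} [QuasiCompact g] [QuasiSeparated g] {p : Z' ⟶ Z} {q : Z' ⟶ X} (hpq : IsPullback p q c a)
    {p' : Y' ⟶ Y} {g' : Y' ⟶ Z'} (hsq : IsPullback p' g' g p) (F : EtDesc.Sh Y) :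
    IsIso (EtBC.baseChange0Sh g p g' p' hsq.w F) := by
  refine isIso_of_acPoints _ fun z => ?_
  let η := acPoint z
  obtain ⟨V, j, _, hV, hz⟩ := hloc (p (η default))
  let O : Z.Opens := c ⁻¹ᵁ j.opensRange
  let Vi : Z.Etale := Scheme.Etale.mk O.ι
  let Ui : Z'.Etale := Scheme.Etale.mk (p ⁻¹ᵁ O).ι
  let ai : Ui.left ⟶ Vi.left := p ∣_ O
  have hai : ai ≫ Vi.hom = Ui.hom ≫ p := morphismRestrict_ι p O
  let ti := pullback.fst g O.ι
  let gi : pullback g O.ι ⟶ Vi.left := pullback.snd g O.ι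
  have cT : IsPullback ti gi g Vi.hom := IsPullback.of_hasPullback g O.ι
  have cY : IsPullback (pullback.fst gi ai) (pullback.snd gi ai) gi ai := IsPullback.of_hasPullback _ _
  have hr : Set.range (O.ι ≫ c) ⊆ Set.range j := by
    rintro _ ⟨o, rfl⟩
    rw [Scheme.Hom.comp_apply]
    exact o.2
  have sq : IsPullback ai ((p ⁻¹ᵁ O).ι ≫ q) (O.ι ≫ c) a :=
    (isPullback_morphismRestrict p O).flip.flip.paste_vert hpq
  haveI : QuasiCompact gi := MorphismProperty.pullback_snd (P := @QuasiCompact) _ _ ‹_›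
  haveI : QuasiSeparated gi := MorphismProperty.pullback_snd (P := @QuasiSeparated) _ _ ‹_›
  have hiso := isIso_of_hasModel j hV (IsOpenImmersion.lift j (O.ι ≫ c) hr) (IsOpenImmersion.lift_fac _ _ hr)
    (g := gi) sq cY ((EtDesc.pullSh ti).obj F)
  obtain ⟨η', hη'⟩ : ∃ η' : Spec (CommRingCat.of _) ⟶ Ui.left, η' ≫ Ui.hom = η :=
    by
      let ιU : ((p ⁻¹ᵁ O : Z'.Opens) : Scheme.{u}) ⟶ Z' := Scheme.Opens.ι (X := Z') (p ⁻¹ᵁ O)
      haveI : IsOpenImmersion ιU := inferInstanceAs (IsOpenImmersion (Scheme.Opens.ι (X := Z') (p ⁻¹ᵁ O)))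
      have hr' : Set.range η ⊆ Set.range ιU := by
        rintro _ ⟨s, rfl⟩
        rw [Scheme.Opens.range_ι, Subsingleton.elim s default]
        exact hz
      let η₁ : _ ⟶ ((p ⁻¹ᵁ O : Z'.Opens) : Scheme.{u}) := IsOpenImmersion.lift ιU η hr'
      have hη₁ : η₁ ≫ ιU = η := IsOpenImmersion.lift_fac ιU η hr'
      exact ⟨η₁, hη₁⟩
  exact bijective_stalk_of_local hsq F hai cT cY η' hη' hiso

set_option maxHeartbeats 1000000 in
/-- Models exist generically. -/
theorem exists_hasModel {X S : Scheme.{u}} (a : X ⟶ S) [IrreducibleSpace S] [LocallyOfFiniteType a]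
    [QuasiCompact a] :
    ∃ (V : Scheme.{u}) (j : V ⟶ S), IsOpenImmersion j ∧ Nonempty V ∧ HasModel a j := by
  obtain ⟨V, Y', π, X', r, _, hne, _, hfin, hπ, _, _, _, hflat, hfp, hqc, hqs, hgr⟩ :=
    Groth.GenGeomRed.exists_generic_geometricallyReduced a
  let f' := r ≫ pullback.snd a (π ≫ V.ι)
  haveI : LocallyOfFinitePresentation f' := hfp
  haveI : QuasiCompact f' := hqc
  haveI : Flat f' := hflat
  obtain ⟨W, hW, hWr⟩ := Groth.Calg2.Uniform.exists_open_geometricallyReduced f' hgr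
  obtain ⟨hπi, hπu, hπs⟩ := Groth.HTopHyper.isUnivHomeo_iff.1 hπ
  let O : (V : Scheme.{u}).Opens := ⟨π '' (W : Set Y'), by
    refine isClosed_compl_iff.1 ?_
    rw [← Set.image_compl_eq ⟨π.injective, π.surjective⟩]
    exact π.isClosedMap _ W.2.isClosed_compl⟩
  have hOW : π ⁻¹ᵁ O = W := SetLike.ext' (Set.preimage_image_eq _ π.injective)
  let π₂ := π ∣_ O
  obtain ⟨w₀, hw₀⟩ := hW
  refine ⟨O, O.ι ≫ V.ι, inferInstance, ⟨⟨π w₀, w₀, hw₀, rfl⟩⟩, ?_⟩
  obtain ⟨r', _, _, hr₁, hr₂⟩ := exists_baseChange a (π ≫ V.ι) r (π ⁻¹ᵁ O).ι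
  have hk : (π ⁻¹ᵁ O).ι ≫ π ≫ V.ι = π₂ ≫ O.ι ≫ V.ι := by
    rw [← Category.assoc, ← morphismRestrict_ι, Category.assoc]
  let p₂ := pullback.snd f' (π ⁻¹ᵁ O).ι
  haveI : Flat p₂ := MorphismProperty.pullback_snd (P := @Flat) _ _ ‹_›
  haveI : LocallyOfFinitePresentation p₂ :=
    MorphismProperty.pullback_snd (P := @LocallyOfFinitePresentation) _ _ ‹_›
  haveI hgred : GeometricallyReduced p₂ := by
    rw [← hOW] at hWr
    have H := (isPullback_morphismRestrict f' (π ⁻¹ᵁ O)).flip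
    show @GeometricallyReduced _ _ p₂
    rw [show p₂ = H.isoPullback.inv ≫ (f' ∣_ (π ⁻¹ᵁ O)) from (H.isoPullback_inv_snd).symm]
    exact (MorphismProperty.cancel_left_of_respectsIso @GeometricallyReduced _ _).2 hWr
  have hred : ∀ (K : Type u) [Field K] (k : Spec (CommRingCat.of K) ⟶ (π ⁻¹ᵁ O : Y'.Opens)),
      IsReduced (pullback p₂ k) :=
    fun _ _ k => hgred.geometrically_isReduced k _ _ (IsPullback.of_hasPullback p₂ k)
  have hp₂ := isULocZeroAcyclic_of_geomReduced p₂ hred (Or.inr inferInstance)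
  let e := pullback.congrHom (rfl : a = a) hk
  refine ⟨_, _, π₂, r' ≫ e.hom, MorphismProperty.of_isPullback (P := @IsIntegralHom)
      (isPullback_morphismRestrict π O).flip ‹_›,
    MorphismProperty.of_isPullback (P := @UniversallyInjective) (isPullback_morphismRestrict π O).flip ‹_›,
    MorphismProperty.of_isPullback (P := @Surjective) (isPullback_morphismRestrict π O).flip ‹_›,
    inferInstance, inferInstance, ?_⟩
  have : (r' ≫ e.hom) ≫ pullback.snd a (π₂ ≫ O.ι ≫ V.ι) = p₂ := by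
    rw [Category.assoc, pullback.congrHom_hom, pullback.lift_snd, Category.comp_id]
    exact hr₂
  rw [this]
  exact hp₂

/-- Models compose with base changes along monomorphisms. -/
theorem hasModel_of_snd {X S O V : Scheme.{u}} (a : X ⟶ S) (i : O ⟶ S) (j : V ⟶ O)
    (h : HasModel (pullback.snd a i) j) : HasModel a (j ≫ i) := by
  obtain ⟨Y', X', π, r, h₁, h₂, h₃, h₄, h₅, h₆⟩ := h
  let e := pullbackLeftPullbackSndIso a i (π ≫ j) ≪≫ pullback.congrHom rfl (Category.assoc π j i)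
  refine ⟨Y', X', π, r ≫ e.hom, h₁, h₂, h₃, inferInstance, inferInstance, ?_⟩
  have : e.hom ≫ pullback.snd a (π ≫ j ≫ i) = pullback.snd (pullback.snd a i) (π ≫ j) := by
    simp [e, pullback.map, pullback.lift_snd]
  rw [Category.assoc, this]
  exact h₆

/-- Models exist on a dense open subscheme of a Noetherian base. -/
theorem exists_dense_open_hasModel {X S : Scheme.{u}} (a : X ⟶ S) [IsNoetherian S]
    [LocallyOfFiniteType a] [QuasiCompact a] :
    ∃ U : S.Opens, Dense (U : Set S) ∧ ∀ s ∈ U, ∃ (V : Scheme.{u}) (j : V ⟶ S),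
      IsOpenImmersion j ∧ HasModel a j ∧ s ∈ Set.range j := by
  classical
  let U : S.Opens := ⨆ (V : Scheme.{u}) (j : V ⟶ S) (_ : IsOpenImmersion j) (_ : HasModel a j),
    j.opensRange
  refine ⟨U, ?_, fun s hs => ?_⟩
  · rw [dense_iff_inter_open]
    rintro G hG ⟨x, hx⟩
    have hfin := TopologicalSpace.NoetherianSpace.finite_irreducibleComponents (α := S)
    let C := irreducibleComponent x
    have hC : C ∈ irreducibleComponents S := irreducibleComponent_mem_irreducibleComponents x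
    let others := irreducibleComponents S \ {C}
    let O : S.Opens := ⟨(⋃₀ others)ᶜ, isOpen_compl_iff.2 (by
      rw [Set.sUnion_eq_biUnion]
      exact (hfin.subset Set.sdiff_subset).isClosed_biUnion
        fun D hD => isClosed_of_mem_irreducibleComponents D hD.1)⟩
    have hOC : (O : Set S) ⊆ C := fun y hy => by
      by_contra hyC
      exact hy ⟨irreducibleComponent y, ⟨irreducibleComponent_mem_irreducibleComponents y,
        fun e => hyC (e ▸ mem_irreducibleComponent)⟩, mem_irreducibleComponent⟩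
    have hOne : (O : Set S).Nonempty := by
      by_contra hne
      have hsub : C ⊆ ⋃₀ others := fun y _ => by
        by_contra hy
        exact hne ⟨y, hy⟩
      obtain ⟨D, hD, hCD⟩ := isIrreducible_iff_sUnion_isClosed.1 hC.1 (hfin.subset Set.sdiff_subset).toFinset
        (fun D hD => isClosed_of_mem_irreducibleComponents D ((Set.Finite.mem_toFinset _).1 hD).1)
        (by rwa [Set.Finite.coe_toFinset])
      exact ((Set.Finite.mem_toFinset _).1 hD).2
        (Set.Subset.antisymm (hC.2 ((Set.Finite.mem_toFinset _).1 hD).1.1 hCD) hCD)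
    haveI : IrreducibleSpace (O : Scheme.{u}) :=
      Subtype.irreducibleSpace ⟨hOne, hC.1.2.open_subset O.2 hOC⟩
    obtain ⟨V, j, _, ⟨v⟩, hV⟩ := exists_hasModel (pullback.snd a O.ι)
    have hj : Set.range (j ≫ O.ι) ⊆ U := by
      intro y hy
      simp only [U, SetLike.mem_coe, TopologicalSpace.Opens.mem_iSup]
      exact ⟨V, j ≫ O.ι, inferInstance, hasModel_of_snd a O.ι j hV, hy⟩
    obtain ⟨y, -, hyG, hyj⟩ := hC.1.2 G (Set.range (j ≫ O.ι)) hG (j ≫ O.ι).opensRange.2
      ⟨x, mem_irreducibleComponent, hx⟩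
      ⟨(j ≫ O.ι) v, hOC (by
        rw [Scheme.Hom.comp_apply]
        exact (j v).2), v, rfl⟩
    exact ⟨y, hyG, hj hyj⟩
  · simp only [U, TopologicalSpace.Opens.mem_iSup] at hs
    obtain ⟨V, j, hj, hV, hy⟩ := hs
    exact ⟨V, j, hj, hV, hy⟩

end Groth.ZeroAcyclic
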