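import Groth.Agent.ZeroAcyclic.GenericBC

/-!
Milnor fibres over a dense open of the base are connected.
-/

set_option autoImplicit false
set_option backward.isDefEq.respectTransparency.types false
set_option linter.style.haveILetI false
set_option linter.unusedSectionVars false

universe u

open CategoryTheory CategoryTheory.Limits AlgebraicGeometry Opposite IsLocalRing

namespace Groth.ZeroAcyclic

/-- Connectedness of geometric fibres descends along universal homeomorphisms. -/
theorem geometricallyConnected_of_homeo {P' P Q B : Scheme.{u}} (p : P' ⟶ P) (q : P' ⟶ Q) (s : P ⟶ B)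
    (m : Q ⟶ B) [IsIntegralHom s] [UniversallyInjective s] [Surjective s] [Surjective q]
    [GeometricallyConnected p] (hw : q ≫ m = p ≫ s) : GeometricallyConnected m := by
  refine ⟨geometrically_iff_of_isClosedUnderIsomorphisms.mpr fun K _ η => ?_⟩
  let Kb := AlgebraicClosure K
  let κ : Spec (CommRingCat.of Kb) ⟶ Spec (CommRingCat.of K) := Spec.map (CommRingCat.ofHom (algebraMap K Kb))
  haveI : Surjective κ := ⟨fun z => ⟨default, Subsingleton.elim _ _⟩⟩
  let η' := κ ≫ η
  obtain ⟨z, hz⟩ := s.surjective (η' default)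
  obtain ⟨ξ, hξ, -⟩ := Groth.EtaleBase.exists_lift_point s η' z hz
  let θ : P' ⟶ pullback m s := pullback.lift q p hw
  haveI : UniversallyInjective (pullback.fst m s) :=
    MorphismProperty.pullback_fst (P := @UniversallyInjective) _ _ ‹_›
  haveI : Surjective θ := ⟨fun w => by
    obtain ⟨z', hz'⟩ := q.surjective (pullback.fst m s w)
    refine ⟨z', (pullback.fst m s).injective ?_⟩
    rw [← Scheme.Hom.comp_apply, pullback.lift_fst]
    exact hz'⟩
  let bb : pullback m η' ⟶ pullback m s :=
    pullback.lift (pullback.fst m η') (pullback.snd m η' ≫ ξ) (by rw [pullback.condition, Category.assoc, hξ])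
  have hbb : IsPullback bb (pullback.snd m η') (pullback.snd m s) ξ := by
    have h1 : IsPullback (bb ≫ pullback.fst m s) (pullback.snd m η') m (ξ ≫ s) := by
      rw [pullback.lift_fst, hξ]
      exact IsPullback.of_hasPullback m η'
    exact IsPullback.of_right h1 (pullback.lift_snd _ _ _) (IsPullback.of_hasPullback m s)
  let aa : pullback p ξ ⟶ pullback m η' :=
    hbb.lift (pullback.fst p ξ ≫ θ) (pullback.snd p ξ) (by
      rw [Category.assoc, pullback.lift_snd, pullback.condition])
  have haa : IsPullback (pullback.fst p ξ) aa θ bb := by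
    refine IsPullback.of_bot ?_ (hbb.lift_fst _ _ _).symm hbb
    rw [hbb.lift_snd, pullback.lift_snd]
    exact IsPullback.of_hasPullback p ξ
  let cc : pullback m η' ⟶ pullback m η :=
    pullback.lift (pullback.fst m η') (pullback.snd m η' ≫ κ) (by rw [pullback.condition, Category.assoc])
  have hcc : IsPullback cc (pullback.snd m η') (pullback.snd m η) κ := by
    have h1 : IsPullback (cc ≫ pullback.fst m η) (pullback.snd m η') m (κ ≫ η) := by
      rw [pullback.lift_fst]
      exact IsPullback.of_hasPullback m η'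
    exact IsPullback.of_right h1 (pullback.lift_snd _ _ _) (IsPullback.of_hasPullback m η)
  haveI : Surjective aa := MorphismProperty.of_isPullback (P := @Surjective) haa ‹_›
  haveI : Surjective cc := MorphismProperty.of_isPullback (P := @Surjective) hcc.flip ‹_›
  haveI : ConnectedSpace ↥(pullback p ξ) :=
    GeometricallyConnected.geometrically_connectedSpace ξ _ _ (IsPullback.of_hasPullback p ξ)
  exact (aa ≫ cc).surjective.connectedSpace (aa ≫ cc).continuous

/-- A scheme universally homeomorphic to a strictly henselian local scheme is one. -/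
theorem exists_spec_of_homeo (R : Type u) [CommRing R] [HenselianLocalRing R] [IsSepClosed (ResidueField R)]
    {P : Scheme.{u}} (s : P ⟶ Spec (CommRingCat.of R)) [IsIntegralHom s] [UniversallyInjective s]
    [Surjective s] :
    ∃ (A : Type u) (_ : CommRing A) (_ : HenselianLocalRing A) (e : Spec (CommRingCat.of A) ≅ P),
      IsSepClosed (ResidueField A) ∧ s (e.hom (closedPoint A)) = closedPoint R := by
  haveI : IsAffine P := isAffine_of_isAffineHom s
  let A : Type u := Γ(P, ⊤)
  let e : Spec (CommRingCat.of A) ≅ P := P.isoSpec.symm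
  obtain ⟨φ, hφ⟩ := Spec.map_surjective (e.hom ≫ s)
  letI : Algebra R A := φ.hom.toAlgebra
  haveI : IsIntegralHom (Spec.map φ) := hφ ▸ inferInstance
  haveI : Algebra.IsIntegral R A :=
    algebraMap_isIntegral_iff.1 (IsIntegralHom.SpecMap_iff.1 ‹IsIntegralHom (Spec.map φ)›)
  haveI : Surjective (e.hom ≫ s) := inferInstance
  haveI : Nontrivial A := by
    obtain ⟨z, -⟩ := (e.hom ≫ s).surjective (closedPoint R)
    exact PrimeSpectrum.nonempty_iff_nontrivial.1 ⟨z⟩
  have hmax : ∀ m : Ideal A, ∀ hm : m.IsMaximal, s (e.hom ⟨m, hm.isPrime⟩) = closedPoint R := by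
    intro m hm
    rw [← Scheme.Hom.comp_apply, ← hφ]
    apply PrimeSpectrum.ext
    haveI := hm
    exact IsLocalRing.eq_maximalIdeal (Ideal.isMaximal_comap_of_isIntegral_of_isMaximal (R := R) m)
  obtain ⟨m₀, hm₀⟩ := Ideal.exists_maximal A
  haveI : IsLocalRing A := IsLocalRing.of_unique_max_ideal ⟨m₀, hm₀, fun m hm => by
    have h := e.hom.injective (s.injective ((hmax m hm).trans (hmax m₀ hm₀).symm))
    exact congrArg PrimeSpectrum.asIdeal h⟩
  haveI : IsLocalHom (algebraMap R A) := Groth.Hensel1.isLocalHom_of_isIntegral' R A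
  haveI := Groth.Hensel1.isAlgebraic_residueField R A
  have hsep := Groth.Hensel1.isSepClosed_of_isAlgebraic (ResidueField R) (ResidueField A)
  exact ⟨A, inferInstance, Groth.EtaleAlgebra.henselianLocalRing_of_isIntegral R A, e, hsep,
    hmax (maximalIdeal A) (maximalIdeal.isMaximal A)⟩

set_option maxHeartbeats 1000000 in
/-- Strict localisations of morphisms with models have geometrically connected fibres. -/
theorem geometricallyConnected_of_model {X S X₂ S₂ : Scheme.{u}} {f : X ⟶ S} {p₂ : X₂ ⟶ S₂} {π : S₂ ⟶ S}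
    {ρ : X₂ ⟶ X} [IsIntegralHom π] [UniversallyInjective π] [Surjective π] [IsIntegralHom ρ]
    [UniversallyInjective ρ] [Surjective ρ] (hρ : p₂ ≫ π = ρ ≫ f) (hp : EtAcyc.IsULocZeroAcyclic p₂)
    (RS RX : Type u) [CommRing RS] [CommRing RX] [HenselianLocalRing RS] [HenselianLocalRing RX]
    [IsSepClosed (ResidueField RS)] [IsSepClosed (ResidueField RX)]
    (σS : Spec (CommRingCat.of RS) ⟶ S) [WeaklyEtale σS] (σX : Spec (CommRingCat.of RX) ⟶ X) [WeaklyEtale σX]
    (ψ : RS →+* RX) [IsLocalHom ψ] (hν : Spec.map (CommRingCat.ofHom ψ) ≫ σS = σX ≫ f) :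
    GeometricallyConnected (Spec.map (CommRingCat.ofHom ψ)) := by
  let m := Spec.map (CommRingCat.ofHom ψ)
  let s := pullback.fst σS π
  let q := pullback.fst σX ρ
  haveI : IsIntegralHom s := MorphismProperty.pullback_fst (P := @IsIntegralHom) _ _ ‹_›
  haveI : UniversallyInjective s := MorphismProperty.pullback_fst (P := @UniversallyInjective) _ _ ‹_›
  haveI : Surjective s := MorphismProperty.pullback_fst (P := @Surjective) _ _ ‹_›
  haveI : IsIntegralHom q := MorphismProperty.pullback_fst (P := @IsIntegralHom) _ _ ‹_›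
  haveI : UniversallyInjective q := MorphismProperty.pullback_fst (P := @UniversallyInjective) _ _ ‹_›
  haveI : Surjective q := MorphismProperty.pullback_fst (P := @Surjective) _ _ ‹_›
  let p : pullback σX ρ ⟶ pullback σS π := pullback.lift (q ≫ m) (pullback.snd σX ρ ≫ p₂) (by
    rw [Category.assoc, hν, Category.assoc, hρ, pullback.condition_assoc])
  have hw : q ≫ m = p ≫ s := (pullback.lift_fst _ _ _).symm
  obtain ⟨A, _, _, eS, hA, hsA⟩ := exists_spec_of_homeo RS s
  obtain ⟨B, _, _, eX, hB, hqB⟩ := exists_spec_of_homeo RX q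
  obtain ⟨φ, hφ⟩ := Spec.map_surjective (eX.hom ≫ p ≫ eS.inv)
  haveI hloc : IsLocalHom φ.hom := by
    refine ((IsLocalRing.local_hom_TFAE φ.hom).out 0 4).mpr ?_
    have h1 : (Spec.map φ) (closedPoint B) = closedPoint A := by
      refine eS.hom.injective (s.injective ?_)
      rw [hsA, ← Scheme.Hom.comp_apply, ← Scheme.Hom.comp_apply, hφ]
      simp only [Category.assoc, Iso.inv_hom_id_assoc]
      rw [← hw, Scheme.Hom.comp_apply, Scheme.Hom.comp_apply, hqB]
      exact comap_closedPoint ψ
    exact congrArg PrimeSpectrum.asIdeal h1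
  let σA := eS.hom ≫ pullback.snd σS π
  haveI : WeaklyEtale (pullback.snd σS π) := MorphismProperty.pullback_snd (P := @WeaklyEtale) _ _ ‹_›
  haveI : WeaklyEtale (pullback.snd σX ρ) := MorphismProperty.pullback_snd (P := @WeaklyEtale) _ _ ‹_›
  haveI : WeaklyEtale σA :=
    (MorphismProperty.cancel_left_of_respectsIso @WeaklyEtale eS.hom (pullback.snd σS π)).2 ‹_›
  let k : Spec (CommRingCat.of B) ⟶ pullback p₂ σA :=
    pullback.lift (eX.hom ≫ pullback.snd σX ρ) (Spec.map φ) (by
      rw [hφ]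
      simp [σA, p, pullback.lift_snd])
  haveI : WeaklyEtale (k ≫ pullback.fst p₂ σA) := by
    rw [pullback.lift_fst]
    exact (MorphismProperty.cancel_left_of_respectsIso @WeaklyEtale eX.hom (pullback.snd σX ρ)).2 ‹_›
  haveI : WeaklyEtale (pullback.fst p₂ σA) := MorphismProperty.pullback_fst (P := @WeaklyEtale) _ _ ‹_›
  haveI : WeaklyEtale k := WeaklyEtale.of_comp k (pullback.fst p₂ σA)
  haveI : GeometricallyConnected p := by
    letI : Algebra A B := φ.hom.toAlgebra
    haveI : IsLocalHom (algebraMap A B) := hloc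
    haveI h1 : GeometricallyConnected (Spec.map φ) :=
      geometricallyConnected_spec p₂ hp A B σA k (pullback.lift_snd _ _ _)
    rw [show p = eX.inv ≫ Spec.map φ ≫ eS.hom by simp [hφ]]
    exact (MorphismProperty.cancel_left_of_respectsIso @GeometricallyConnected _ _).2
      ((MorphismProperty.cancel_right_of_respectsIso @GeometricallyConnected _ _).2 h1)
  exact geometricallyConnected_of_homeo p q s m hw

/-- The base change of a model. -/
theorem exists_model_of_hasModel {X S V Z Z' : Scheme.{u}} {a : X ⟶ S} (j : V ⟶ S) (hV : HasModel a j)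
    {c : Z ⟶ S} (cV : Z ⟶ V) (hc : cV ≫ j = c) {p : Z' ⟶ Z} {q : Z' ⟶ X} (hpq : IsPullback p q c a) :
    ∃ (Z₂ X₂ : Scheme.{u}) (bZ : Z₂ ⟶ Z) (ρ : X₂ ⟶ Z') (p₂ : X₂ ⟶ Z₂),
      IsIntegralHom bZ ∧ UniversallyInjective bZ ∧ Surjective bZ ∧ IsIntegralHom ρ ∧ UniversallyInjective ρ ∧
      Surjective ρ ∧ p₂ ≫ bZ = ρ ≫ p ∧ EtAcyc.IsULocZeroAcyclic p₂ := by
  subst hc
  obtain ⟨Y₀, X₀, π, r, _, _, _, _, _, hf⟩ := hV
  let bZ : pullback cV π ⟶ Z := pullback.fst cV π
  let cY : pullback cV π ⟶ Y₀ := pullback.snd cV π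
  haveI : IsIntegralHom bZ := MorphismProperty.pullback_fst (P := @IsIntegralHom) _ _ ‹_›
  haveI : UniversallyInjective bZ := MorphismProperty.pullback_fst (P := @UniversallyInjective) _ _ ‹_›
  haveI : Surjective bZ := MorphismProperty.pullback_fst (P := @Surjective) _ _ ‹_›
  obtain ⟨r', _, _, hr₁, hr₂⟩ := exists_baseChange a (π ≫ j) r cY
  have hk : cY ≫ π ≫ j = bZ ≫ cV ≫ j := by
    rw [← Category.assoc, ← pullback.condition, Category.assoc]
  let θ : pullback a (cY ≫ π ≫ j) ⟶ Z' := hpq.lift (pullback.snd a _ ≫ bZ) (pullback.fst a _) (by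
    rw [Category.assoc, ← hk, pullback.condition])
  have hθ : IsPullback θ (pullback.snd a (cY ≫ π ≫ j)) p bZ := by
    have hθq : θ ≫ q = pullback.fst a (cY ≫ π ≫ j) := hpq.lift_snd _ _ _
    have s : IsPullback (θ ≫ q) (pullback.snd a (cY ≫ π ≫ j)) a (bZ ≫ cV ≫ j) := by
      rw [hθq, ← hk]
      exact IsPullback.of_hasPullback _ _
    exact IsPullback.of_right s (hpq.lift_fst _ _ _) hpq.flip
  haveI : IsIntegralHom θ := MorphismProperty.of_isPullback (P := @IsIntegralHom) hθ.flip ‹_›
  haveI : UniversallyInjective θ := MorphismProperty.of_isPullback (P := @UniversallyInjective) hθ.flip ‹_›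
  haveI : Surjective θ := MorphismProperty.of_isPullback (P := @Surjective) hθ.flip ‹_›
  haveI : UniversallyInjective r' := inferInstance
  refine ⟨_, _, bZ, r' ≫ θ, pullback.snd (r ≫ pullback.snd a (π ≫ j)) cY, inferInstance, inferInstance,
    inferInstance, inferInstance, MorphismProperty.comp_mem (W := @UniversallyInjective) r' θ ‹_› ‹_›,
    inferInstance, ?_, isULocZeroAcyclic_of_isPullback (IsPullback.of_hasPullback _ _) hf⟩
  rw [Category.assoc, hθ.w, ← Category.assoc, hr₂]

/-- A morphism from a local scheme lands in every open around the image of the closed point. -/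
theorem range_subset_of_closedPoint_mem {A : Type u} [CommRing A] [IsLocalRing A] {T : Scheme.{u}}
    (σ : Spec (CommRingCat.of A) ⟶ T) (O : T.Opens) (h : σ (closedPoint A) ∈ O) : Set.range σ ⊆ O := by
  rintro _ ⟨z, rfl⟩
  have htop := (IsLocalRing.closedPoint_mem_iff (σ ⁻¹ᵁ O)).1 h
  exact (htop ▸ TopologicalSpace.Opens.mem_top z : z ∈ σ ⁻¹ᵁ O)

set_option maxHeartbeats 1000000 in
/-- Geometrically connected strict localisations over a dense open. -/
theorem exists_dense_open_geometricallyConnected {X S : Scheme.{u}} (a : X ⟶ S) [IsNoetherian S]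
    [LocallyOfFiniteType a] [QuasiCompact a] :
    ∃ U : S.Opens, Dense (U : Set S) ∧
      ∀ ⦃X' S' : Scheme.{u}⦄ (b : S' ⟶ S), Set.range b.base ⊆ (U : Set S) →
        ∀ (f' : X' ⟶ S') (b' : X' ⟶ X), IsPullback b' f' a b →
          EtAcyc.OnStrictLocalizations f' (fun _ _ h => GeometricallyConnected h) := by
  obtain ⟨U, hU, hloc⟩ := exists_dense_open_hasModel a
  refine ⟨U, hU, fun X' S' b hb f' b' hsq => ?_⟩
  intro x RS RX _ _ _ _ _ _ hRS _ _ hRX _ hψloc hψ
  haveI := hRS.henselian
  haveI := hRX.henselian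
  haveI : IsSepClosed (ResidueField RS) :=
    haveI := hRS.isSepClosure
    IsSepClosure.sep_closed (ResidueField (S'.presheaf.stalk (f'.base x)))
  haveI : IsSepClosed (ResidueField RX) :=
    haveI := hRX.isSepClosure
    IsSepClosure.sep_closed (ResidueField (X'.presheaf.stalk x))
  obtain ⟨V, j, _, hV, hs⟩ := hloc (b (f' x)) (hb ⟨_, rfl⟩)
  let O : S'.Opens := b ⁻¹ᵁ j.opensRange
  let σS := Hens2.specOf S' (f'.base x) RS
  let σX := Hens2.specOf X' x RX
  haveI : WeaklyEtale σS := Groth.Agent.S0754.result S' (f'.base x) RS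
  haveI : WeaklyEtale σX := Groth.Agent.S0754.result X' x RX
  have hν := Groth.EtaleBase.EtLimit.specOf_compat f' x RS RX (algebraMap RS RX) hψ
  have hσS : σS (closedPoint RS) = f' x :=
    (congrArg (S'.fromSpecStalk (f'.base x))
      (IsLocalRing.comap_closedPoint (algebraMap (S'.presheaf.stalk (f'.base x)) RS))).trans
      Scheme.fromSpecStalk_closedPoint
  have hσX : σX (closedPoint RX) = x :=
    (congrArg (X'.fromSpecStalk x) (IsLocalRing.comap_closedPoint (algebraMap (X'.presheaf.stalk x) RX))).trans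
      Scheme.fromSpecStalk_closedPoint
  have hrS : Set.range σS ⊆ Set.range O.ι := by
    rw [Scheme.Opens.range_ι]
    refine range_subset_of_closedPoint_mem σS O ?_
    rw [hσS]
    exact hs
  have hrX : Set.range σX ⊆ Set.range (f' ⁻¹ᵁ O).ι := by
    rw [Scheme.Opens.range_ι]
    refine range_subset_of_closedPoint_mem σX (f' ⁻¹ᵁ O) ?_
    rw [hσX]
    exact hs
  let σS' := IsOpenImmersion.lift O.ι σS hrS
  let σX' := IsOpenImmersion.lift (f' ⁻¹ᵁ O).ι σX hrX
  have eS : σS' ≫ O.ι = σS := IsOpenImmersion.lift_fac _ _ _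
  have eX : σX' ≫ (f' ⁻¹ᵁ O).ι = σX := IsOpenImmersion.lift_fac _ _ _
  haveI : WeaklyEtale (σS' ≫ O.ι) := by rw [eS]; infer_instance
  haveI : WeaklyEtale (σX' ≫ (f' ⁻¹ᵁ O).ι) := by rw [eX]; infer_instance
  haveI : WeaklyEtale σS' := WeaklyEtale.of_comp σS' O.ι
  haveI : WeaklyEtale σX' := WeaklyEtale.of_comp σX' (f' ⁻¹ᵁ O).ι
  have hν' : Spec.map (CommRingCat.ofHom (algebraMap RS RX)) ≫ σS' = σX' ≫ (f' ∣_ O) := by
    rw [← cancel_mono O.ι, Category.assoc, Category.assoc, eS, morphismRestrict_ι, reassoc_of% eX]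
    exact hν
  have hr : Set.range (O.ι ≫ b) ⊆ Set.range j := by
    rintro _ ⟨o, rfl⟩
    rw [Scheme.Hom.comp_apply]
    exact o.2
  have sq : IsPullback (f' ∣_ O) ((f' ⁻¹ᵁ O).ι ≫ b') (O.ι ≫ b) a :=
    (isPullback_morphismRestrict f' O).paste_vert hsq.flip
  obtain ⟨Z₂, X₂, bZ, ρ, p₂, _, _, _, _, _, _, hρ, hp₂⟩ := exists_model_of_hasModel j hV
    (IsOpenImmersion.lift j (O.ι ≫ b) hr) (IsOpenImmersion.lift_fac _ _ hr) sq
  haveI := hψloc
  exact geometricallyConnected_of_model hρ hp₂ RS RX σS' σX' (algebraMap RS RX) hν'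

/-- Milnor fibres over a dense open are nonempty and connected. -/
theorem exists_dense_open_geomFibresAcyclic {X S : Scheme.{u}} (a : X ⟶ S) [IsNoetherian S]
    [LocallyOfFiniteType a] [QuasiCompact a] :
    ∃ U : S.Opens, Dense (U : Set S) ∧
      ∀ ⦃X' S' : Scheme.{u}⦄ (b : S' ⟶ S), Set.range b.base ⊆ (U : Set S) →
        ∀ (f' : X' ⟶ S') (b' : X' ⟶ X), IsPullback b' f' a b →
          EtAcyc.OnStrictLocalizations f' (fun _ _ h => EtAcyc.GeomFibresAcyclicN Set.univ 0 h) := by
  obtain ⟨U, hU, h⟩ := exists_dense_open_geometricallyConnected a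
  refine ⟨U, hU, fun X' S' b hb f' b' hsq => ?_⟩
  intro x RS RX _ _ _ _ _ _ _ _ _ _ _ _ hψ y Ω _ _ _ _
  haveI := h b hb f' b' hsq x RS RX hψ
  have hc := GeometricallyConnected.geometrically_connectedSpace
    (f := Spec.map (CommRingCat.ofHom (algebraMap RS RX))) (EtAcyc.geomPt _ y Ω) _ _
    (IsPullback.of_hasPullback _ _)
  exact ⟨hc.toNonempty, hc, fun _ _ _ q hq hq' => absurd hq' (by omega)⟩

end Groth.ZeroAcyclic
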