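import Groth.Agent.EtaleBase.BCZero.Connected

/-!
Fibres of maps of strict henselisations are geometrically connected as soon as integrally closed
extensions stay integrally closed, up to nilpotents, after etale base change (after
`Groth.Agent.EtaleBase.BCZero.Connected`).
-/

set_option autoImplicit false
set_option linter.style.haveILetI false

universe u

open TensorProduct IsLocalRing Polynomial

namespace Groth.ZeroAcyclic

open Groth.EtaleBase.BCZero (UIC flat_of_weaklyEtale exists_denominator)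

/-- Étale algebras over `B` keep extensions which are integrally closed in a field integrally closed,
up to nilpotents. -/
def NilUIC (A B : Type u) [CommRing A] [CommRing B] [Algebra A B] : Prop :=
  ∀ (C L : Type u) [CommRing C] [Field L] [IsAlgClosed L] [Algebra A C] [Algebra A L] (i : C →ₐ[A] L),
    Function.Injective i → (∀ l : L, i.toRingHom.IsIntegralElem l → ∃ c, i c = l) →
    ∀ (E : Type u) [CommRing E] [Algebra B E] [Algebra A E] [IsScalarTower A B E] [Algebra.Etale B E]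
      (z : E ⊗[A] L), (Algebra.TensorProduct.map (AlgHom.id E E) i).toRingHom.IsIntegralElem z →
      ∃ w, IsNilpotent (Algebra.TensorProduct.map (AlgHom.id E E) i w - z)

theorem NilUIC.of_uic {A B : Type u} [CommRing A] [CommRing B] [Algebra A B] (h : UIC A B) :
    NilUIC A B := fun C L _ _ _ _ _ i _ hi E _ _ _ _ _ z hz => by
  obtain ⟨w, hw⟩ := (h.trans (UIC.of_smooth (A := B) (B := E))) C L i hi z hz
  exact ⟨w, by rw [hw, sub_self]; exact IsNilpotent.zero⟩

variable {A Bq RS RX : Type u} [CommRing A]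
  [CommRing Bq] [IsLocalRing Bq] [Algebra A Bq]
  [CommRing RS] [IsLocalRing RS] [Algebra A RS]
  [CommRing RX] [IsLocalRing RX] [Algebra RS RX] [Algebra A RX] [IsScalarTower A RS RX]
  [Algebra Bq RX] [IsScalarTower A Bq RX]

set_option synthInstance.maxHeartbeats 200000 in
set_option maxHeartbeats 1000000 in
/-- Idempotents over a field which is algebraic over the image. -/
theorem idem_field 
    (hE : NilUIC A Bq)
    [IsLocalHom (algebraMap Bq RX)] [Hensel.IsStrictHenselization Bq RX]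
    [Algebra.WeaklyEtale A RS] [Module.Flat RS RX] [IsLocalHom (algebraMap RS RX)]
    [HenselianLocalRing RS] [IsSepClosed (ResidueField RS)]
    (L : Type u) [Field L] [IsAlgClosed L] [Algebra RS L]
    (hL : ∀ l : L, ∃ c : L, c ≠ 0 ∧ IsIntegral RS c ∧ IsIntegral RS (c * l))
    (e : RX ⊗[RS] L) (he : IsIdempotentElem e) : e = 0 ∨ e = 1 := by
  classical
  let C := integralClosure RS L
  haveI : Algebra.IsIntegral RS C := IsIntegralClosure.isIntegral_algebra RS L
  haveI : IsLocalRing C := Groth.EtaleAlgebra.isLocalRing_of_isIntegral_domain RS C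
  haveI : IsLocalRing (RX ⊗[RS] C) := Groth.HensPair.HenselFibres.hloc_of_isSepClosed RS RX C
  let ιM := Algebra.TensorProduct.map (AlgHom.id RX RX) C.val
  have hιM : Function.Injective ιM :=
    Module.Flat.lTensor_preserves_injective_linearMap (M := RX) C.val.toLinearMap Subtype.val_injective
  -- clear denominators
  obtain ⟨c, hc0, x, hx⟩ : ∃ (c : C) (_ : (c : L) ≠ 0) (x : RX ⊗[RS] C),
      ιM x = (1 ⊗ₜ (c : L)) * e := by
    clear he
    induction e with
    | zero => exact ⟨1, one_ne_zero, 0, by simp⟩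
    | add e₁ e₂ h₁ h₂ =>
      obtain ⟨c₁, hc₁, x₁, hx₁⟩ := h₁
      obtain ⟨c₂, hc₂, x₂, hx₂⟩ := h₂
      refine ⟨c₁ * c₂, mul_ne_zero hc₁ hc₂, (1 ⊗ₜ c₂) * x₁ + (1 ⊗ₜ c₁) * x₂, ?_⟩
      rw [map_add, map_mul, map_mul, hx₁, hx₂, mul_add, MulMemClass.coe_mul]
      show (1 ⊗ₜ[RS] (c₂ : L)) * _ + (1 ⊗ₜ[RS] (c₁ : L)) * _ = _
      rw [← mul_assoc, ← mul_assoc, Algebra.TensorProduct.tmul_mul_tmul,
        Algebra.TensorProduct.tmul_mul_tmul, mul_one, mul_comm (c₂ : L)]
    | tmul r l =>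
      obtain ⟨c, hc, hci, hcl⟩ := hL l
      refine ⟨⟨c, hci⟩, hc, r ⊗ₜ ⟨c * l, hcl⟩, ?_⟩
      show r ⊗ₜ[RS] (c * l) = _
      rw [Algebra.TensorProduct.tmul_mul_tmul, one_mul]
  have hx2 : x * x = (1 ⊗ₜ c) * x := hιM (by
    rw [map_mul, map_mul, hx]
    show _ = (1 ⊗ₜ[RS] (c : L)) * _
    rw [mul_mul_mul_comm, he.eq, mul_assoc])
  -- an étale neighbourhood
  obtain ⟨S, hS⟩ := TensorProduct.exists_finset x
  obtain ⟨MX⟩ := Groth.Hensel1.hensModel_of_isStrictHenselization (R := Bq) (S := RX)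
  let G : MvPolynomial (Fin S.card) Bq →ₐ[Bq] Groth.Hensel1.Hens Bq MX.Ω :=
    MvPolynomial.aeval fun k => MX.equiv.symm (S.equivFin.symm k).1.1
  obtain ⟨E, _, _, _, φ₀, g₀, hg₀⟩ := Groth.HensPair.hens_factor _ G
  let g : E →ₐ[Bq] RX := MX.equiv.toAlgHom.comp g₀
  letI : Algebra A E := ((algebraMap Bq E).comp (algebraMap A Bq)).toAlgebra
  haveI : IsScalarTower A Bq E := IsScalarTower.of_algebraMap_eq fun _ => rfl
  let gA : E →ₐ[A] RX := g.restrictScalars A
  letI : Algebra E RX := g.toRingHom.toAlgebra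
  haveI : IsScalarTower Bq E RX := IsScalarTower.of_algebraMap_eq fun b => (g.commutes b).symm
  haveI : Module.Flat Bq RX := MX.flat
  haveI : Module.Flat E RX := flat_of_weaklyEtale Bq E RX
  have hgflat : gA.Flat := RingHom.flat_algebraMap_iff.2 (inferInstance : Module.Flat E RX)
  -- base change to C
  letI : Algebra A L := ((algebraMap RS L).comp (algebraMap A RS)).toAlgebra
  haveI : IsScalarTower A RS L := IsScalarTower.of_algebraMap_eq fun _ => rfl
  let i : C →ₐ[A] L := C.val.restrictScalars A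
  have hi : ∀ l : L, i.toRingHom.IsIntegralElem l → ∃ c, i c = l := fun l hl => by
    refine ⟨⟨l, ?_⟩, rfl⟩
    exact isIntegral_trans (R := RS) (A := C) l hl
  let φ := ((Algebra.TensorProduct.mapOfCompatibleSMul RS A RX RX C).toRingHom).comp
    (Algebra.TensorProduct.map gA (AlgHom.id A C)).toRingHom
  let φL := ((Algebra.TensorProduct.mapOfCompatibleSMul RS A RX RX L).toRingHom).comp
    (Algebra.TensorProduct.map gA (AlgHom.id A L)).toRingHom
  let ιE := Algebra.TensorProduct.map (AlgHom.id E E) i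
  have hsq : ∀ y, φL (ιE y) = ιM (φ y) := fun y => by
    induction y with
    | zero => simp
    | tmul a b => rfl
    | add a b ha hb => simp only [map_add, ha, hb]
  have hφflat : φ.Flat :=
    (RingHom.Flat.tensorProductMap hgflat (RingHom.Flat.of_bijective Function.bijective_id)).comp
      (RingHom.Flat.mapOfCompatibleSMul (R := A) (S := RS) RX C (Algebra.WeaklyEtale.flat_lmul' A RS))
  obtain ⟨z, hz⟩ : ∃ z, φ z = x := by
    rw [hS]
    refine Subring.sum_mem φ.range fun p hp => ⟨φ₀ (MvPolynomial.X (S.equivFin ⟨p, hp⟩)) ⊗ₜ p.2, ?_⟩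
    show g (φ₀ _) ⊗ₜ[RS] p.2 = _
    congr 1
    show MX.equiv (g₀ (φ₀ _)) = _
    rw [← AlgHom.comp_apply, hg₀, MvPolynomial.aeval_X, Equiv.symm_apply_apply, AlgEquiv.apply_symm_apply]
  -- the annihilator
  obtain ⟨a, ha, hau⟩ : ∃ a : E ⊗[A] C, a * (z * z - (1 ⊗ₜ c) * z) = 0 ∧ IsUnit (φ a) := by
    letI : Algebra (E ⊗[A] C) (RX ⊗[RS] C) := φ.toAlgebra
    haveI : Module.Flat (E ⊗[A] C) (RX ⊗[RS] C) := hφflat
    have h0 : φ (z * z - (1 ⊗ₜ c) * z) = 0 := by
      have h1c : φ (1 ⊗ₜ c) = 1 ⊗ₜ c := by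
        show gA 1 ⊗ₜ[RS] c = _
        rw [map_one]
      rw [map_sub, map_mul, map_mul, hz, h1c, hx2, sub_self]
    obtain ⟨k, a, y, ha, hy⟩ := Module.Flat.isTrivialRelation_of_sum_smul_eq_zero
      (R := E ⊗[A] C) (M := RX ⊗[RS] C) (f := fun _ : Fin 1 => z * z - (1 ⊗ₜ c) * z) (x := fun _ => 1) (by
        rw [Fin.sum_univ_one]
        show φ (z * z - (1 ⊗ₜ c) * z) * 1 = 0
        rw [h0, zero_mul])
    have hsum : ∑ j, φ (a 0 j) * y j = 1 := (ha 0).symm
    obtain ⟨j, hj⟩ : ∃ j, IsUnit (φ (a 0 j)) := by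
      by_contra hnone
      push Not at hnone
      have hmem : ∑ j, φ (a 0 j) * y j ∈ maximalIdeal (RX ⊗[RS] C) := Ideal.sum_mem _ fun j _ =>
        Ideal.mul_mem_right _ _ ((IsLocalRing.mem_maximalIdeal _).2 (hnone j))
      rw [hsum] at hmem
      exact (IsLocalRing.maximalIdeal.isMaximal _).ne_top ((Ideal.eq_top_iff_one _).2 hmem)
    refine ⟨a 0 j, ?_, hj⟩
    have h3 := hy j
    rw [Fin.sum_univ_one] at h3
    rw [mul_comm]
    exact h3
  -- integral closure
  let zL : E ⊗[A] L := (1 ⊗ₜ (c : L)⁻¹) * ιE (a * z)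
  have hcc : (1 ⊗ₜ (c : L)⁻¹ : E ⊗[A] L) * ιE (1 ⊗ₜ c) = 1 := by
    show _ * (1 ⊗ₜ[A] (c : L)) = _
    rw [Algebra.TensorProduct.tmul_mul_tmul, one_mul, inv_mul_cancel₀ hc0]
    rfl
  have hzL : zL * zL = ιE a * zL := by
    have h4 : ιE a * ιE (z * z) = ιE a * (ιE (1 ⊗ₜ c) * ιE z) := by
      rw [← map_mul ιE (1 ⊗ₜ c), ← map_mul, ← map_mul]
      exact congrArg ιE (sub_eq_zero.1 (by rw [← mul_sub]; exact ha))
    calc zL * zL = (1 ⊗ₜ (c : L)⁻¹) * (1 ⊗ₜ (c : L)⁻¹) * ιE a * (ιE a * ιE (z * z)) := by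
          simp only [zL, map_mul]; ring
      _ = ((1 ⊗ₜ (c : L)⁻¹) * ιE (1 ⊗ₜ c)) * ((1 ⊗ₜ (c : L)⁻¹) * ιE a * ιE a * ιE z) := by
          rw [h4]; ring
      _ = ιE a * zL := by
          rw [hcc]; simp only [zL, map_mul]; ring
  obtain ⟨w, hw⟩ := hE C L i Subtype.val_injective hi E zL
    ⟨X ^ 2 - Polynomial.C a * X, monic_X_pow_sub (n := 2) ((degree_C_mul_X_le a).trans_lt (by norm_num)),
      by rw [eval₂_sub, eval₂_mul, eval₂_X_pow, eval₂_C, eval₂_X, pow_two, hzL]; exact sub_self _⟩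
  have key : IsNilpotent (ιM (φ w) - ιM (φ a) * e) := by
    have h1 : IsNilpotent (φL (ιE w - zL)) := hw.map φL
    rw [map_sub, hsq] at h1
    convert h1 using 2
    show _ = φL (_ * ιE (a * z))
    rw [map_mul, hsq, map_mul, map_mul, hz, hx]
    have : φL (1 ⊗ₜ (c : L)⁻¹) = 1 ⊗ₜ[RS] (c : L)⁻¹ := by
      show gA 1 ⊗ₜ[RS] (c : L)⁻¹ = _
      rw [map_one]
    rw [this]
    calc _ = ((1 ⊗ₜ[RS] (c : L)⁻¹ : RX ⊗[RS] L) * (1 ⊗ₜ[RS] (c : L))) * (ιM (φ a) * e) := by
          rw [Algebra.TensorProduct.tmul_mul_tmul, one_mul, inv_mul_cancel₀ hc0]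
          exact (one_mul _).symm
      _ = _ := by ring
  let e₀ := ↑hau.unit⁻¹ * φ w
  have he₀ : IsNilpotent (ιM e₀ - e) := by
    have h2 := Commute.isNilpotent_mul_left (Commute.all (ιM ↑hau.unit⁻¹) _) key
    rwa [mul_sub, ← map_mul, ← mul_assoc, ← map_mul, IsUnit.val_inv_mul, map_one, one_mul] at h2
  rcases IsLocalRing.isUnit_or_isUnit_one_sub_self e₀ with hu | hu
  · refine Or.inr ?_
    have h3 : IsUnit (ιM e₀ + -(ιM e₀ - e)) :=
      he₀.neg.isUnit_add_left_of_commute (hu.map ιM) (Commute.all _ _)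
    rw [show ιM e₀ + -(ιM e₀ - e) = e by ring] at h3
    exact h3.mul_left_cancel (show e * e = e * 1 by rw [he.eq, mul_one])
  · refine Or.inl ?_
    have h3 : IsUnit (ιM (1 - e₀) + (ιM e₀ - e)) :=
      he₀.isUnit_add_left_of_commute (hu.map ιM) (Commute.all _ _)
    rw [map_sub, map_one, show 1 - ιM e₀ + (ιM e₀ - e) = 1 - e by ring] at h3
    exact h3.mul_right_eq_zero.mp (by rw [sub_mul, one_mul, he.eq, sub_self])

set_option synthInstance.maxHeartbeats 200000 in
/-- All base changes to fields are connected. -/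
theorem connectedSpace_tensor 
    (hE : NilUIC A Bq)
    [IsLocalHom (algebraMap Bq RX)] [Hensel.IsStrictHenselization Bq RX]
    [Algebra.WeaklyEtale A RS] [Module.Flat RS RX] [IsLocalHom (algebraMap RS RX)]
    [HenselianLocalRing RS] [IsSepClosed (ResidueField RS)]
    (K : Type u) [Field K] [Algebra RS K] : ConnectedSpace (PrimeSpectrum (K ⊗[RS] RX)) := by
  haveI : Module.FaithfullyFlat RS RX := Module.FaithfullyFlat.of_flat_of_isLocalHom
  haveI : Nontrivial (K ⊗[RS] RX) := inferInstance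
  refine Ega4b.HenselConn.connectedSpace_of_idem _ fun e he => ?_
  let p := RingHom.ker (algebraMap RS K)
  haveI : p.IsPrime := RingHom.ker_isPrime _
  let L := AlgebraicClosure p.ResidueField
  let Ω := AlgebraicClosure K
  let j : p.ResidueField →ₐ[RS] K := Ideal.ResidueField.liftₐ p (Algebra.ofId RS K) le_rfl (by
    intro x hx
    exact isUnit_iff_ne_zero.mpr fun h0 => hx h0)
  letI : Algebra p.ResidueField Ω := ((algebraMap K Ω).comp j.toRingHom).toAlgebra
  haveI : IsScalarTower RS p.ResidueField Ω := IsScalarTower.of_algebraMap_eq fun a => by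
    show _ = algebraMap K Ω (j (algebraMap RS p.ResidueField a))
    rw [j.commutes, ← IsScalarTower.algebraMap_apply]
  let i : L →ₐ[p.ResidueField] Ω := IsAlgClosed.lift
  letI : Algebra L Ω := i.toRingHom.toAlgebra
  haveI : IsScalarTower RS L Ω := IsScalarTower.of_algebraMap_eq fun a => by
    rw [IsScalarTower.algebraMap_apply RS p.ResidueField L, IsScalarTower.algebraMap_apply RS p.ResidueField Ω]
    exact (i.commutes _).symm
  let f := Algebra.TensorProduct.map (IsScalarTower.toAlgHom RS K Ω) (AlgHom.id RS RX)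
  have hf : Function.Injective f :=
    Module.Flat.rTensor_preserves_injective_linearMap _ (RingHom.injective (algebraMap K Ω))
  let g := (Algebra.TensorProduct.cancelBaseChange RS L L Ω RX).symm
  have hR : ∀ x : L ⊗[RS] RX, IsIdempotentElem x → x = 0 ∨ x = 1 := fun x hx => by
    let σ := Algebra.TensorProduct.comm RS L RX
    rcases idem_field (A := A) (Bq := Bq) hE L (exists_denominator p) (σ x) (hx.map σ) with h | h
    · exact Or.inl (σ.injective (h.trans (map_zero σ).symm))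
    · exact Or.inr (σ.injective (h.trans (map_one σ).symm))
  rcases Ega4b.HenselConn.idem_tensor hR (g (f e)) ((he.map f).map g) with h | h
  · exact Or.inl (hf ((g.injective (h.trans (map_zero g).symm)).trans (map_zero f).symm))
  · exact Or.inr (hf ((g.injective (h.trans (map_one g).symm)).trans (map_one f).symm))

end Groth.ZeroAcyclic
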