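import Groth.Agent.EtaleShriek.EtaleLocalBC
import Groth.Agent.EtaleLift.Restriction

/-!
The criterion for base change in degree zero is invariant under universal homeomorphisms.
-/

set_option autoImplicit false
set_option backward.isDefEq.respectTransparency.types false
set_option linter.style.haveILetI false
set_option linter.unusedSectionVars false

universe u

open CategoryTheory CategoryTheory.Limits AlgebraicGeometry Opposite

namespace Groth.ZeroAcyclic

open Groth.EtaleBase (fiberPoint geomPoint geomPoint_apply openObj openHom exists_fiber_lift isOpenMap_left)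
open Groth.EtaleShriek.FlatConnBC
open Groth.EtaleShriek.BCSets (sg sg_res)
open Groth.DescentBase (agreeSet isOpen_agreeSet shGerm_eq_iff_mem map_eq_iff_range_subset)

section homeo

variable {A B : Scheme.{u}} (p : A ⟶ B) [IsIntegralHom p] [UniversallyInjective p] [Surjective p]

/-- Universal homeomorphisms have connected geometric fibres. -/
theorem geometricallyConnected_of_radicial : GeometricallyConnected p := by
  refine ⟨fun K _ y Z fst snd h => ?_⟩
  haveI : UniversallyInjective snd := MorphismProperty.of_isPullback h ‹_›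
  haveI : Surjective snd := MorphismProperty.of_isPullback h ‹_›
  haveI : Subsingleton Z := snd.injective.subsingleton
  obtain ⟨z, -⟩ := snd.surjective default
  haveI : Nonempty Z := ⟨z⟩
  exact { toPreconnectedSpace := inferInstance, toNonempty := inferInstance }

theorem isQuotientMap_snd_of_integral {C : Scheme.{u}} (q : C ⟶ B) :
    Topology.IsQuotientMap (pullback.snd p q).base :=
  (pullback.snd p q).isClosedMap.isQuotientMap (pullback.snd p q).continuous (pullback.snd p q).surjective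

end homeo

variable {X S Y T X₂ S₂ Y₂ T₂ : Scheme.{u}} {f : X ⟶ S} {g : T ⟶ S} {h : Y ⟶ X} {e : Y ⟶ T}
  (c : IsPullback e h g f) (F : EtDesc.Sh T)
  {π : S₂ ⟶ S} [IsIntegralHom π] [UniversallyInjective π] [Surjective π]
  {ρ : X₂ ⟶ X} [IsIntegralHom ρ] [UniversallyInjective ρ] [Surjective ρ]
  {f₂ : X₂ ⟶ S₂} {g₂ : T₂ ⟶ S₂} {h₂ : Y₂ ⟶ X₂} {e₂ : Y₂ ⟶ T₂}
  (c₂ : IsPullback e₂ h₂ g₂ f₂) {πT : T₂ ⟶ T} (cT : IsPullback πT g₂ g π)
  {y : Y₂ ⟶ Y} (cy : IsPullback y h₂ h ρ) (hye : y ≫ e = e₂ ≫ πT) (hρ : f₂ ≫ π = ρ ≫ f)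
  {Ω : Type u} [Field Ω] [IsAlgClosed Ω] {η : Spec (CommRingCat.of Ω) ⟶ X}
  (η₂ : Spec (CommRingCat.of Ω) ⟶ X₂) (hη : η₂ ≫ ρ = η)

include hye in
lemma mu_comp {W : X.Etale} {V : S.Etale} (a : W.left ⟶ V.left) (ha : a ≫ V.hom = W.hom ≫ f)
    (a₂ : ((EtCoh.bc ρ).obj W).left ⟶ ((EtCoh.bc π).obj V).left)
    (ha₂ : a₂ ≫ ((EtCoh.bc π).obj V).hom = ((EtCoh.bc ρ).obj W).hom ≫ f₂)
    (hfa : a₂ ≫ pullback.fst V.hom π = pullback.fst W.hom ρ ≫ a) :
    mu cy (U := (EtCoh.bc ρ).obj W) (pullback.fst W.hom ρ) pullback.condition ≫ mu c a ha =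
      mu c₂ a₂ ha₂ ≫ mu cT (U := (EtCoh.bc π).obj V) (pullback.fst V.hom π) pullback.condition := by
  apply pullback.hom_ext
  · refine (Category.assoc _ _ _).trans ((congrArg (_ ≫ ·) (pullback.lift_fst _ _ _)).trans ?_)
    refine (Category.assoc _ _ _).symm.trans ((congrArg (· ≫ a) (pullback.lift_fst _ _ _)).trans ?_)
    refine Eq.trans ?_ ((Category.assoc _ _ _).trans (congrArg (mu c₂ a₂ ha₂ ≫ ·) (pullback.lift_fst _ _ _))).symm
    refine Eq.trans ?_ ((Category.assoc _ _ _).symm.trans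
      (congrArg (· ≫ pullback.fst V.hom π) (pullback.lift_fst _ _ _))).symm
    exact (Category.assoc _ _ _).trans ((congrArg (_ ≫ ·) hfa.symm).trans (Category.assoc _ _ _).symm)
  · refine (Category.assoc _ _ _).trans ((congrArg (_ ≫ ·) (pullback.lift_snd _ _ _)).trans ?_)
    refine (Category.assoc _ _ _).symm.trans ((congrArg (· ≫ e) (pullback.lift_snd _ _ _)).trans ?_)
    refine Eq.trans ?_ ((Category.assoc _ _ _).trans (congrArg (mu c₂ a₂ ha₂ ≫ ·) (pullback.lift_snd _ _ _))).symm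
    refine Eq.trans ?_ ((Category.assoc _ _ _).symm.trans (congrArg (· ≫ πT) (pullback.lift_snd _ _ _))).symm
    exact (Category.assoc _ _ _).trans ((congrArg (_ ≫ ·) hye).trans (Category.assoc _ _ _).symm)

include c₂ cT cy hye hρ hη in
set_option maxHeartbeats 1600000 in
/-- Descent of the injectivity criterion. -/
theorem inj_of_homeo (H : Inj c₂ ((EtDesc.pullSh πT).obj F) η₂) : Inj c F η := by
  intro W V a ha w σ₁ σ₂ hval
  haveI : Etale V.hom := V.prop
  let W₂ := (EtCoh.bc ρ).obj W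
  let V₂ := (EtCoh.bc π).obj V
  let a₂ : W₂.left ⟶ V₂.left := pullback.lift (pullback.fst W.hom ρ ≫ a) (pullback.snd W.hom ρ ≫ f₂)
    ((Category.assoc _ _ _).trans ((congrArg (_ ≫ ·) ha).trans ((Category.assoc _ _ _).symm.trans
      ((congrArg (· ≫ f) pullback.condition).trans ((Category.assoc _ _ _).trans ((congrArg (_ ≫ ·) hρ.symm).trans
        (Category.assoc _ _ _).symm))))))
  have ha₂ : a₂ ≫ V₂.hom = W₂.hom ≫ f₂ := pullback.lift_snd _ _ _
  have hfa : a₂ ≫ pullback.fst V.hom π = pullback.fst W.hom ρ ≫ a := pullback.lift_fst _ _ _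
  let w₂ : (Scheme.pointSmallEtale η₂).fiber.obj W₂ :=
    Over.homMk (pullback.lift w.left η₂ ((Over.w w).trans hη.symm)) (pullback.lift_snd _ _ _)
  let pV : V₂.left ⟶ V.left := pullback.fst V.hom π
  haveI : IsIntegralHom pV := MorphismProperty.pullback_fst (P := @IsIntegralHom) _ _ ‹_›
  haveI : UniversallyInjective pV := MorphismProperty.pullback_fst (P := @UniversallyInjective) _ _ ‹_›
  haveI : Surjective pV := MorphismProperty.pullback_fst (P := @Surjective) _ _ ‹_›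
  let μT : ((EtCoh.bc g₂).obj V₂).left ⟶ ((EtCoh.bc g).obj V).left := mu cT pV pullback.condition
  haveI : Surjective μT := MorphismProperty.of_isPullback (P := @Surjective)
    (mu_isPullback cT pV pullback.condition) ‹Surjective pV›
  let τ₁ := img cT F (W := V₂) pV pullback.condition σ₁
  let τ₂ := img cT F (W := V₂) pV pullback.condition σ₂
  obtain ⟨V₂', d₂, s₂, hs, heq⟩ := H W₂ V₂ a₂ ha₂ w₂ τ₁ τ₂ fun K _ _ m₂ => by
    let m := m₂ ≫ mu cy (U := W₂) (pullback.fst W.hom ρ) pullback.condition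
    let l := m₂ ≫ mu c₂ a₂ ha₂
    have hm : m ≫ mu c a ha = l ≫ μT :=
      (Category.assoc _ _ _).trans ((congrArg (m₂ ≫ ·) (mu_comp c c₂ cT cy hye a ha a₂ ha₂ hfa)).trans
        (Category.assoc _ _ _).symm)
    have key : sg F ((m ≫ mu c a ha) ≫ ((EtCoh.bc g).obj V).hom) _ (m ≫ mu c a ha) rfl σ₁ =
        sg F ((m ≫ mu c a ha) ≫ ((EtCoh.bc g).obj V).hom) _ (m ≫ mu c a ha) rfl σ₂ := hval K m
    rw [hm] at key
    obtain ⟨h₁, e₁⟩ := rel_img cT F (W := V₂) pV pullback.condition σ₁ l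
    obtain ⟨_, e₂'⟩ := rel_img cT F (W := V₂) pV pullback.condition σ₂ l
    refine e₁.trans (Eq.trans ?_ e₂'.symm)
    rw [← stalkPullIso_sg, ← stalkPullIso_sg]
    exact congrArg _ ((sg_eq_iff_of_point_eq F h₁.symm _ _ h₁ h₁ rfl rfl σ₁ σ₂).2 key)
  haveI : Etale V₂'.hom := V₂'.prop
  let O : V.left.Opens := ⟨pV '' Set.range d₂.left.base, by
    refine isClosed_compl_iff.1 ?_
    rw [← Set.image_compl_eq ⟨pV.injective, pV.surjective⟩]
    exact pV.isClosedMap _ (isOpenMap_left d₂).isOpen_range.isClosed_compl⟩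
  let t := spt η a ha w
  have ht : fiberPoint (η ≫ f) t ∈ O := by
    let sp : Spec (CommRingCat.of Ω) ⟶ V₂'.left := s₂.left
    refine ⟨d₂.left (sp default), ⟨_, rfl⟩, ?_⟩
    have h1 : (s₂.left ≫ d₂.left) ≫ pV = t.left := by
      refine (congrArg (fun q : (Scheme.pointSmallEtale (η₂ ≫ f₂)).fiber.obj V₂ => q.left ≫ pV) hs).trans ?_
      exact (Category.assoc _ _ _).trans ((congrArg (w₂.left ≫ ·) hfa).trans
        ((Category.assoc _ _ _).symm.trans (congrArg (· ≫ a) (pullback.lift_fst _ _ _))))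
    exact congrArg (fun k : Spec (CommRingCat.of Ω) ⟶ V.left => k default) h1
  obtain ⟨t', ht', -⟩ := exists_fiber_lift (η ≫ f) (openHom V O) t (⟨_, ht⟩ : ↥O) rfl
  refine ⟨openObj V O, openHom V O, t', ht', (map_eq_iff_range_subset F _ σ₁ σ₂).2 ?_⟩
  rintro _ ⟨q, rfl⟩
  obtain ⟨z₂, hz₂⟩ := μT.surjective (((EtCoh.bc g).map (openHom V O)).left q)
  rw [← hz₂]
  have hz : pullback.fst V₂.hom g₂ z₂ ∈ Set.range d₂.left.base := by
    have h1 : pV (pullback.fst V₂.hom g₂ z₂) = pullback.fst V.hom g (μT z₂) :=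
      congrArg (fun k : ((EtCoh.bc g₂).obj V₂).left ⟶ V.left => k z₂)
        (pullback.lift_fst _ _ _ : μT ≫ pullback.fst V.hom g = pullback.fst V₂.hom g₂ ≫ pV).symm
    have h2 : pullback.fst V.hom g (((EtCoh.bc g).map (openHom V O)).left q) ∈ O :=
      Set.mem_of_eq_of_mem
        (congrArg (fun k : ((EtCoh.bc g).obj (openObj V O)).left ⟶ V.left => k q)
          (EtCoh.isPullback_bc_map g (openHom V O)).w)
        ((pullback.fst (openObj V O).hom g) q).2
    obtain ⟨v, hv, hv'⟩ := Set.mem_of_eq_of_mem (h1.trans (congrArg _ hz₂)) h2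
    exact Set.mem_of_eq_of_mem (pV.injective hv'.symm) hv
  obtain ⟨v, hv⟩ := hz
  obtain ⟨q₂, hq₂, -⟩ := Scheme.exists_preimage_of_isPullback (EtCoh.isPullback_bc_map g₂ d₂)
    z₂ v hv.symm
  have h3 : z₂ ∈ agreeSet ((EtDesc.pullSh πT).obj F) ((EtCoh.bc g₂).obj V₂) τ₁ τ₂ :=
    (map_eq_iff_range_subset _ _ τ₁ τ₂).1 heq ⟨q₂, hq₂⟩
  let ζ := geomPoint z₂
  have h4 := (shGerm_eq_iff_mem (ζ ≫ ((EtCoh.bc g₂).obj V₂).hom) _ _ τ₁ τ₂ (Over.homMk ζ rfl)).2
    (Set.mem_of_eq_of_mem (geomPoint_apply z₂ _) h3)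
  obtain ⟨h₁, e₁⟩ := rel_img cT F (W := V₂) pV pullback.condition σ₁ ζ
  obtain ⟨_, e₂'⟩ := rel_img cT F (W := V₂) pV pullback.condition σ₂ ζ
  have h5 := e₁.symm.trans (h4.trans e₂')
  rw [← stalkPullIso_sg, ← stalkPullIso_sg] at h5
  have h6 := ((isIso_iff_bijective _).1 inferInstance).1 h5
  refine Set.mem_of_eq_of_mem ?_ ((shGerm_eq_iff_mem _ F _ σ₁ σ₂ _).1 h6)
  exact ((Scheme.Hom.comp_apply ζ μT default).trans (congrArg _ (geomPoint_apply z₂ _))).symm

include c₂ cT cy hye hρ hη in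
set_option maxHeartbeats 3200000 in
/-- Descent of the surjectivity criterion. -/
theorem surj_of_homeo (H : Surj c₂ ((EtDesc.pullSh πT).obj F) η₂) : Surj c F η := by
  intro W w x
  haveI := Groth.EtaleLift.isEquivalence_bc_univHomeo π
  haveI := Groth.EtaleLift.isEquivalence_bc_univHomeo ρ
  let W₂ := (EtCoh.bc ρ).obj W
  let w₂ : (Scheme.pointSmallEtale η₂).fiber.obj W₂ :=
    Over.homMk (pullback.lift w.left η₂ ((Over.w w).trans hη.symm)) (pullback.lift_snd _ _ _)
  let μW : ((EtCoh.bc h₂).obj W₂).left ⟶ ((EtCoh.bc h).obj W).left :=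
    mu cy (pullback.fst W.hom ρ) pullback.condition
  obtain ⟨x', hx'⟩ := exists_transfer (e := e) (F := F) y (y ≫ e) rfl _ x _ μW (mu_hom cy _ _)
  obtain ⟨x₂, hx₂⟩ := exists_rel₂ (e := πT) e₂ (y ≫ e) hye.symm _ x'
  obtain ⟨U₂, r₂, u₂, V₂, a₂, ha₂, σ₂, hu₂, hval⟩ := H W₂ w₂ x₂
  let U := (EtCoh.bc ρ).objPreimage U₂
  let iU := (EtCoh.bc ρ).objObjPreimageIso U₂
  let V := (EtCoh.bc π).objPreimage V₂
  let iV := (EtCoh.bc π).objObjPreimageIso V₂
  haveI : Etale V.hom := V.prop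
  let r : U ⟶ W := (EtCoh.bc ρ).preimage (iU.hom ≫ r₂)
  have hr : (EtCoh.bc ρ).map r = iU.hom ≫ r₂ := (EtCoh.bc ρ).map_preimage _
  let a₁ : ((EtCoh.bc ρ).obj U).left ⟶ ((EtCoh.bc π).obj V).left := iU.hom.left ≫ a₂ ≫ iV.inv.left
  have ha₁ : a₁ ≫ ((EtCoh.bc π).obj V).hom = ((EtCoh.bc ρ).obj U).hom ≫ f₂ := by
    refine (Category.assoc _ _ _).trans ((congrArg (iU.hom.left ≫ ·) ((Category.assoc _ _ _).trans
      ((congrArg (a₂ ≫ ·) (MorphismProperty.Over.w iV.inv)).trans ha₂))).trans ?_)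
    exact (Category.assoc _ _ _).symm.trans (congrArg (· ≫ f₂) (MorphismProperty.Over.w iU.hom))
  let B := (EtCoh.bc f).obj V
  let kk : ((EtCoh.bc ρ).obj U).left ⟶ B.left :=
    pullback.lift (a₁ ≫ pullback.fst V.hom π) (pullback.fst U.hom ρ ≫ U.hom) (by
      refine ((Category.assoc _ _ _).trans (congrArg (a₁ ≫ ·) pullback.condition)).trans ?_
      refine ((Category.assoc _ _ _).symm.trans (congrArg (· ≫ π) ha₁)).trans ?_
      refine (Category.assoc _ _ _).trans ((congrArg (_ ≫ ·) hρ).trans ?_)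
      refine (Category.assoc _ _ _).symm.trans ?_
      exact congrArg (· ≫ f) pullback.condition.symm)
  let k₂ : (EtCoh.bc ρ).obj U ⟶ (EtCoh.bc ρ).obj B :=
    MorphismProperty.Over.homMk
      (pullback.lift kk (pullback.snd U.hom ρ) ((pullback.lift_snd _ _ _).trans pullback.condition))
      (pullback.lift_snd _ _ _)
  let k : U ⟶ B := (EtCoh.bc ρ).preimage k₂
  have hk : pullback.fst U.hom ρ ≫ k.left = kk := by
    refine (pullback.lift_fst _ _ _).symm.trans ((congrArg (fun q : (EtCoh.bc ρ).obj U ⟶ (EtCoh.bc ρ).obj B =>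
      q.left ≫ pullback.fst B.hom ρ) ((EtCoh.bc ρ).map_preimage k₂)).trans ?_)
    exact pullback.lift_fst _ _ _
  let a : U.left ⟶ V.left := k.left ≫ pullback.fst V.hom f
  have ha : a ≫ V.hom = U.hom ≫ f :=
    (Category.assoc _ _ _).trans ((congrArg (k.left ≫ ·) pullback.condition).trans
      ((Category.assoc _ _ _).symm.trans (congrArg (· ≫ f) (MorphismProperty.Over.w k))))
  have hfa : a₁ ≫ pullback.fst V.hom π = pullback.fst U.hom ρ ≫ a :=
    ((Category.assoc _ _ _).symm.trans ((congrArg (· ≫ pullback.fst V.hom f) hk).trans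
      (pullback.lift_fst _ _ _))).symm
  let u : (Scheme.pointSmallEtale η).fiber.obj U :=
    Over.homMk ((u₂.left ≫ iU.inv.left) ≫ pullback.fst U.hom ρ) (by
      refine ((Category.assoc _ _ _).trans (congrArg (_ ≫ ·) pullback.condition)).trans ?_
      refine (Category.assoc _ _ _).symm.trans ((congrArg (· ≫ ρ) ?_).trans hη)
      exact (Category.assoc _ _ _).trans ((congrArg (u₂.left ≫ ·) (MorphismProperty.Over.w iU.inv)).trans
        (Over.w u₂)))
  have hu : (Scheme.pointSmallEtale η).fiber.map r u = w := by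
    apply Over.OverMorphism.ext
    show u.left ≫ r.left = w.left
    have h1 : pullback.fst U.hom ρ ≫ r.left = (iU.hom ≫ r₂).left ≫ pullback.fst W.hom ρ := by
      rw [← hr]
      exact (pullback.lift_fst _ _ _).symm
    refine ((Category.assoc _ _ _).trans (congrArg (_ ≫ ·) h1)).trans ?_
    refine (Category.assoc _ _ _).symm.trans ?_
    refine Eq.trans (congrArg (· ≫ pullback.fst W.hom ρ) (?_ : _ = w₂.left)) (pullback.lift_fst _ _ _)
    refine Eq.trans ?_ (congrArg (fun q : (Scheme.pointSmallEtale η₂).fiber.obj W₂ => q.left) hu₂)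
    show (u₂.left ≫ iU.inv.left) ≫ iU.hom.left ≫ r₂.left = u₂.left ≫ r₂.left
    refine (Category.assoc _ _ _).trans (congrArg (u₂.left ≫ ·) ?_)
    refine (Category.assoc _ _ _).symm.trans ?_
    exact (congrArg (· ≫ r₂.left)
      (congrArg (fun q : U₂ ⟶ U₂ => q.left) iU.inv_hom_id)).trans (Category.id_comp _)
  -- descent of the section
  let pV : ((EtCoh.bc π).obj V).left ⟶ V.left := pullback.fst V.hom π
  haveI : IsIntegralHom pV := MorphismProperty.pullback_fst (P := @IsIntegralHom) _ _ ‹_›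
  haveI : UniversallyInjective pV := MorphismProperty.pullback_fst (P := @UniversallyInjective) _ _ ‹_›
  haveI : Surjective pV := MorphismProperty.pullback_fst (P := @Surjective) _ _ ‹_›
  let μT : ((EtCoh.bc g₂).obj ((EtCoh.bc π).obj V)).left ⟶ ((EtCoh.bc g).obj V).left :=
    mu cT pV pullback.condition
  haveI : IsIntegralHom μT := MorphismProperty.of_isPullback (P := @IsIntegralHom)
    (mu_isPullback cT pV pullback.condition) ‹IsIntegralHom pV›
  haveI : UniversallyInjective μT := MorphismProperty.of_isPullback (P := @UniversallyInjective)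
    (mu_isPullback cT pV pullback.condition) ‹UniversallyInjective pV›
  haveI : Surjective μT := MorphismProperty.of_isPullback (P := @Surjective)
    (mu_isPullback cT pV pullback.condition) ‹Surjective pV›
  haveI : GeometricallyConnected μT := geometricallyConnected_of_radicial μT
  let σ' := ((EtDesc.pullSh πT).obj F).obj.map ((EtCoh.bc g₂).map iV.hom).op σ₂
  obtain ⟨σ, hσ⟩ := exists_good_id_of_isQuotientMap (e := πT) (F := F) (μ := μT) σ' (mu_hom cT _ _)
    fun W' gW => isQuotientMap_snd_of_integral μT gW.left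
  rw [good_iff] at hσ
  -- values
  let G := (EtDesc.pullSh e).obj F
  let x₀ := G.obj.map ((EtCoh.bc h).map r).op x
  let y₀ := img c F a ha σ
  let μU : ((EtCoh.bc h₂).obj ((EtCoh.bc ρ).obj U)).left ⟶ ((EtCoh.bc h).obj U).left :=
    mu cy (pullback.fst U.hom ρ) pullback.condition
  haveI : Surjective (pullback.fst U.hom ρ) := MorphismProperty.pullback_fst (P := @Surjective) _ _ ‹_›
  haveI : Surjective μU := MorphismProperty.of_isPullback (P := @Surjective)
    (mu_isPullback cy (U := (EtCoh.bc ρ).obj U) (pullback.fst U.hom ρ) pullback.condition) ‹_›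
  have hall : ∀ z, z ∈ agreeSet G ((EtCoh.bc h).obj U) x₀ y₀ := fun z => by
    obtain ⟨z₂, rfl⟩ := μU.surjective z
    let m₂ := geomPoint z₂
    let m := m₂ ≫ μU
    let m' := m₂ ≫ ((EtCoh.bc h₂).map iU.hom).left
    let l' := m₂ ≫ mu c₂ a₁ ha₁
    have hl' : l' ≫ ((EtCoh.bc g₂).map iV.hom).left = m' ≫ mu c₂ a₂ ha₂ := by
      refine (Category.assoc _ _ _).trans (Eq.trans (congrArg (m₂ ≫ ·) ?_) (Category.assoc _ _ _).symm)
      apply pullback.hom_ext
      · refine (Category.assoc _ _ _).trans ((congrArg (_ ≫ ·) (pullback.lift_fst _ _ _)).trans ?_)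
        refine ((Category.assoc _ _ _).symm.trans (congrArg (· ≫ iV.hom.left) (pullback.lift_fst _ _ _))).trans ?_
        refine Eq.trans ?_ ((Category.assoc _ _ _).trans (congrArg (_ ≫ ·) (pullback.lift_fst _ _ _))).symm
        refine Eq.trans ?_ ((Category.assoc _ _ _).symm.trans (congrArg (· ≫ a₂) (pullback.lift_fst _ _ _))).symm
        refine ((Category.assoc _ _ _).trans (congrArg (_ ≫ ·) ?_)).trans (Category.assoc _ _ _).symm
        refine (Category.assoc _ _ _).trans (congrArg (iU.hom.left ≫ ·) ?_)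
        refine (Category.assoc _ _ _).trans ?_
        exact (congrArg (a₂ ≫ ·) (congrArg (fun q : V₂ ⟶ V₂ => q.left) iV.inv_hom_id)).trans (Category.comp_id _)
      · refine (Category.assoc _ _ _).trans ((congrArg (_ ≫ ·)
          (MorphismProperty.Over.w ((EtCoh.bc g₂).map iV.hom))).trans ?_)
        refine (mu_hom c₂ a₁ ha₁).trans ?_
        refine Eq.trans ?_ ((Category.assoc _ _ _).trans (congrArg (_ ≫ ·) (mu_hom c₂ a₂ ha₂))).symm
        exact ((Category.assoc _ _ _).symm.trans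
          (congrArg (· ≫ e₂) (MorphismProperty.Over.w ((EtCoh.bc h₂).map iU.hom)))).symm
    have hm : (m' ≫ ((EtCoh.bc h₂).map r₂).left) ≫ μW = m ≫ ((EtCoh.bc h).map r).left := by
      refine ((Category.assoc _ _ _).trans (Category.assoc _ _ _)).trans
        (Eq.trans (congrArg (m₂ ≫ ·) ?_) (Category.assoc _ _ _).symm)
      refine ((Category.assoc _ _ _).symm.trans (congrArg (fun q : (EtCoh.bc h₂).obj ((EtCoh.bc ρ).obj U) ⟶ _ =>
        q.left ≫ μW) ((EtCoh.bc h₂).map_comp iU.hom r₂).symm)).trans ?_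
      rw [← hr]
      apply pullback.hom_ext
      · refine (Category.assoc _ _ _).trans ((congrArg (_ ≫ ·) (pullback.lift_fst _ _ _)).trans ?_)
        refine ((Category.assoc _ _ _).symm.trans (congrArg (· ≫ pullback.fst W.hom ρ)
          (pullback.lift_fst _ _ _))).trans ?_
        refine Eq.trans ?_ ((Category.assoc _ _ _).trans (congrArg (μU ≫ ·) (pullback.lift_fst _ _ _))).symm
        refine Eq.trans ?_ ((Category.assoc _ _ _).symm.trans (congrArg (· ≫ r.left) (pullback.lift_fst _ _ _))).symm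
        exact ((Category.assoc _ _ _).trans (congrArg (_ ≫ ·) (pullback.lift_fst _ _ _))).trans
          (Category.assoc _ _ _).symm
      · refine (Category.assoc _ _ _).trans ((congrArg (_ ≫ ·) (mu_hom cy _ _)).trans ?_)
        refine ((Category.assoc _ _ _).symm.trans (congrArg (· ≫ y)
          (MorphismProperty.Over.w ((EtCoh.bc h₂).map ((EtCoh.bc ρ).map r))))).trans ?_
        refine Eq.trans ?_ ((Category.assoc _ _ _).trans (congrArg (μU ≫ ·)
          (MorphismProperty.Over.w ((EtCoh.bc h).map r)))).symm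
        exact (mu_hom cy _ _).symm
    have hμ : m ≫ mu c a ha = l' ≫ μT :=
      (Category.assoc _ _ _).trans ((congrArg (m₂ ≫ ·) (mu_comp c c₂ cT cy hye a ha a₁ ha₁ hfa)).trans
        (Category.assoc _ _ _).symm)
    obtain ⟨W₁, g₁, l₁, τ₁, -, hR₁⟩ := exists_rel (e := e) x (V := EtCoh.top T)
      (((EtCoh.bc h).obj W).hom ≫ e) (Category.comp_id _) (m ≫ ((EtCoh.bc h).map r).left)
    have q₁ := hx₂ _ (m' ≫ ((EtCoh.bc h₂).map r₂).left) W₁ l₁ τ₁ (hx' _ _ W₁ l₁ τ₁ (hm.symm ▸ hR₁))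
    have hσ₂ : Rel πT F σ₂ (m' ≫ mu c₂ a₂ ha₂) ((EtCoh.bc g).obj V) (l' ≫ μT) σ := by
      rw [← hl']
      exact (rel_src _ σ₂ l' _ σ).1 (hσ _ l' (l' ≫ μT) (Category.comp_id _))
    have q₂ : Rel₂ πT F e₂ x₂ (m' ≫ ((EtCoh.bc h₂).map r₂).left) ((EtCoh.bc g).obj V) (l' ≫ μT) σ :=
      (hval _ m').trans hσ₂
    have e₃ : (l' ≫ μT) ≫ ((EtCoh.bc g).obj V).hom = l₁ ≫ W₁.hom := q₂.1.trans q₁.1.symm
    have hx₀ : Rel e F x₀ m ((EtCoh.bc g).obj V) (m ≫ mu c a ha) σ := by
      rw [rel_src, hμ]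
      exact hR₁.of_sg_eq (l₁ ≫ W₁.hom) rfl e₃ (q₁.sg_eq q₂ (l₁ ≫ W₁.hom) rfl e₃)
    obtain ⟨_, h₁⟩ := hx₀
    obtain ⟨_, h₂'⟩ := rel_img c F a ha σ m
    have h3 := (shGerm_eq_iff_mem _ G _ x₀ y₀ (Over.homMk m rfl)).1 (h₁.trans h₂'.symm)
    refine Set.mem_of_eq_of_mem ?_ h3
    exact ((Scheme.Hom.comp_apply m₂ μU default).trans (congrArg _ (geomPoint_apply z₂ _))).symm
  have hxy : x₀ = y₀ := Groth.DescentBase.shSection_ext G _ x₀ y₀ hall
  refine ⟨U, r, u, V, a, ha, σ, hu, fun K _ _ m => ?_⟩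
  rw [← rel_src]
  show Rel e F x₀ m _ _ σ
  rw [hxy]
  exact rel_img c F a ha σ m

end Groth.ZeroAcyclic
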