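import Groth.Agent.EtaleShriek.FlatConnBC
import Groth.Prelude.Def_EtAcyc
import Mathlib

/-!
Flat quasi-compact morphisms with geometrically connected fibres are zero acyclic.
-/

set_option autoImplicit false
set_option backward.isDefEq.respectTransparency.types false

universe u

open CategoryTheory CategoryTheory.Limits AlgebraicGeometry Opposite

namespace Groth.ZeroAcyclic

open Groth.EtaleShriek.FlatConnBC

variable {T Y : Scheme.{u}} (p : Y ⟶ T) [Flat p] [QuasiCompact p] [GeometricallyConnected p]

/-- The unit is bijective on sections. -/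
theorem un_bijective (F : EtDesc.Sh T) (V : T.Etale) : Function.Bijective (un p F V) := by
  let μ : ((EtCoh.bc p).obj V).left ⟶ V.left := pullback.fst V.hom p
  have hμ : μ ≫ V.hom = ((EtCoh.bc p).obj V).hom ≫ p := pullback.condition
  have : Flat μ := inferInstanceAs (Flat (pullback.fst V.hom p))
  have : QuasiCompact μ := inferInstanceAs (QuasiCompact (pullback.fst V.hom p))
  have : GeometricallyConnected μ := inferInstanceAs (GeometricallyConnected (pullback.fst V.hom p))
  have hrel : ∀ (σ : F.obj.obj (op V)) (K : Type u) [Field K] [IsSepClosed K]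
      (m : Spec (CommRingCat.of K) ⟶ ((EtCoh.bc p).obj V).left),
      Rel p F (un p F V σ) m V (m ≫ μ) σ := by
    intro σ K _ _ m
    have h := rel_map (e := p) (F := F) (B := (EtCoh.bc p).obj V) (𝟙 _) σ m
    rw [show ((EtDesc.pullSh p).obj F).obj.map (𝟙 ((EtCoh.bc p).obj V)).op = 𝟙 _ from
      CategoryTheory.Functor.map_id _ _, ConcreteCategory.id_apply] at h
    rwa [show m ≫ (𝟙 ((EtCoh.bc p).obj V) : _ ⟶ _).left ≫ pullback.fst V.hom p = m ≫ μ from
      congrArg (m ≫ ·) (Category.id_comp _)] at h
  constructor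
  · intro σ₁ σ₂ h
    have good : ∀ σ, un p F V σ = un p F V σ₁ → Good (un p F V σ₁) hμ (𝟙 V) σ := by
      intro σ hσ
      rw [good_iff]
      intro K _ _ m l hl
      have hl' : l = m ≫ μ := (Category.comp_id l).symm.trans hl
      rw [hl', ← hσ]
      exact hrel σ K m
    exact (good σ₁ rfl).unique (good σ₂ h.symm)
  · intro σ'
    obtain ⟨σ, hσ⟩ := exists_good_id σ' hμ
    exact ⟨σ, eq_of_rel _ _ μ σ (hrel σ) fun K _ _ m =>
      (good_iff _ _).1 hσ K m (m ≫ μ) (Category.comp_id _)⟩

/-- The unit is an isomorphism. -/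
theorem isIso_unit (F : EtDesc.Sh T) : IsIso ((EtDesc.adjSh p).unit.app F) := by
  have : ∀ V : T.Etaleᵒᵖ, IsIso (((EtDesc.adjSh p).unit.app F).hom.app V) := fun V =>
    (isIso_iff_bijective _).2 (un_bijective p F V.unop)
  have h : IsIso ((sheafToPresheaf _ _).map ((EtDesc.adjSh p).unit.app F)) :=
    @NatIso.isIso_of_isIso_app _ _ _ _ _ _ _ this
  exact isIso_of_fully_faithful (sheafToPresheaf _ _) _

omit [Flat p] [QuasiCompact p] [GeometricallyConnected p] in
/-- Such morphisms are zero acyclic. -/
theorem isZeroAcyclic [Flat p] [QuasiCompact p] [GeometricallyConnected p] :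
    EtAcyc.IsZeroAcyclic p := fun V F => by
  have : Flat (EtAcyc.prj p V) := inferInstanceAs (Flat (pullback.fst V.hom p))
  have : QuasiCompact (EtAcyc.prj p V) := inferInstanceAs (QuasiCompact (pullback.fst V.hom p))
  have : GeometricallyConnected (EtAcyc.prj p V) :=
    inferInstanceAs (GeometricallyConnected (pullback.fst V.hom p))
  exact isIso_unit _ F

end Groth.ZeroAcyclic
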