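import Groth.Agent.EtaleBase.BCZero.Scheme
import Groth.Agent.ZeroAcyclic.Connected
import Groth.Agent.ZeroAcyclic.UnitIso

/-!
A criterion for local zero acyclicity.
-/

set_option autoImplicit false
set_option linter.style.haveILetI false

universe u

open CategoryTheory CategoryTheory.Limits AlgebraicGeometry Opposite
open scoped TensorProduct

namespace Groth.ZeroAcyclic

open Groth.EtaleBase.BCZero (flat_map_strictHens)

variable {X S : Scheme.{u}} (f : X ⟶ S)

/-- The condition on the strict localisation at `x`, on an affine neighbourhood of `f x`. -/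
def NilUICAt (x : X) : Prop :=
  ∃ (U : S.Opens) (_ : IsAffineOpen U) (hxU : f.base x ∈ U),
    letI := ((f.stalkMap x).hom.comp (S.presheaf.germ U (f.base x) hxU).hom).toAlgebra
    NilUIC Γ(S, U) (X.presheaf.stalk x)

set_option maxHeartbeats 800000 in
/-- All base changes to fields of the map of strict localisations are connected. -/
theorem connected_of_nilUIC [Flat f] {x : X} (hx : NilUICAt f x) (RS : Type u) [CommRing RS] [IsLocalRing RS]
    [Algebra (S.presheaf.stalk (f.base x)) RS]
    [IsLocalHom (algebraMap (S.presheaf.stalk (f.base x)) RS)]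
    [hRS : Hensel.IsStrictHenselization (S.presheaf.stalk (f.base x)) RS]
    (RX : Type u) [CommRing RX] [IsLocalRing RX] [Algebra (X.presheaf.stalk x) RX]
    [IsLocalHom (algebraMap (X.presheaf.stalk x) RX)] [Hensel.IsStrictHenselization (X.presheaf.stalk x) RX]
    (ψ : RS →+* RX) [IsLocalHom ψ]
    (hψ : ψ.comp (algebraMap (S.presheaf.stalk (f.base x)) RS) =
      (algebraMap (X.presheaf.stalk x) RX).comp (f.stalkMap x).hom)
    (Ω : Type u) [Field Ω] (η : Spec (CommRingCat.of Ω) ⟶ Spec (CommRingCat.of RS)) :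
    ConnectedSpace ↥(pullback (Spec.map (CommRingCat.ofHom ψ)) η) := by
  obtain ⟨U, hU, hxU, hE⟩ := hx
  let A := Γ(S, U)
  let Bq := X.presheaf.stalk x
  let AP := S.presheaf.stalk (f.base x)
  letI : Algebra A AP := (S.presheaf.germ U (f.base x) hxU).hom.toAlgebra
  haveI : IsLocalization.AtPrime AP (hU.primeIdealOf ⟨f.base x, hxU⟩).asIdeal :=
    hU.isLocalization_stalk ⟨f.base x, hxU⟩
  letI : Algebra A Bq := ((f.stalkMap x).hom.comp (S.presheaf.germ U (f.base x) hxU).hom).toAlgebra
  letI : Algebra A RS := ((algebraMap AP RS).comp (algebraMap A AP)).toAlgebra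
  haveI : IsScalarTower A AP RS := IsScalarTower.of_algebraMap_eq fun _ => rfl
  letI : Algebra RS RX := ψ.toAlgebra
  letI : Algebra A RX := ((algebraMap RS RX).comp (algebraMap A RS)).toAlgebra
  haveI : IsScalarTower A RS RX := IsScalarTower.of_algebraMap_eq fun _ => rfl
  haveI : IsScalarTower A Bq RX := IsScalarTower.of_algebraMap_eq fun a => by
    show ψ (algebraMap AP RS (S.presheaf.germ U (f.base x) hxU a)) =
      algebraMap Bq RX (f.stalkMap x (S.presheaf.germ U (f.base x) hxU a))
    rw [← RingHom.comp_apply ψ, hψ, RingHom.comp_apply]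
  obtain ⟨MS⟩ := Groth.Hensel1.hensModel_of_isStrictHenselization (R := AP) (S := RS)
  haveI := Groth.EtaleDeep.IndEt.weaklyEtale (Groth.HensPair.isIndEtale_of_hensModel MS)
  haveI : Algebra.WeaklyEtale A AP :=
    Groth.FlatMor2.weaklyEtale_localization (hU.primeIdealOf ⟨f.base x, hxU⟩).asIdeal.primeCompl
  haveI : Algebra.WeaklyEtale A RS := Algebra.WeaklyEtale.trans A AP RS
  haveI : Module.Flat RS RX := flat_map_strictHens (f.stalkMap x).hom (Flat.stalkMap f x) RS RX ψ hψ
  haveI : IsLocalHom (algebraMap RS RX) := ‹IsLocalHom ψ›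
  haveI := hRS.henselian
  haveI : IsSepClosed (IsLocalRing.ResidueField RS) := hRS.isSepClosure.sep_closed
  obtain ⟨χ, rfl⟩ := Spec.map_surjective η
  letI : Algebra RS Ω := χ.hom.toAlgebra
  haveI : ConnectedSpace (PrimeSpectrum (Ω ⊗[RS] RX)) :=
    connectedSpace_tensor (A := A) (Bq := Bq) hE Ω
  have h1 : ConnectedSpace (PrimeSpectrum (RX ⊗[RS] Ω)) := by
    let h := PrimeSpectrum.homeomorphOfRingEquiv (Algebra.TensorProduct.comm RS Ω RX).toRingEquiv
    exact h.surjective.connectedSpace h.continuous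
  let h2 := (pullbackSpecIso RS RX Ω).inv.homeomorph
  haveI : ConnectedSpace ↥(Spec (CommRingCat.of (RX ⊗[RS] Ω))) := h1
  exact h2.surjective.connectedSpace h2.continuous

/-- A flat morphism satisfying the condition everywhere is locally zero acyclic. -/
theorem isLocZeroAcyclic_of_nilUIC [Flat f] (H : ∀ x, NilUICAt f x) : EtAcyc.IsLocZeroAcyclic f := by
  intro x RS RX _ _ _ _ _ _ _ _ _ _ _ hlh hψ
  let m := Spec.map (CommRingCat.ofHom (algebraMap RS RX))
  haveI : Flat m := by
    rw [HasRingHomProperty.Spec_iff (P := @Flat)]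
    exact flat_map_strictHens (f.stalkMap x).hom (Flat.stalkMap f x) RS RX (algebraMap RS RX) hψ
  haveI : GeometricallyConnected m := ⟨geometrically_iff_of_isClosedUnderIsomorphisms.mpr fun K _ η =>
    connected_of_nilUIC f (H x) RS RX (algebraMap RS RX) hψ K η⟩
  exact isZeroAcyclic m

end Groth.ZeroAcyclic
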