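import Groth.Agent.ZeroAcyclic.StrictLocal
import Groth.Agent.EtaleBase.Limit.StrictEval

/-!
Open subsets containing the base change to a strictly henselian local scheme contain the base change to
an étale neighbourhood.
-/

set_option autoImplicit false
set_option linter.style.haveILetI false

universe u

open CategoryTheory CategoryTheory.Limits AlgebraicGeometry Opposite IsLocalRing
open Groth.EtaleBase Groth.EtaleBase.EtLimit

namespace Groth.ZeroAcyclic

variable {S : Scheme.{u}} (R : Type u) [CommRing R] [HenselianLocalRing R] [IsSepClosed (ResidueField R)]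
  {Ω : Type u} [Field Ω] [IsSepClosed Ω] (ρ : R →+* Ω) [IsLocalHom ρ]
  (σ : Spec (CommRingCat.of R) ⟶ S) [WeaklyEtale σ] (η : Spec (CommRingCat.of Ω) ⟶ S) (hη : locPt R ρ ≫ σ = η)

omit [IsSepClosed (ResidueField R)] [IsSepClosed Ω] [IsLocalHom ρ] [WeaklyEtale σ] in
/-- A morphism from a local scheme through the local ring of the image of the closed point. -/
theorem specOf_stalkClosedPointTo :
    Spec.map (CommRingCat.ofHom (Scheme.stalkClosedPointTo σ).hom) ≫ S.fromSpecStalk (σ (closedPoint R)) = σ :=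
  Scheme.Spec_stalkClosedPointTo_fromSpecStalk σ

/-- Spectra of strictly henselian rings, weakly étale over a scheme, are limits of étale
neighbourhoods. -/
theorem exists_limit_system :
    ∃ (ι : Type u) (_ : PartialOrder ι) (_ : IsDirectedOrder ι) (_ : Nonempty ι) (K : ι ⥤ (Nbhd η)ᵒᵖ),
      (∀ i, IsAffine (K.obj i).unop.1.left) ∧ Nonempty (IsLimit (liftCone R ρ σ η hη K)) := by
  obtain ⟨ι, _, _, _, K, _, hK⟩ := exists_affine_system η
  let s := σ (closedPoint R)
  let α : S.presheaf.stalk s ⟶ CommRingCat.of R := Scheme.stalkClosedPointTo σ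
  letI : Algebra (S.presheaf.stalk s) R := α.hom.toAlgebra
  haveI : IsLocalHom (algebraMap (S.presheaf.stalk s) R) := inferInstanceAs (IsLocalHom α.hom)
  haveI : Algebra.WeaklyEtale (S.presheaf.stalk s) R := by
    refine Groth.FlatMor2.isWeaklyEtaleHom_iff.1 ?_
    exact ((Groth.FlatMor2.weaklyEtale_iff_stalkMap σ).1 ‹_› _).comp
      (Groth.FlatMor2.IsWeaklyEtaleHom.of_bijective
        (stalkClosedPointIso (CommRingCat.of R)).commRingCatIsoToRingEquiv.bijective)
  haveI := isStrictHenselization_of_self (R := R) (S.presheaf.stalk s)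
  have he : Hens2.specOf S s R = σ := specOf_stalkClosedPointTo R σ
  refine ⟨ι, inferInstance, inferInstance, inferInstance, K, hK, ?_⟩
  have hη' : locPt R ρ ≫ Hens2.specOf S s R = η := by rw [he]; exact hη
  have key : ∀ (σ' : Spec (CommRingCat.of R) ⟶ S) (hη'' : locPt R ρ ≫ σ' = η), Hens2.specOf S s R = σ' →
      Nonempty (IsLimit (liftCone R ρ σ' η hη'' K)) := by
    rintro _ _ rfl
    exact ⟨isLimitLiftCone R ρ η hη' K⟩
  exact key σ hη he

variable {T : Scheme.{u}} (g : T ⟶ S) [QuasiCompact g] [QuasiSeparated g]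

omit [WeaklyEtale σ] [QuasiCompact g] [QuasiSeparated g] in
/-- The map from the base change to a neighbourhood. -/
noncomputable abbrev toNbhd (V : S.Etale) (t : (Scheme.pointSmallEtale η).fiber.obj V) :
    pullback g σ ⟶ ((EtCoh.bc g).obj V).left :=
  evPt g R ρ σ η hη (pullback.fst g σ) (pullback.snd g σ) pullback.condition V t

include ρ hη in
/-- An open containing the base change to the strictly henselian scheme contains the base change to a
neighbourhood. -/
theorem exists_nbhd_top (A : T.Opens) (hA : ∀ z : ↥(pullback g σ), pullback.fst g σ z ∈ A) :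
    ∃ (V : S.Etale) (_ : (Scheme.pointSmallEtale η).fiber.obj V), IsAffine V.left ∧
      ∀ y : ↥(pullback V.hom g), pullback.snd V.hom g y ∈ A := by
  obtain ⟨ι, _, _, _, K, hK, ⟨hlim⟩⟩ := exists_limit_system R ρ σ η hη
  let Vs := nbhdSystem η K
  haveI : ∀ p : ιᵒᵖ, IsAffine (Vs.obj p).left := fun p => hK p.unop
  let c := bcCone g Vs (liftCone R ρ σ η hη K) σ (liftCone_hom R ρ σ η hη K)
  have hc : IsLimit c := isLimitBcCone g Vs _ σ _ hlim
  let i₀ : ι := Classical.arbitrary ι
  obtain ⟨j, a, ha⟩ := exists_map_eq_top (schemes (Vs ⋙ EtCoh.bc g)) c hc (i := op i₀)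
    (struct (Vs ⋙ EtCoh.bc g) i₀ ⁻¹ᵁ A) (top_le_iff.1 fun z _ => by
      show struct (Vs ⋙ EtCoh.bc g) i₀ (c.π.app (op i₀) z) ∈ A
      rw [← Scheme.Hom.comp_apply, bcCone_struct]
      exact hA z)
  refine ⟨Vs.obj j, (K.obj j.unop).unop.2, inferInstance, fun y => ?_⟩
  have h1 : y ∈ (schemes (Vs ⋙ EtCoh.bc g)).map a ⁻¹ᵁ (struct (Vs ⋙ EtCoh.bc g) i₀ ⁻¹ᵁ A) :=
    ha ▸ TopologicalSpace.Opens.mem_top y
  have h2 : (schemes (Vs ⋙ EtCoh.bc g)).map a ≫ struct (Vs ⋙ EtCoh.bc g) i₀ = pullback.snd (Vs.obj j).hom g :=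
    MorphismProperty.Over.w ((Vs ⋙ EtCoh.bc g).map a)
  exact Set.mem_of_eq_of_mem (congrArg (fun k : pullback (Vs.obj j).hom g ⟶ T => k y) h2).symm h1

/-- Relative form. -/
theorem exists_nbhd_le (V : S.Etale) (t : (Scheme.pointSmallEtale η).fiber.obj V)
    (A : (pullback V.hom g).Opens) (hA : ∀ z : ↥(pullback g σ), toNbhd R ρ σ η hη g V t z ∈ A) :
    ∃ (V' : S.Etale) (d : V' ⟶ V) (t' : (Scheme.pointSmallEtale η).fiber.obj V'),
      (Scheme.pointSmallEtale η).fiber.map d t' = t ∧ IsAffine V'.left ∧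
      ∀ y : ((EtCoh.bc g).obj V').left, ((EtCoh.bc g).map d).left y ∈ A := by
  haveI : Etale V.hom := V.prop
  let σV := locLift R ρ σ η hη V t
  haveI : WeaklyEtale (σV ≫ V.hom) := by rw [locLift_hom]; infer_instance
  haveI : WeaklyEtale σV := WeaklyEtale.of_comp σV V.hom
  let gV := pullback.fst V.hom g
  have hA' : ∀ z : ↥(pullback gV σV), pullback.fst gV σV z ∈ A := fun z => by
    let m : pullback gV σV ⟶ pullback g σ :=
      pullback.lift (pullback.fst gV σV ≫ pullback.snd V.hom g) (pullback.snd gV σV) (by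
        rw [Category.assoc, ← pullback.condition, pullback.condition_assoc, locLift_hom])
    have hm : m ≫ toNbhd R ρ σ η hη g V t = pullback.fst gV σV := by
      apply pullback.hom_ext
      · refine (Category.assoc _ _ _).trans ((congrArg (m ≫ ·) (pullback.lift_fst _ _ _)).trans ?_)
        exact (Category.assoc _ _ _).symm.trans ((congrArg (· ≫ σV) (pullback.lift_snd _ _ _)).trans
          pullback.condition.symm)
      · exact (Category.assoc _ _ _).trans ((congrArg (m ≫ ·) (pullback.lift_snd _ _ _)).trans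
          (pullback.lift_fst _ _ _))
    exact Set.mem_of_eq_of_mem (congrArg (fun k : pullback gV σV ⟶ pullback V.hom g => k z) hm).symm (hA (m z))
  obtain ⟨V₁, t₁, haff, h⟩ := exists_nbhd_top R ρ σV t.left (locPt_locLift R ρ σ η hη V t) gV A hA'
  haveI : Etale V₁.hom := V₁.prop
  let V' : S.Etale := Scheme.Etale.mk (V₁.hom ≫ V.hom)
  let d : V' ⟶ V := MorphismProperty.Over.homMk V₁.hom rfl
  let t' : (Scheme.pointSmallEtale η).fiber.obj V' := Over.homMk t₁.left
    ((Category.assoc _ _ _).symm.trans ((congrArg (· ≫ V.hom) (Over.w t₁)).trans (Over.w t)))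
  refine ⟨V', d, t', Over.OverMorphism.ext (Over.w t₁), haff, fun y => ?_⟩
  let l : pullback (V₁.hom ≫ V.hom) g ⟶ pullback V₁.hom gV :=
    pullback.lift (pullback.fst _ _) ((EtCoh.bc g).map d).left (by
      exact (pullback.lift_fst _ _ _).symm)
  have e : l ≫ pullback.snd V₁.hom gV = ((EtCoh.bc g).map d).left := pullback.lift_snd _ _ _
  exact Set.mem_of_eq_of_mem (congrArg (fun k : pullback (V₁.hom ≫ V.hom) g ⟶ pullback V.hom g => k y) e).symm
    (h (l y))

include ρ hη in
/-- Quasi-compact opens of the base change come from neighbourhoods. -/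
theorem exists_open_stage (O : (pullback g σ).Opens) (hO : IsCompact (O : Set ↥(pullback g σ))) :
    ∃ (V : S.Etale) (t : (Scheme.pointSmallEtale η).fiber.obj V) (E : (pullback V.hom g).Opens),
      IsAffine V.left ∧ IsCompact (E : Set ↥(pullback V.hom g)) ∧
      ∀ z : ↥(pullback g σ), toNbhd R ρ σ η hη g V t z ∈ E ↔ z ∈ O := by
  obtain ⟨ι, _, _, _, K, hK, ⟨hlim⟩⟩ := exists_limit_system R ρ σ η hη
  let Vs := nbhdSystem η K
  haveI : ∀ p : ιᵒᵖ, IsAffine (Vs.obj p).left := fun p => hK p.unop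
  let c := bcCone g Vs (liftCone R ρ σ η hη K) σ (liftCone_hom R ρ σ η hη K)
  have hc : IsLimit c := isLimitBcCone g Vs _ σ _ hlim
  obtain ⟨j, E, hEc, hE⟩ := exists_preimage_eq (schemes (Vs ⋙ EtCoh.bc g)) c hc O hO
  exact ⟨Vs.obj j, (K.obj j.unop).unop.2, E, inferInstance, hEc, fun z => SetLike.ext_iff.1 hE z⟩

omit [WeaklyEtale σ] in
/-- A common affine refinement of finitely many neighbourhoods. -/
theorem exists_common_nbhd {ι : Type u} [Finite ι] (V : ι → S.Etale)
    (t : ∀ i, (Scheme.pointSmallEtale η).fiber.obj (V i)) :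
    ∃ (V' : S.Etale) (t' : (Scheme.pointSmallEtale η).fiber.obj V') (d : ∀ i, V' ⟶ V i),
      IsAffine V'.left ∧ ∀ i, (Scheme.pointSmallEtale η).fiber.map (d i) t' = t i := by
  classical
  cases nonempty_fintype ι
  obtain ⟨e, he⟩ := IsCofiltered.inf_objs_exists (C := Nbhd η)
    (Finset.univ.image fun i => Functor.elementsMk _ (V i) (t i))
  obtain ⟨e', haff, ⟨r⟩⟩ := exists_affine_nbhd_le η e
  let a : ∀ i, e' ⟶ Functor.elementsMk _ (V i) (t i) := fun i =>
    r ≫ (he (Finset.mem_image.2 ⟨i, Finset.mem_univ i, rfl⟩)).some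
  exact ⟨e'.1, e'.2, fun i => (a i).1, haff, fun i => (a i).2⟩

end Groth.ZeroAcyclic
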