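import Groth.Agent.ZeroAcyclic.Stage
import Groth.Agent.EtaleShriek.BCCriterion

/-!
Sections of inverse images on base changes to strictly henselian schemes come from neighbourhoods.
-/

set_option autoImplicit false
set_option backward.isDefEq.respectTransparency.types false
set_option linter.style.haveILetI false
set_option linter.unusedSectionVars false

universe u

open CategoryTheory CategoryTheory.Limits AlgebraicGeometry Opposite IsLocalRing
open Groth.EtaleBase Groth.EtaleBase.EtLimit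

namespace Groth.ZeroAcyclic

attribute [local simp] pullback.lift_fst pullback.lift_snd pullback.lift_fst_assoc pullback.lift_snd_assoc

open Groth.EtaleShriek.FlatConnBC
open Groth.EtaleShriek.BCSets (sg sg_res P2 pr₁ pr₂ agree mem_agree_iff)
open Groth.DescentBase (shSection_ext shGerm_eq_iff_mem)

/-- Sections on a covering family agreeing at all geometric points of the overlaps glue. -/
theorem exists_glue_points {T : Scheme.{u}} (F : EtDesc.Sh T) {B : T.Etale} {ι : Type u} (W : ι → T.Etale)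
    (b : ∀ i, W i ⟶ B) (hcov : ∀ z : B.left, ∃ i v, (b i).left v = z) (τ : ∀ i, F.obj.obj (op (W i)))
    (hag : ∀ (i j : ι) (K : Type u) [Field K] [IsSepClosed K] (li : Spec (CommRingCat.of K) ⟶ (W i).left)
      (lj : Spec (CommRingCat.of K) ⟶ (W j).left) (h : lj ≫ (W j).hom = li ≫ (W i).hom),
      li ≫ (b i).left = lj ≫ (b j).left →
      sg F (li ≫ (W i).hom) (W i) li rfl (τ i) = sg F (li ≫ (W i).hom) (W j) lj h (τ j)) :
    ∃ s : F.obj.obj (op B), ∀ i, F.obj.map (b i).op s = τ i := by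
  have hJ : Sieve.generate (Presieve.ofArrows W b) ∈ T.smallEtaleTopology B := by
    rw [mem_topology_iff]
    intro z
    obtain ⟨i, v, hv⟩ := hcov z
    exact ⟨_, b i, v, Sieve.le_generate _ _ _ (Presieve.ofArrows.mk i), hv⟩
  have hF := ((isSheaf_iff_isSheaf_of_type _ _).1 F.property) _ hJ
  rw [← Presieve.isSheafFor_iff_generate, Presieve.isSheafFor_arrows_iff] at hF
  refine (hF τ fun i j Z ga gb he => shSection_ext F Z _ _ fun z => ?_).exists
  let ζ := geomPoint z
  let li := ζ ≫ ga.left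
  let lj := ζ ≫ gb.left
  have hi : ζ ≫ Z.hom = li ≫ (W i).hom :=
    ((congrArg (ζ ≫ ·) (MorphismProperty.Over.w ga)).symm.trans (Category.assoc _ _ _).symm)
  have hj : lj ≫ (W j).hom = li ≫ (W i).hom :=
    ((Category.assoc _ _ _).trans (congrArg (ζ ≫ ·) (MorphismProperty.Over.w gb))).trans hi
  have e := hag i j _ li lj hj ((Category.assoc _ _ _).trans
    ((congrArg (ζ ≫ ·) (congrArg (fun k : Z ⟶ B => k.left) he)).trans (Category.assoc _ _ _).symm))
  rw [← sg_res F _ ga ζ hi li rfl rfl (τ i), ← sg_res F _ gb ζ hi lj hj rfl (τ j)] at e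
  have h1 := (shGerm_eq_iff_mem _ F Z _ _ (Over.homMk ζ hi)).1 e
  exact Set.mem_of_eq_of_mem (geomPoint_apply z _).symm h1

variable {S : Scheme.{u}} (R : Type u) [CommRing R] [HenselianLocalRing R] [IsSepClosed (ResidueField R)]
  {Ω : Type u} [Field Ω] [IsSepClosed Ω] (ρ : R →+* Ω) [IsLocalHom ρ]
  (σ : Spec (CommRingCat.of R) ⟶ S) [WeaklyEtale σ] (η : Spec (CommRingCat.of Ω) ⟶ S) (hη : locPt R ρ ≫ σ = η)
  {T : Scheme.{u}} (g : T ⟶ S) [QuasiCompact g] [QuasiSeparated g] (F : EtDesc.Sh T)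
  (y : ((EtDesc.pullSh (pullback.fst g σ)).obj F).obj.obj (op (EtCoh.top (pullback g σ))))

/-- `τ` gives the values of `y` at the points of `W`. -/
def Valid (V : S.Etale) (t : (Scheme.pointSmallEtale η).fiber.obj V) {W : T.Etale}
    (b : W ⟶ (EtCoh.bc g).obj V) (τ : F.obj.obj (op W)) : Prop :=
  ∀ (K : Type u) [Field K] [IsSepClosed K] (pt : Spec (CommRingCat.of K) ⟶ pullback g σ)
    (l : Spec (CommRingCat.of K) ⟶ W.left), l ≫ b.left = pt ≫ toNbhd R ρ σ η hη g V t →
    Rel (pullback.fst g σ) F y pt W l τ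

set_option maxHeartbeats 1600000 in
/-- Near each point the section comes from a neighbourhood. -/
theorem exists_piece (p : ↥(pullback g σ)) :
    ∃ (V : S.Etale) (t : (Scheme.pointSmallEtale η).fiber.obj V) (W : T.Etale)
      (b : W ⟶ (EtCoh.bc g).obj V) (τ : F.obj.obj (op W)),
      IsAffine V.left ∧ CompactSpace W.left ∧ QuasiSeparatedSpace W.left ∧
      Valid R ρ σ η hη g F y V t b τ ∧ ∃ w : W.left, b.left w = toNbhd R ρ σ η hη g V t p := by
  let aS := pullback.fst g σ
  let ζ := geomPoint p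
  obtain ⟨W, gW, l, τ, hl, hR⟩ := exists_rel (e := aS) y (V := EtCoh.top T) aS
    ((Category.comp_id _).trans (Category.id_comp _).symm) ζ
  obtain ⟨V₀, t₀, hV₀, -⟩ := exists_nbhd_top R ρ σ η hη g ⊤ fun _ => trivial
  haveI : Etale V₀.hom := V₀.prop
  let T₀ := (EtCoh.bc g).obj V₀
  let ζ₀ : Spec (CommRingCat.of _) ⟶ T₀.left := ζ ≫ toNbhd R ρ σ η hη g V₀ t₀
  have hζ₀ : ζ₀ ≫ T₀.hom = ζ ≫ aS :=
    (Category.assoc _ _ _).trans (congrArg (ζ ≫ ·) (evPt_hom g R ρ σ η hη aS _ pullback.condition V₀ t₀))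
  have hl₀ : l ≫ W.hom = ζ ≫ aS := hR.1.trans (congrArg (· ≫ aS) (Category.comp_id ζ))
  let l₀ : Spec (CommRingCat.of _) ⟶ (P2 W T₀).left := pullback.lift l ζ₀ (hl₀.trans hζ₀.symm)
  have hR₀ : Rel aS F y ζ (P2 W T₀) l₀ (F.obj.map (pr₁ W T₀).op τ) := by
    rw [rel_res]
    exact (congrArg (fun a => Rel aS F y ζ W a τ) (pullback.lift_fst _ _ _)).mpr hR
  obtain ⟨O, hO, hmem⟩ : ∃ O : (P2 W T₀).left.Opens, IsAffineOpen O ∧ l₀ default ∈ O := by
    obtain ⟨_, ⟨O, hO, rfl⟩, hmem, -⟩ := (P2 W T₀).left.isBasis_affineOpens.exists_subset_of_mem_open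
      (Set.mem_univ (l₀ default)) isOpen_univ
    exact ⟨O, hO, hmem⟩
  let W₁ := openObj (P2 W T₀) O
  haveI : IsAffine W₁.left := hO
  let τ₁ := F.obj.map (openHom (P2 W T₀) O).op (F.obj.map (pr₁ W T₀).op τ)
  let a₁ : W₁ ⟶ T₀ := openHom (P2 W T₀) O ≫ pr₂ W T₀
  have hr : Set.range l₀ ⊆ Set.range O.ι := by
    rintro _ ⟨s, rfl⟩
    rw [Scheme.Opens.range_ι, Subsingleton.elim s default]
    exact hmem
  haveI : IsOpenImmersion (openHom (P2 W T₀) O).left :=
    inferInstanceAs (IsOpenImmersion (Scheme.Opens.ι (X := (P2 W T₀).left) O))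
  let l₁ : Spec (CommRingCat.of _) ⟶ W₁.left := IsOpenImmersion.lift (openHom (P2 W T₀) O).left l₀ hr
  have hl₁ : l₁ ≫ (openHom (P2 W T₀) O).left = l₀ := IsOpenImmersion.lift_fac _ _ hr
  have hR₁ : Rel aS F y ζ W₁ l₁ τ₁ := by
    rw [rel_res]
    exact (congrArg (fun a => Rel aS F y ζ (P2 W T₀) a _) hl₁).mpr hR₀
  have hla : l₁ ≫ a₁.left = ζ₀ :=
    (Category.assoc _ _ _).symm.trans ((congrArg (· ≫ (pr₂ W T₀).left) hl₁).trans (pullback.lift_snd _ _ _))
  -- over the neighbourhood
  haveI := hV₀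
  let σ₀ := locLift R ρ σ η hη V₀ t₀
  haveI : WeaklyEtale (σ₀ ≫ V₀.hom) := by rw [locLift_hom]; infer_instance
  haveI : WeaklyEtale σ₀ := WeaklyEtale.of_comp σ₀ V₀.hom
  have hη₀ : locPt R ρ ≫ σ₀ = t₀.left := locPt_locLift R ρ σ η hη V₀ t₀
  let h : W₁.left ⟶ V₀.left := a₁.left ≫ pullback.fst V₀.hom g
  have hh : h ≫ V₀.hom = W₁.hom ≫ g :=
    (Category.assoc _ _ _).trans ((congrArg (a₁.left ≫ ·) pullback.condition).trans
      ((Category.assoc _ _ _).symm.trans (congrArg (· ≫ g) (MorphismProperty.Over.w a₁))))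
  let q : pullback h σ₀ ⟶ pullback g σ := pullback.lift (pullback.fst _ _ ≫ W₁.hom) (pullback.snd _ _) (by
    rw [Category.assoc, ← hh, pullback.condition_assoc, locLift_hom])
  have hq : q ≫ toNbhd R ρ σ η hη g V₀ t₀ = pullback.fst h σ₀ ≫ a₁.left := by
    apply pullback.hom_ext
    · refine ((Category.assoc _ _ _).trans (congrArg (q ≫ ·) (pullback.lift_fst _ _ _))).trans ?_
      refine ((Category.assoc _ _ _).symm.trans (congrArg (· ≫ σ₀) (pullback.lift_snd _ _ _))).trans ?_
      exact pullback.condition.symm.trans (Category.assoc _ _ _).symm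
    · refine ((Category.assoc _ _ _).trans (congrArg (q ≫ ·) (pullback.lift_snd _ _ _))).trans ?_
      refine (pullback.lift_fst _ _ _).trans ?_
      exact ((Category.assoc _ _ _).trans (congrArg (pullback.fst h σ₀ ≫ ·) (MorphismProperty.Over.w a₁))).symm
  have hμ : toNbhd R ρ σ η hη g V₀ t₀ ≫ T₀.hom = (EtCoh.top (pullback g σ)).hom ≫ aS :=
    (evPt_hom g R ρ σ η hη aS _ pullback.condition V₀ t₀).trans (Category.id_comp _).symm
  let n : pullback h σ₀ ⟶ pullback (toNbhd R ρ σ η hη g V₀ t₀) a₁.left := pullback.lift q (pullback.fst h σ₀) hq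
  let L : (pullback h σ₀).Opens := n ⁻¹ᵁ loc aS F y (toNbhd R ρ σ η hη g V₀ t₀) hμ a₁ τ₁
  let z₁ : Spec (CommRingCat.of _) ⟶ pullback h σ₀ := pullback.lift l₁ (ζ ≫ pullback.snd g σ) (by
    refine (Category.assoc _ _ _).symm.trans ((congrArg (· ≫ pullback.fst V₀.hom g) hla).trans ?_)
    exact ((Category.assoc _ _ _).trans (congrArg (ζ ≫ ·) (pullback.lift_fst _ _ _))).trans (Category.assoc _ _ _).symm)
  have hz₁q : z₁ ≫ q = ζ := by
    apply pullback.hom_ext
    · refine ((Category.assoc _ _ _).trans (congrArg (z₁ ≫ ·) (pullback.lift_fst _ _ _))).trans ?_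
      refine ((Category.assoc _ _ _).symm.trans (congrArg (· ≫ W₁.hom) (pullback.lift_fst _ _ _))).trans ?_
      exact hR₁.1.trans (congrArg (· ≫ aS) (Category.comp_id ζ))
    · exact ((Category.assoc _ _ _).trans (congrArg (z₁ ≫ ·) (pullback.lift_snd _ _ _))).trans
        (pullback.lift_snd _ _ _)
  have hzL : z₁ default ∈ L := by
    have := (mem_loc_iff aS F y (toNbhd R ρ σ η hη g V₀ t₀) hμ a₁ τ₁ (z₁ ≫ n) ζ l₁
      ((Category.assoc _ _ _).trans ((congrArg (z₁ ≫ ·) (pullback.lift_fst _ _ _)).trans hz₁q))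
      ((Category.assoc _ _ _).trans ((congrArg (z₁ ≫ ·) (pullback.lift_snd _ _ _)).trans
        (pullback.lift_fst _ _ _)))).2 hR₁
    exact this
  obtain ⟨_, ⟨O₁, hO₁, rfl⟩, hz₁O, hO₁L⟩ :=
    (pullback h σ₀).isBasis_affineOpens.exists_subset_of_mem_open hzL L.isOpen
  haveI : QuasiSeparatedSpace ↥(W₁.left) := inferInstance
  haveI : QuasiSeparated h := inferInstance
  haveI : QuasiCompact h := inferInstance
  obtain ⟨V₁, t₁, E, hV₁, hEc, hE⟩ := exists_open_stage R ρ σ₀ t₀.left hη₀ h O₁ hO₁.isCompact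
  haveI := hV₁
  haveI : Etale V₁.hom := V₁.prop
  haveI : Etale W₁.hom := W₁.prop
  let V : S.Etale := Scheme.Etale.mk (V₁.hom ≫ V₀.hom)
  let d : V ⟶ V₀ := MorphismProperty.Over.homMk V₁.hom rfl
  let t : (Scheme.pointSmallEtale η).fiber.obj V := Over.homMk t₁.left
    ((Category.assoc _ _ _).symm.trans ((congrArg (· ≫ V₀.hom) (Over.w t₁)).trans (Over.w t₀)))
  have ht : (Scheme.pointSmallEtale η).fiber.map d t = t₀ := Over.OverMorphism.ext (Over.w t₁)
  let W₂ : T.Etale := Scheme.Etale.mk ((E.ι ≫ pullback.snd V₁.hom h) ≫ W₁.hom)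
  let r : W₂ ⟶ W₁ := MorphismProperty.Over.homMk (E.ι ≫ pullback.snd V₁.hom h) rfl
  let lE : pullback V₁.hom h ⟶ ((EtCoh.bc g).obj V).left :=
    pullback.lift (pullback.fst V₁.hom h) (pullback.snd V₁.hom h ≫ W₁.hom) (by
      show pullback.fst V₁.hom h ≫ V₁.hom ≫ V₀.hom = _
      rw [pullback.condition_assoc, hh, Category.assoc])
  have hlE₁ : lE ≫ pullback.fst V.hom g = pullback.fst V₁.hom h := pullback.lift_fst _ _ _
  have hlE₂ : lE ≫ pullback.snd V.hom g = pullback.snd V₁.hom h ≫ W₁.hom := pullback.lift_snd _ _ _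
  let b : W₂ ⟶ (EtCoh.bc g).obj V := MorphismProperty.Over.homMk (E.ι ≫ lE)
    ((Category.assoc _ _ _).trans ((congrArg (E.ι ≫ ·) hlE₂).trans (Category.assoc _ _ _).symm))
  have hlift : locLift R ρ σ η hη V t = locLift R ρ σ₀ t₀.left hη₀ V₁ t₁ := by
    haveI : Etale (V₁.hom ≫ V₀.hom) := inferInstance
    refine lift_ext R ρ σ (V₁.hom ≫ V₀.hom) (locLift_hom R ρ σ η hη V t)
      ((Category.assoc _ _ _).symm.trans ((congrArg (· ≫ V₀.hom) (locLift_hom R ρ σ₀ t₀.left hη₀ V₁ t₁)).trans
        (locLift_hom R ρ σ η hη V₀ t₀)))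
      ((locPt_locLift R ρ σ η hη V t).trans (locPt_locLift R ρ σ₀ t₀.left hη₀ V₁ t₁).symm)
  -- points over the stage
  have hpts : ∀ (K : Type u) [Field K] [IsSepClosed K] (pt : Spec (CommRingCat.of K) ⟶ pullback g σ)
      (l' : Spec (CommRingCat.of K) ⟶ W₁.left) (hc : l' ≫ h = (pt ≫ pullback.snd g σ) ≫ σ₀),
      pullback.lift (f := V₁.hom) (g := h) ((pt ≫ pullback.snd g σ) ≫ locLift R ρ σ η hη V t) l'
        (by rw [hlift, Category.assoc _ (locLift R ρ σ₀ t₀.left hη₀ V₁ t₁), locLift_hom]; exact hc.symm) =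
        pullback.lift l' (pt ≫ pullback.snd g σ) hc ≫ toNbhd R ρ σ₀ t₀.left hη₀ h V₁ t₁ := by
    intro K _ _ pt l' hc
    apply pullback.hom_ext
    · rw [pullback.lift_fst, hlift]
      exact (((Category.assoc _ _ _).trans (congrArg (_ ≫ ·) (pullback.lift_fst _ _ _))).trans
        ((Category.assoc _ _ _).symm.trans (congrArg (· ≫ locLift R ρ σ₀ t₀.left hη₀ V₁ t₁)
          (pullback.lift_snd _ _ _)))).symm
    · rw [pullback.lift_snd]
      exact (((Category.assoc _ _ _).trans (congrArg (_ ≫ ·) (pullback.lift_snd _ _ _))).trans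
        (pullback.lift_fst _ _ _)).symm
  haveI : CompactSpace ↥W₂.left := isCompact_iff_compactSpace.1 hEc
  haveI : QuasiSeparated (pullback.fst V₁.hom h) := MorphismProperty.pullback_fst _ _ ‹_›
  haveI hqs₁ : QuasiSeparatedSpace ↥V₁.left := inferInstance
  haveI : QuasiSeparatedSpace ↥((𝟭 Scheme).obj V₁.left) := hqs₁
  haveI : QuasiSeparatedSpace ↥(pullback V₁.hom h) := quasiSeparatedSpace_of_quasiSeparated (pullback.fst V₁.hom h)
  haveI : QuasiSeparatedSpace ↥W₂.left :=
    E.ι.isOpenEmbedding.quasiSeparatedSpace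
  refine ⟨V, t, W₂, b, F.obj.map r.op τ₁, hV₁, inferInstance, inferInstance, ?_, ?_⟩
  · intro K _ _ pt l' hl'
    rw [rel_res]
    let lw := l' ≫ r.left
    have hb : l' ≫ b.left = (l' ≫ E.ι) ≫ lE := (Category.assoc _ _ _).symm
    have hb₂ : (l' ≫ b.left) ≫ pullback.snd V.hom g = lw ≫ W₁.hom := by
      rw [hb]
      refine (Category.assoc _ _ _).trans ((congrArg ((l' ≫ E.ι) ≫ ·) hlE₂).trans ?_)
      refine (Category.assoc _ _ _).symm.trans (congrArg (· ≫ W₁.hom) ?_)
      exact Category.assoc _ _ _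
    have hb₁ : (l' ≫ b.left) ≫ pullback.fst V.hom g = (l' ≫ E.ι) ≫ pullback.fst V₁.hom h := by
      rw [hb]
      exact (Category.assoc _ _ _).trans (congrArg ((l' ≫ E.ι) ≫ ·) hlE₁)
    have hp₁ : (pt ≫ toNbhd R ρ σ η hη g V t) ≫ pullback.fst V.hom g =
        (pt ≫ pullback.snd g σ) ≫ locLift R ρ σ η hη V t :=
      ((Category.assoc _ _ _).trans (congrArg (pt ≫ ·) (pullback.lift_fst _ _ _))).trans
        (Category.assoc _ _ _).symm
    rw [hl'] at hb₁ hb₂
    rw [hp₁] at hb₁
    have hc : lw ≫ h = (pt ≫ pullback.snd g σ) ≫ σ₀ := by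
      have hrl : lw = (l' ≫ E.ι) ≫ pullback.snd V₁.hom h := (Category.assoc _ _ _).symm
      have h2 : ((l' ≫ E.ι) ≫ pullback.snd V₁.hom h) ≫ h =
          ((l' ≫ E.ι) ≫ pullback.fst V₁.hom h) ≫ V₁.hom :=
        (Category.assoc _ _ _).trans ((congrArg ((l' ≫ E.ι) ≫ ·) pullback.condition.symm).trans
          (Category.assoc _ _ _).symm)
      rw [hrl, h2, ← hb₁, hlift]
      exact (Category.assoc _ _ _).trans
        (congrArg ((pt ≫ pullback.snd g σ) ≫ ·) (locLift_hom R ρ σ₀ t₀.left hη₀ V₁ t₁))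
    have hz : pullback.lift lw (pt ≫ pullback.snd g σ) hc ≫ toNbhd R ρ σ₀ t₀.left hη₀ h V₁ t₁ = l' ≫ E.ι := by
      rw [← hpts K pt lw hc]
      apply pullback.hom_ext
      · rw [pullback.lift_fst]; exact hb₁
      · rw [pullback.lift_snd]; exact (Category.assoc _ _ _).symm
    have hmemE : toNbhd R ρ σ₀ t₀.left hη₀ h V₁ t₁ (pullback.lift lw (pt ≫ pullback.snd g σ) hc default) ∈ E := by
      refine Set.mem_of_eq_of_mem (congrArg (fun k : Spec (CommRingCat.of K) ⟶ pullback V₁.hom h => k default) hz) ?_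
      show E.ι (l' default) ∈ E
      exact (l' default).2
    have hptq : pullback.lift lw (pt ≫ pullback.snd g σ) hc ≫ q = pt := by
      apply pullback.hom_ext
      · refine ((Category.assoc _ _ _).trans (congrArg (_ ≫ ·) (pullback.lift_fst _ _ _))).trans ?_
        refine ((Category.assoc _ _ _).symm.trans (congrArg (· ≫ W₁.hom) (pullback.lift_fst _ _ _))).trans ?_
        refine hb₂.symm.trans ?_
        exact (Category.assoc _ _ _).trans (congrArg (pt ≫ ·) (pullback.lift_snd _ _ _))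
      · exact ((Category.assoc _ _ _).trans (congrArg (_ ≫ ·) (pullback.lift_snd _ _ _))).trans
          (pullback.lift_snd _ _ _)
    refine (mem_loc_iff aS F y (toNbhd R ρ σ η hη g V₀ t₀) hμ a₁ τ₁
      (pullback.lift lw (pt ≫ pullback.snd g σ) hc ≫ n) pt lw
      ((Category.assoc _ _ _).trans ((congrArg (_ ≫ ·) (pullback.lift_fst _ _ _)).trans hptq))
      ((Category.assoc _ _ _).trans ((congrArg (_ ≫ ·) (pullback.lift_snd _ _ _)).trans
        (pullback.lift_fst _ _ _)))).1 ?_
    exact hO₁L ((hE _).1 hmemE)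
  · let w : Spec (CommRingCat.of _) ⟶ pullback V₁.hom h := z₁ ≫ toNbhd R ρ σ₀ t₀.left hη₀ h V₁ t₁
    have hw : w default ∈ E := (hE _).2 hz₁O
    refine ⟨⟨w default, hw⟩, ?_⟩
    have hwb : w ≫ lE = ζ ≫ toNbhd R ρ σ η hη g V t := by
      apply pullback.hom_ext
      · refine ((Category.assoc _ _ _).trans (congrArg (w ≫ ·) hlE₁)).trans ?_
        refine ((Category.assoc _ _ _).trans (congrArg (z₁ ≫ ·) (pullback.lift_fst _ _ _))).trans ?_
        refine ((Category.assoc _ _ _).symm.trans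
          (congrArg (· ≫ locLift R ρ σ₀ t₀.left hη₀ V₁ t₁) (pullback.lift_snd _ _ _))).trans ?_
        refine Eq.trans ?_ ((Category.assoc _ _ _).trans (congrArg (ζ ≫ ·) (pullback.lift_fst _ _ _))).symm
        exact (Category.assoc _ _ _).trans (congrArg (fun k => ζ ≫ pullback.snd g σ ≫ k) hlift.symm)
      · refine ((Category.assoc _ _ _).trans (congrArg (w ≫ ·) hlE₂)).trans ?_
        refine ((Category.assoc _ _ _).symm.trans (congrArg (· ≫ W₁.hom)
          (((Category.assoc _ _ _).trans (congrArg (z₁ ≫ ·) (pullback.lift_snd _ _ _))).trans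
            (pullback.lift_fst _ _ _)))).trans ?_
        refine Eq.trans ?_ ((Category.assoc _ _ _).trans (congrArg (ζ ≫ ·) (pullback.lift_snd _ _ _))).symm
        exact hR₁.1.trans (congrArg (· ≫ aS) (Category.comp_id ζ))
    show lE (w default) = _
    rw [← Scheme.Hom.comp_apply]
    refine (congrArg (fun k : Spec (CommRingCat.of _) ⟶ ((EtCoh.bc g).obj V).left => k default) hwb).trans ?_
    exact (Scheme.Hom.comp_apply ζ _ _).trans (congrArg _ (geomPoint_apply p _))


omit [WeaklyEtale σ] [QuasiCompact g] [QuasiSeparated g] in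
/-- Points over a neighbourhood and over the strictly henselian scheme. -/
theorem exists_lift_base (V : S.Etale) (t : (Scheme.pointSmallEtale η).fiber.obj V) :
    ∃ m : pullback (pullback.fst V.hom g) (locLift R ρ σ η hη V t) ⟶ pullback g σ,
      m ≫ toNbhd R ρ σ η hη g V t = pullback.fst _ _ := by
  let σV := locLift R ρ σ η hη V t
  let gV := pullback.fst V.hom g
  let m : pullback gV σV ⟶ pullback g σ :=
    pullback.lift (pullback.fst gV σV ≫ pullback.snd V.hom g) (pullback.snd gV σV) (by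
      rw [Category.assoc, ← pullback.condition, pullback.condition_assoc, locLift_hom])
  refine ⟨m, ?_⟩
  apply pullback.hom_ext
  · refine (Category.assoc _ _ _).trans ((congrArg (m ≫ ·) (pullback.lift_fst _ _ _)).trans ?_)
    exact (Category.assoc _ _ _).symm.trans ((congrArg (· ≫ σV) (pullback.lift_snd _ _ _)).trans
      pullback.condition.symm)
  · exact (Category.assoc _ _ _).trans ((congrArg (m ≫ ·) (pullback.lift_snd _ _ _)).trans
      (pullback.lift_fst _ _ _))

include ρ hη in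
set_option maxHeartbeats 2000000 in
/-- **Sections on the base change to a strictly henselian scheme come from neighbourhoods.** -/
theorem exists_stage_section :
    ∃ (V : S.Etale) (t : (Scheme.pointSmallEtale η).fiber.obj V) (s : F.obj.obj (op ((EtCoh.bc g).obj V))),
      ∀ (K : Type u) [Field K] [IsSepClosed K] (pt : Spec (CommRingCat.of K) ⟶ pullback g σ),
        Rel (pullback.fst g σ) F y pt ((EtCoh.bc g).obj V) (pt ≫ toNbhd R ρ σ η hη g V t) s := by
  classical
  choose Vp tp Wp bp τp hVp hcp hqp hvp hpp using exists_piece R ρ σ η hη g F y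
  -- finitely many pieces
  haveI : CompactSpace ↥(pullback g σ) := QuasiCompact.compactSpace_of_compactSpace (pullback.snd g σ)
  have hopen : ∀ p, IsOpen ((toNbhd R ρ σ η hη g (Vp p) (tp p)).base ⁻¹' Set.range (bp p).left.base) :=
    fun p => (isOpenMap_left (bp p)).isOpen_range.preimage (toNbhd R ρ σ η hη g (Vp p) (tp p)).continuous
  obtain ⟨I, hI⟩ := isCompact_univ.elim_finite_subcover _ hopen fun p _ => Set.mem_iUnion.2 ⟨p, hpp p⟩
  obtain ⟨V', t', d, hV', hd⟩ := exists_common_nbhd η (fun i : I => Vp i.1) (fun i => tp i.1)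
  haveI := hV'
  haveI : Etale V'.hom := V'.prop
  let T' := (EtCoh.bc g).obj V'
  haveI : ∀ i : I, IsAffine (Vp i.1).left := fun i => hVp i.1
  haveI : ∀ i : I, IsAffineHom (d i).left := fun i => isAffineHom_of_isAffine _
  let dT : ∀ i : I, T' ⟶ (EtCoh.bc g).obj (Vp i.1) := fun i => (EtCoh.bc g).map (d i)
  haveI : ∀ i : I, IsAffineHom (dT i).left := fun i =>
    MorphismProperty.of_isPullback (P := @IsAffineHom) (EtCoh.isPullback_bc_map g (d i)).flip inferInstance
  haveI : ∀ i : I, Etale (bp i.1).left := fun i => inferInstance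
  haveI : IsAffine ((𝟭 Scheme).obj V'.left) := hV'
  haveI : CompactSpace ↥T'.left := compactSpace_pullback' g V'.hom
  haveI : QuasiSeparatedSpace ↥T'.left := quasiSeparatedSpace_pullback' g V'.hom
  haveI : Etale T'.hom := T'.prop
  let W' : I → T.Etale := fun i => Scheme.Etale.mk (pullback.snd (bp i.1).left (dT i).left ≫ T'.hom)
  let b' : ∀ i : I, W' i ⟶ T' := fun i =>
    MorphismProperty.Over.homMk (pullback.snd (bp i.1).left (dT i).left) rfl
  let a' : ∀ i : I, W' i ⟶ Wp i.1 := fun i =>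
    MorphismProperty.Over.homMk (pullback.fst (bp i.1).left (dT i).left) (by
      show pullback.fst _ _ ≫ (Wp i.1).hom = pullback.snd _ _ ≫ T'.hom
      rw [← MorphismProperty.Over.w (bp i.1), pullback.condition_assoc, MorphismProperty.Over.w (dT i)])
  let τ' : ∀ i : I, F.obj.obj (op (W' i)) := fun i => F.obj.map (a' i).op (τp i.1)
  have hvalid : ∀ (i : I) (K : Type u) [Field K] [IsSepClosed K] (pt : Spec (CommRingCat.of K) ⟶ pullback g σ)
      (l : Spec (CommRingCat.of K) ⟶ (W' i).left),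
      l ≫ (b' i).left = pt ≫ toNbhd R ρ σ η hη g V' t' →
      Rel (pullback.fst g σ) F y pt (W' i) l (τ' i) := by
    intro i K _ _ pt l hl
    rw [rel_res]
    refine hvp i.1 K pt _ ?_
    refine ((Category.assoc _ _ _).trans (congrArg (l ≫ ·) pullback.condition)).trans ?_
    refine ((Category.assoc _ _ _).symm.trans (congrArg (· ≫ (dT i).left) hl)).trans ?_
    exact (Category.assoc _ _ _).trans (congrArg (pt ≫ ·) (evPt_map g R ρ σ η hη _ _ pullback.condition (d i) t' (hd i)))
  haveI : ∀ i : I, CompactSpace ↥(W' i).left := fun i => by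
    haveI := hcp i.1
    let f : pullback (bp i.1).left (dT i).left ⟶ (Wp i.1).left := pullback.fst _ _
    haveI hA : IsAffineHom f :=
      MorphismProperty.pullback_fst (P := @IsAffineHom) _ _ inferInstance
    haveI : QuasiCompact f := inferInstance
    have h := QuasiCompact.compactSpace_of_compactSpace f
    exact h
  haveI : ∀ i : I, QuasiSeparatedSpace ↥(W' i).left := fun i => by
    haveI := hqp i.1
    let f : pullback (bp i.1).left (dT i).left ⟶ (Wp i.1).left := pullback.fst _ _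
    haveI : IsAffineHom f :=
      MorphismProperty.pullback_fst (P := @IsAffineHom) _ _ inferInstance
    haveI : IsSeparated f := IsSeparated.of_isAffineHom f
    haveI : QuasiSeparated f := inferInstance
    have h := quasiSeparatedSpace_of_quasiSeparated f
    exact h
  -- over the common neighbourhood
  let σ' := locLift R ρ σ η hη V' t'
  haveI : WeaklyEtale (σ' ≫ V'.hom) := by rw [locLift_hom]; infer_instance
  haveI : WeaklyEtale σ' := WeaklyEtale.of_comp σ' V'.hom
  have hη' : locPt R ρ ≫ σ' = t'.left := locPt_locLift R ρ σ η hη V' t'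
  let g' := pullback.fst V'.hom g
  obtain ⟨m, hm⟩ := exists_lift_base R ρ σ η hη g V' t'
  -- covering
  let M : T'.left.Opens := ⨆ i : I, ⟨Set.range (b' i).left.base, (isOpenMap_left (b' i)).isOpen_range⟩
  have hM : ∀ z : ↥(pullback g' σ'), pullback.fst g' σ' z ∈ M := fun z => by
    obtain ⟨p, hp, w, hw⟩ := Set.mem_iUnion₂.1 (hI (Set.mem_univ (m z)))
    refine TopologicalSpace.Opens.mem_iSup.2 ⟨⟨p, hp⟩, ?_⟩
    obtain ⟨q, -, hq⟩ := Scheme.Pullback.exists_preimage_pullback (f := (bp p).left) (g := (dT ⟨p, hp⟩).left)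
      w (toNbhd R ρ σ η hη g V' t' (m z)) (hw.trans (congrArg
        (fun k : pullback g σ ⟶ ((EtCoh.bc g).obj (Vp p)).left => k (m z))
        (evPt_map g R ρ σ η hη _ _ pullback.condition (d ⟨p, hp⟩) t' (hd ⟨p, hp⟩))).symm)
    refine ⟨q, hq.trans ?_⟩
    exact congrArg (fun k : pullback g' σ' ⟶ T'.left => k z) hm
  obtain ⟨VM, tM, -, hVM⟩ := exists_nbhd_top R ρ σ' t'.left hη' g' M hM
  -- overlaps
  let Q : I × I → Scheme.{u} := fun ij => pullback (b' ij.1).left (b' ij.2).left
  let cQ : ∀ ij : I × I, Q ij ⟶ pullback (W' ij.1).hom (W' ij.2).hom := fun ij =>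
    pullback.lift (pullback.fst _ _) (pullback.snd _ _) (by
      rw [← MorphismProperty.Over.w (b' ij.1), ← MorphismProperty.Over.w (b' ij.2), pullback.condition_assoc])
  let h : ∀ ij : I × I, Q ij ⟶ V'.left := fun ij => (pullback.fst _ _ ≫ (b' ij.1).left) ≫ g'
  have hpairs : ∀ ij : I × I, ∃ (V : V'.left.Etale) (_ : (Scheme.pointSmallEtale t'.left).fiber.obj V),
      IsAffine V.left ∧
        ∀ q : ↥(pullback V.hom (h ij)), pullback.snd V.hom (h ij) q ∈
          cQ ij ⁻¹ᵁ agree F (W' ij.1) (W' ij.2) (τ' ij.1) (τ' ij.2) := by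
    intro ij
    haveI : QuasiCompact (b' ij.1).left := quasiCompact_of_compactSpace _
    haveI : QuasiCompact (pullback.snd (b' ij.1).left (b' ij.2).left) := MorphismProperty.pullback_snd _ _ ‹_›
    haveI : QuasiSeparated (pullback.snd (b' ij.1).left (b' ij.2).left) :=
      MorphismProperty.pullback_snd _ _ (inferInstanceAs (QuasiSeparated (b' ij.1).left))
    haveI : CompactSpace ↥(Q ij) := QuasiCompact.compactSpace_of_compactSpace (pullback.snd (b' ij.1).left (b' ij.2).left)
    haveI : QuasiSeparatedSpace ↥(Q ij) := quasiSeparatedSpace_of_quasiSeparated (pullback.snd (b' ij.1).left (b' ij.2).left)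
    haveI : QuasiCompact (h ij) := quasiCompact_of_compactSpace _
    obtain ⟨V, tV, hV, hV'⟩ := exists_nbhd_top R ρ σ' t'.left hη' (h ij)
      (cQ ij ⁻¹ᵁ agree F (W' ij.1) (W' ij.2) (τ' ij.1) (τ' ij.2)) fun z => by
        let ζ := geomPoint z
        let qz := ζ ≫ pullback.fst (h ij) σ'
        let li := qz ≫ pullback.fst (b' ij.1).left (b' ij.2).left
        let lj := qz ≫ pullback.snd (b' ij.1).left (b' ij.2).left
        let mz : Spec (CommRingCat.of _) ⟶ pullback g' σ' :=
          pullback.lift (li ≫ (b' ij.1).left) (ζ ≫ pullback.snd (h ij) σ') (by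
            simp only [li, qz, Category.assoc]
            rw [← pullback.condition (f := h ij) (g := σ')]
            simp only [h, Category.assoc]
            rfl)
        have hpt : (mz ≫ m) ≫ toNbhd R ρ σ η hη g V' t' = li ≫ (b' ij.1).left :=
          (Category.assoc _ _ _).trans ((congrArg (mz ≫ ·) hm).trans (pullback.lift_fst _ _ _))
        have hlij : li ≫ (b' ij.1).left = lj ≫ (b' ij.2).left := by
          simp only [li, lj, Category.assoc, pullback.condition]
        have r₁ := hvalid ij.1 _ (mz ≫ m) li hpt.symm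
        have r₂ := hvalid ij.2 _ (mz ≫ m) lj (hpt.trans hlij).symm
        have h' := (mem_agree_iff F (W' ij.1) (W' ij.2) (τ' ij.1) (τ' ij.2) (li ≫ (W' ij.1).hom)
          (qz ≫ cQ ij) li rfl ((Category.assoc _ _ _).trans (congrArg (qz ≫ ·) (pullback.lift_fst _ _ _))) lj
          (r₂.1.trans r₁.1.symm)
          ((Category.assoc _ _ _).trans (congrArg (qz ≫ ·) (pullback.lift_snd _ _ _)))).2
          (r₁.sg_eq r₂ _ rfl (r₂.1.trans r₁.1.symm))
        show cQ ij (pullback.fst (h ij) σ' z) ∈ agree F _ _ _ _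
        refine Set.mem_of_eq_of_mem (y := (qz ≫ cQ ij) default) ?_ h'
        simp only [qz, Scheme.Hom.comp_apply]
        rw [geomPoint_apply]
    exact ⟨V, tV, hV, hV'⟩
  choose Vq tq _ hVq using hpairs
  obtain ⟨Vc, tc, dc, hVc, hdc⟩ := exists_common_nbhd t'.left
    (fun o : Option (I × I) => o.elim VM Vq)
    (fun o => match o with | none => tM | some ij => tq ij)
  haveI : Etale Vc.hom := Vc.prop
  let vc : Vc.left ⟶ V'.left := Vc.hom
  haveI : Etale vc := Vc.prop
  let V : S.Etale := Scheme.Etale.mk (vc ≫ V'.hom)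
  let dV : V ⟶ V' := MorphismProperty.Over.homMk vc rfl
  let t : (Scheme.pointSmallEtale η).fiber.obj V := Over.homMk tc.left
    ((Category.assoc _ _ _).symm.trans ((congrArg (· ≫ V'.hom) (Over.w tc)).trans (Over.w t')))
  have ht : (Scheme.pointSmallEtale η).fiber.map dV t = t' := Over.OverMorphism.ext (Over.w tc)
  let B := (EtCoh.bc g).obj V
  let dB : B ⟶ T' := (EtCoh.bc g).map dV
  have hdB : dB.left ≫ g' = pullback.fst V.hom g ≫ Vc.hom := (EtCoh.isPullback_bc_map g dV).w
  haveI : Etale B.hom := B.prop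
  let W : I → T.Etale := fun i => Scheme.Etale.mk (pullback.snd (b' i).left dB.left ≫ B.hom)
  let b : ∀ i : I, W i ⟶ B := fun i => MorphismProperty.Over.homMk (pullback.snd (b' i).left dB.left) rfl
  let a : ∀ i : I, W i ⟶ W' i := fun i =>
    MorphismProperty.Over.homMk (pullback.fst (b' i).left dB.left) (by
      show pullback.fst _ _ ≫ (W' i).hom = pullback.snd _ _ ≫ B.hom
      rw [← MorphismProperty.Over.w (b' i), pullback.condition_assoc, MorphismProperty.Over.w dB])
  have hcov : ∀ z : B.left, ∃ i v, (b i).left v = z := fun z => by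
    let l : B.left ⟶ pullback VM.hom g' := pullback.lift (pullback.fst V.hom g ≫ (dc none).left) dB.left
      ((Category.assoc _ _ _).trans ((congrArg (pullback.fst V.hom g ≫ ·)
        (MorphismProperty.Over.w (dc none))).trans hdB.symm))
    have h1 : dB.left z ∈ M := Set.mem_of_eq_of_mem
      (congrArg (fun k : B.left ⟶ T'.left => k z) (pullback.lift_snd _ _ _ : l ≫ pullback.snd VM.hom g' = dB.left)).symm
      (hVM (l z))
    obtain ⟨i, w, hw⟩ := TopologicalSpace.Opens.mem_iSup.1 h1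
    obtain ⟨v, -, hv⟩ := Scheme.Pullback.exists_preimage_pullback (f := (b' i).left) (g := dB.left) w z hw
    exact ⟨i, v, hv⟩
  obtain ⟨s, hs⟩ := exists_glue_points F W b hcov (fun i => F.obj.map (a i).op (τ' i)) (by
    intro i j K _ _ li lj hh he
    let ij : I × I := (i, j)
    let li' := li ≫ (a i).left
    let lj' := lj ≫ (a j).left
    have ea : ∀ (i : I), (a i).left ≫ (b' i).left = (b i).left ≫ dB.left := fun i => pullback.condition
    have e1 : li' ≫ (b' i).left = lj' ≫ (b' j).left := by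
      simp only [li', lj', Category.assoc, ea]
      rw [← Category.assoc, ← Category.assoc, he]
    let qK : Spec (CommRingCat.of K) ⟶ Q ij := pullback.lift li' lj' e1
    let u : Spec (CommRingCat.of K) ⟶ (Vq ij).left :=
      (li ≫ (b i).left ≫ pullback.fst V.hom g) ≫ (dc (some ij)).left
    have hu : u ≫ (Vq ij).hom = qK ≫ h ij := by
      have h1 : qK ≫ h ij = (li ≫ (b i).left) ≫ dB.left ≫ g' := by
        simp only [h, qK, ← Category.assoc, pullback.lift_fst]
        simp only [li', Category.assoc]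
        rw [reassoc_of% (ea i)]
      rw [h1, hdB]
      refine (Category.assoc _ _ _).trans ((congrArg ((li ≫ (b i).left ≫ pullback.fst V.hom g) ≫ ·)
        (MorphismProperty.Over.w (dc (some ij)))).trans ?_)
      simp only [Category.assoc]
      rfl
    let z : Spec (CommRingCat.of K) ⟶ pullback (Vq ij).hom (h ij) := pullback.lift u qK hu
    have hmem : (qK ≫ cQ ij) default ∈ agree F (W' i) (W' j) (τ' i) (τ' j) := by
      have := hVq ij (z default)
      refine Set.mem_of_eq_of_mem ?_ this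
      rw [Scheme.Hom.comp_apply]
      exact congrArg _ (congrArg (fun k : Spec (CommRingCat.of K) ⟶ Q ij => k default)
        (pullback.lift_snd _ _ _ : z ≫ pullback.snd (Vq ij).hom (h ij) = qK)).symm
    have hi : li' ≫ (W' i).hom = li ≫ (W i).hom :=
      (Category.assoc _ _ _).trans (congrArg (li ≫ ·) (MorphismProperty.Over.w (a i)))
    have hj : lj' ≫ (W' j).hom = li ≫ (W i).hom :=
      ((Category.assoc _ _ _).trans (congrArg (lj ≫ ·) (MorphismProperty.Over.w (a j)))).trans hh
    have e2 := (mem_agree_iff F (W' i) (W' j) (τ' i) (τ' j) (li ≫ (W i).hom) (qK ≫ cQ ij) li' hi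
      ((Category.assoc _ _ _).trans ((congrArg (qK ≫ ·) (pullback.lift_fst _ _ _)).trans (pullback.lift_fst _ _ _)))
      lj' hj
      ((Category.assoc _ _ _).trans ((congrArg (qK ≫ ·) (pullback.lift_snd _ _ _)).trans (pullback.lift_snd _ _ _)))).1
      hmem
    rw [sg_res F _ (a i) li rfl li' hi rfl (τ' i), sg_res F _ (a j) lj hh lj' hj rfl (τ' j)]
    exact e2)
  refine ⟨V, t, s, fun K _ _ pt => ?_⟩
  let ptB := pt ≫ toNbhd R ρ σ η hη g V t
  obtain ⟨i, v, hv⟩ := hcov (ptB default)
  haveI : Etale (b i).left := inferInstance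
  obtain ⟨l, hl, -⟩ := Scheme.exists_fac_of_etale_of_isSepClosed (b i).left ptB v hv
  have hl' : (l ≫ (a i).left) ≫ (b' i).left = pt ≫ toNbhd R ρ σ η hη g V' t' := by
    rw [Category.assoc, show (a i).left ≫ (b' i).left = (b i).left ≫ dB.left from pullback.condition]
    refine ((Category.assoc _ _ _).symm.trans (congrArg (· ≫ dB.left) hl)).trans ?_
    exact (Category.assoc _ _ _).trans (congrArg (pt ≫ ·) (evPt_map g R ρ σ η hη _ _ pullback.condition dV t ht))
  have r : Rel (pullback.fst g σ) F y pt (W i) l (F.obj.map (a i).op (τ' i)) := by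
    rw [rel_res]
    exact hvalid i K pt _ hl'
  rw [← hs i, rel_res] at r
  exact (congrArg (fun k => Rel (pullback.fst g σ) F y pt B k s) hl).mp r

end Groth.ZeroAcyclic
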