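import Groth.Prelude.Def_EtAcyc
import Groth.Agent.S0537
import Groth.Agent.S0754
import Groth.Agent.S3473
import Groth.Agent.FlatMor2.WeaklyEtaleHens.Main
import Groth.Agent.Hensel1.DimOneBranches
import Groth.Agent.EtaleBase.Limit.StrictCriterion
import Groth.Agent.DescentBase.TopDescent

/-!
Morphisms of strictly henselian local schemes, weakly étale over a base change of a universally
locally zero acyclic morphism, are zero acyclic; such morphisms are universally generalizing.
-/

set_option autoImplicit false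
set_option linter.style.haveILetI false

universe u

open CategoryTheory CategoryTheory.Limits AlgebraicGeometry Opposite IsLocalRing

namespace Groth.ZeroAcyclic

/-- Quasi-compact quasi-separated zero acyclic morphisms are surjective. -/
theorem surjective_of_isZeroAcyclic {Q P : Scheme.{u}} (p : Q ⟶ P) [QuasiCompact p] [QuasiSeparated p]
    (h : EtAcyc.IsZeroAcyclic p) : Function.Surjective p.base :=
  (Groth.Agent.S3473.result p).2 fun V F => haveI := h V F; inferInstance

section Self

variable {R : Type u} [CommRing R] [HenselianLocalRing R]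

/-- The isomorphism from the stalk at the closed point. -/
theorem exists_stalk_equiv (p : Spec (CommRingCat.of R)) (hp : p = closedPoint R) :
    ∃ φ : (Spec (CommRingCat.of R)).presheaf.stalk p ≃+* R,
      Spec.map (CommRingCat.ofHom φ.toRingHom) ≫ (Spec (CommRingCat.of R)).fromSpecStalk p = 𝟙 _ := by
  subst hp
  refine ⟨(stalkClosedPointIso (CommRingCat.of R)).commRingCatIsoToRingEquiv, ?_⟩
  rw [← Spec_stalkClosedPointIso (CommRingCat.of R)]
  exact (Spec.map_comp _ _).symm.trans ((congrArg Spec.map (stalkClosedPointIso (CommRingCat.of R)).inv_hom_id).trans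
    (Spec.map_id _))

/-- A strictly henselian ring is a strict henselization of every local ring it is weakly étale over. -/
theorem isStrictHenselization_of_self (A : Type u) [CommRing A] [IsLocalRing A] [Algebra A R]
    [IsLocalHom (algebraMap A R)] [Algebra.WeaklyEtale A R] [IsSepClosed (ResidueField R)] :
    Hensel.IsStrictHenselization A R := by
  obtain ⟨_, _⟩ := Groth.Hensel1.isStrictHenselization_self R
  exact Groth.FlatMor2.WeaklyEtaleHens.isStrictHenselization_of_weaklyEtale A R R

end Self

variable {X S : Scheme.{u}} (f : X ⟶ S)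

set_option maxHeartbeats 1000000 in
/-- Strictly henselian local schemes weakly étale over a base change to a strictly henselian local
scheme. -/
theorem isZeroAcyclic_of_weaklyEtale (hf : EtAcyc.IsULocZeroAcyclic f)
    (RS RX : Type u) [CommRing RS] [CommRing RX] [HenselianLocalRing RS] [HenselianLocalRing RX]
    [IsSepClosed (ResidueField RS)] [IsSepClosed (ResidueField RX)]
    (σ : Spec (CommRingCat.of RS) ⟶ S) (ψ : RS →+* RX) [IsLocalHom ψ]
    (k : Spec (CommRingCat.of RX) ⟶ pullback f σ) [WeaklyEtale k]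
    (hk : k ≫ pullback.snd f σ = Spec.map (CommRingCat.ofHom ψ)) :
    EtAcyc.IsZeroAcyclic (Spec.map (CommRingCat.ofHom ψ)) := by
  let g₁ := pullback.snd f σ
  let x₁ := k (closedPoint RX)
  have hy : g₁ x₁ = closedPoint RS := by
    rw [← Scheme.Hom.comp_apply, hk]
    exact comap_closedPoint ψ
  obtain ⟨φ, hφ⟩ := exists_stalk_equiv (g₁ x₁) hy
  let A := (Spec (CommRingCat.of RS)).presheaf.stalk (g₁ x₁)
  let B := (pullback f σ).presheaf.stalk x₁
  letI : Algebra A RS := φ.toRingHom.toAlgebra
  haveI : IsLocalHom (algebraMap A RS) := ⟨fun a ha => (isUnit_map_iff φ a).1 ha⟩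
  haveI : Algebra.WeaklyEtale A RS := Groth.FlatMor2.isWeaklyEtaleHom_iff.1
    (Groth.FlatMor2.IsWeaklyEtaleHom.of_bijective φ.bijective)
  haveI := isStrictHenselization_of_self (R := RS) A
  let α : B ⟶ CommRingCat.of RX := Scheme.stalkClosedPointTo k
  letI : Algebra B RX := α.hom.toAlgebra
  haveI : IsLocalHom (algebraMap B RX) := inferInstanceAs (IsLocalHom α.hom)
  haveI : Algebra.WeaklyEtale B RX := by
    refine Groth.FlatMor2.isWeaklyEtaleHom_iff.1 ?_
    exact ((Groth.FlatMor2.weaklyEtale_iff_stalkMap k).1 ‹_› _).comp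
      (Groth.FlatMor2.IsWeaklyEtaleHom.of_bijective
        (stalkClosedPointIso (CommRingCat.of RX)).commRingCatIsoToRingEquiv.bijective)
  haveI := isStrictHenselization_of_self (R := RX) B
  letI : Algebra RS RX := ψ.toAlgebra
  haveI : IsLocalHom (algebraMap RS RX) := ‹IsLocalHom ψ›
  refine hf g₁ (pullback.fst f σ) σ (IsPullback.of_hasPullback f σ) x₁ RS RX ?_
  have h1 : Spec.map α ≫ (pullback f σ).fromSpecStalk x₁ = k :=
    Scheme.Spec_stalkClosedPointTo_fromSpecStalk k
  have h2 : CommRingCat.ofHom φ.toRingHom ≫ CommRingCat.ofHom ψ = g₁.stalkMap x₁ ≫ α := by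
    apply Spec.map_injective
    rw [← cancel_mono ((Spec (CommRingCat.of RS)).fromSpecStalk (g₁ x₁)), Spec.map_comp, Spec.map_comp,
      Category.assoc, Category.assoc, hφ, Category.comp_id, Scheme.SpecMap_stalkMap_fromSpecStalk,
      reassoc_of% h1]
    exact hk.symm
  exact congrArg CommRingCat.Hom.hom h2

/-- The maps of strict localisations factor through weakly étale maps to base changes. -/
theorem exists_weaklyEtale_lift (x : X) (RS : Type u) [CommRing RS] [IsLocalRing RS]
    [Algebra (S.presheaf.stalk (f.base x)) RS] [IsLocalHom (algebraMap (S.presheaf.stalk (f.base x)) RS)]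
    [Hensel.IsStrictHenselization (S.presheaf.stalk (f.base x)) RS]
    (RX : Type u) [CommRing RX] [IsLocalRing RX] [Algebra (X.presheaf.stalk x) RX]
    [IsLocalHom (algebraMap (X.presheaf.stalk x) RX)] [Hensel.IsStrictHenselization (X.presheaf.stalk x) RX]
    (ψ : RS →+* RX)
    (hψ : ψ.comp (algebraMap (S.presheaf.stalk (f.base x)) RS) =
      (algebraMap (X.presheaf.stalk x) RX).comp (f.stalkMap x).hom) :
    ∃ k : Spec (CommRingCat.of RX) ⟶ pullback f (Hens2.specOf S (f.base x) RS),
      WeaklyEtale k ∧ k ≫ pullback.fst _ _ = Hens2.specOf X x RX ∧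
      k ≫ pullback.snd _ _ = Spec.map (CommRingCat.ofHom ψ) := by
  haveI := Groth.Agent.S0754.result S (f.base x) RS
  let k : Spec (CommRingCat.of RX) ⟶ pullback f (Hens2.specOf S (f.base x) RS) :=
    pullback.lift (Hens2.specOf X x RX) (Spec.map (CommRingCat.ofHom ψ))
      (Groth.EtaleBase.EtLimit.specOf_compat f x RS RX ψ hψ).symm
  haveI : WeaklyEtale (k ≫ pullback.fst _ _) := by
    rw [pullback.lift_fst]
    exact Groth.Agent.S0754.result X x RX
  exact ⟨k, WeaklyEtale.of_comp k (pullback.fst _ _), pullback.lift_fst _ _ _, pullback.lift_snd _ _ _⟩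

/-- Locally zero acyclic morphisms are generalizing. -/
theorem generalizingMap_of_isLocZeroAcyclic (h : EtAcyc.IsLocZeroAcyclic f) : GeneralizingMap f.base := by
  intro x y (hy : y ⤳ f x)
  obtain ⟨RY, _, _, _, _, _⟩ := Groth.Agent.S0537.result (S.presheaf.stalk (f x))
  obtain ⟨RX, _, _, _, _, _⟩ := Groth.Agent.S0537.result (X.presheaf.stalk x)
  obtain ⟨ψ, _, hψ⟩ := Groth.EtaleBase.EtLimit.exists_strictHenselization_map (S.presheaf.stalk (f x))
    (X.presheaf.stalk x) (f.stalkMap x).hom RY RX
  letI : Algebra RY RX := ψ.toAlgebra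
  haveI : IsLocalHom (algebraMap RY RX) := ‹IsLocalHom ψ›
  have hs := surjective_of_isZeroAcyclic _ (h x RY RX hψ)
  haveI := Groth.FlatMor2.WeaklyEtaleHens.weaklyEtale_of_isStrictHenselization (S.presheaf.stalk (f x)) RY
  haveI : Module.Flat (S.presheaf.stalk (f x)) RY := Algebra.WeaklyEtale.flat
  haveI : Module.FaithfullyFlat (S.presheaf.stalk (f x)) RY := Module.FaithfullyFlat.of_flat_of_isLocalHom
  obtain ⟨P, rfl⟩ := Scheme.range_fromSpecStalk.ge hy
  obtain ⟨Q, rfl⟩ := PrimeSpectrum.comap_surjective_of_faithfullyFlat (A := S.presheaf.stalk (f x)) (B := RY) P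
  obtain ⟨R, rfl⟩ := hs Q
  refine ⟨Hens2.specOf X x RX R, Scheme.range_fromSpecStalk.le ⟨_, rfl⟩, ?_⟩
  exact congrArg (fun m : Spec (CommRingCat.of RX) ⟶ S => m R)
    (Groth.EtaleBase.EtLimit.specOf_compat f x RY RX ψ hψ).symm

/-- Universally generalizing morphisms. -/
abbrev UGen : MorphismProperty Scheme.{u} := (topologically GeneralizingMap).universally

instance : MorphismProperty.IsStableUnderComposition (topologically GeneralizingMap : MorphismProperty Scheme.{u}) :=
  ⟨fun f g hf hg => (GeneralizingMap.comp hf hg : _)⟩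

theorem ugen_of_flat {A B : Scheme.{u}} (g : A ⟶ B) [Flat g] : UGen g :=
  fun _ _ _ _ g' hg' =>
    haveI : Flat g' := MorphismProperty.of_isPullback hg'.flip ‹_›
    Flat.generalizingMap g'

theorem ugen_of_isULocZeroAcyclic (hf : EtAcyc.IsULocZeroAcyclic f) : UGen f :=
  fun _ _ _ _ g' hg' => generalizingMap_of_isLocZeroAcyclic g' (hf g' _ _ hg'.flip)

/-- The maps of strict localisations are universally generalizing. -/
theorem ugen_of_weaklyEtale (hf : EtAcyc.IsULocZeroAcyclic f) {Q P : Scheme.{u}} (σ : P ⟶ S)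
    (k : Q ⟶ pullback f σ) [WeaklyEtale k] (p : Q ⟶ P) (hk : k ≫ pullback.snd f σ = p) : UGen p := by
  rw [← hk]
  exact MorphismProperty.comp_mem _ _ _ (ugen_of_flat k)
    (MorphismProperty.of_isPullback (P := UGen) (IsPullback.of_hasPullback f σ) (ugen_of_isULocZeroAcyclic f hf))

/-- Surjective quasi-compact universally generalizing morphisms give quotient maps after base change. -/
theorem isQuotientMap_snd_of_ugen {A B C : Scheme.{u}} (g : A ⟶ B) (hg : UGen g) [QuasiCompact g]
    [Surjective g] (c : C ⟶ B) : Topology.IsQuotientMap (pullback.snd g c).base :=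
  Groth.DescentBase.isQuotientMap_of_generalizing _
    (hg _ _ _ (IsPullback.of_hasPullback g c).flip)

end Groth.ZeroAcyclic
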